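import Cfsg.Agent.Hz.ZD
import Cfsg.Agent.BS.SECor

/-! A relative form of the theorem; the action on the Sylow 2-subgroups. -/

set_option autoImplicit false

namespace Hz

open Cfsg Subgroup FT H4 BS

universe u

section Gen

variable {G : Type*} [Group G] {Ω : Type*} [MulAction G Ω]

/-- pointwise stabilizer -/
def Fixer (G : Type*) [Group G] {Ω : Type*} [MulAction G Ω] (Δ : Set Ω) : Subgroup G where
  carrier := {g | ∀ z ∈ Δ, g • z = z}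
  one_mem' := fun _ _ => one_smul _ _
  mul_mem' := fun ha hb z hz => by rw [mul_smul, hb z hz, ha z hz]
  inv_mem' := fun ha z hz => smul_inv_of (ha z hz)

theorem mem_Fixer {Δ : Set Ω} {g : G} : g ∈ Fixer G Δ ↔ ∀ z ∈ Δ, g • z = z := Iff.rfl

/-- the hypothesis modulo the kernel of the action of `M` on `Δ` -/
structure ZR (A T : Ω → Subgroup G) (q : ℕ) (M : Subgroup G) (Δ : Set Ω) : Prop where
  inv : ∀ g ∈ M, ∀ x ∈ Δ, g • x ∈ Δ
  le : ∀ x ∈ Δ, A x ≤ M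
  card : ∀ x ∈ Δ, (Fixer G Δ).relIndex (A x) = q
  four : 4 ≤ q
  sq : ∀ x ∈ Δ, ∀ a ∈ A x, a * a ∈ Fixer G Δ
  conj : ∀ g ∈ M, ∀ x ∈ Δ, ∀ a ∈ A x, g * a * g⁻¹ ∈ A (g • x)
  memT : ∀ x g, g ∈ T x ↔ g • x = x ∧ Two g
  fix : ∀ x ∈ Δ, ∀ a ∈ A x, a • x = x
  cen : ∀ x ∈ Δ, ∀ a ∈ A x, ∀ g ∈ T x, g ∈ M → (g * a)⁻¹ * (a * g) ∈ Fixer G Δ
  uniq : ∀ x ∈ Δ, ∀ y ∈ Δ, ∀ a ∈ A x, a • y = y → y = x ∨ a ∈ Fixer G Δ

variable {A T : Ω → Subgroup G} {q : ℕ} [Finite G] {X : Type*} [Group X] [MulAction X Ω]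
  {f : G →* X}

theorem Cn.of_map' (hT : ∀ x g, g ∈ T x ↔ g • x = x ∧ Two g) (hc : ∀ g (x : Ω), f g • x = g • x)
    (c : Cn (fun x => (A x).map f) (fun x => (T x).map f) q) : Cn A T q := by
  refine ⟨fun g hg x y hne h1 h2 z => ?_, fun x y z h1 h2 => ?_, fun x y hy h1 => ?_, ?_⟩
  · rw [← hc] at h1 h2 ⊢
    exact c.s1 _ (hg.map f) x y hne h1 h2 z
  · obtain ⟨_, ⟨s, hs, rfl⟩, h3, h4⟩ := c.s2 x y z h1 h2
    rw [← Subgroup.map_iSup] at h3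
    obtain ⟨l, hl, e⟩ := h3
    obtain ⟨k, h5, h6⟩ := exists_two_lift f (g := l) (e ▸ ((hT _ _).1 hs).2.map f)
    exact ⟨l ^ k, (hT _ _).2 ⟨by rw [← hc, h6, e, hc, ((hT _ _).1 hs).1], h5⟩, pow_mem hl k,
      by rw [← hc, h6, e, h4]⟩
  · obtain ⟨_, ⟨a, ha, rfl⟩, h2⟩ := c.s3 x (f y) ⟨y, hy, rfl⟩ fun z => by
      rw [← map_mul, hc, h1]
    exact ⟨a, ha, fun z => by rw [← hc, h2, hc]⟩
  · refine c.s4.imp_right fun ⟨h1, h2⟩ => ⟨h1, fun x => ?_⟩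
    obtain ⟨_, ⟨y, hy, rfl⟩, _, ⟨y', hy', rfl⟩, z, h3⟩ := h2 x
    exact ⟨y, hy, y', hy', z, by rwa [← map_mul, ← map_mul, hc, hc] at h3⟩

end Gen

section Rel

variable {G Ω : Type u} [Group G] [Finite G] [MulAction G Ω] [Finite Ω] {A T : Ω → Subgroup G}
  {q : ℕ} {M : Subgroup G} {Δ : Set Ω}

theorem ZR.main (h : ZR A T q M Δ) {x0 y0 : Ω} (hx0 : x0 ∈ Δ) (hy0 : y0 ∈ Δ) (hne : x0 ≠ y0) :
    Ln A T q M Δ ∧ (∀ x ∈ Δ, ∀ y ∈ Δ, ∀ z ∈ Δ, y ≠ x → z ≠ x → ∃ s ∈ T x,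
      s ∈ (⨆ w ∈ Δ, A w) ∧ s • y = z) ∧
      ∀ x ∈ Δ, ∀ a ∈ A x, a ∉ Fixer G Δ → ∀ b ∈ A x, b ∉ Fixer G Δ →
        ∃ k ∈ (⨆ w ∈ Δ, A w), k • x = x ∧ (k * a * k⁻¹)⁻¹ * b ∈ Fixer G Δ := by
  let S : SubMulAction M Ω := ⟨Δ, fun g x hx => h.inv g g.2 x hx⟩
  let f := (MulAction.toPermHom M S).rangeRestrict
  have hc : ∀ g (x : S), f g • x = g • x := fun _ _ => rfl
  have hk : ∀ g : M, f g = 1 ↔ (g : G) ∈ Fixer G Δ := fun g =>
    ⟨fun e z hz => congrArg Subtype.val ((hc g ⟨z, hz⟩).symm.trans (by rw [e, one_smul])),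
      fun e => Subtype.ext (Equiv.ext fun z => Subtype.ext (e z z.2))⟩
  have hk2 : ∀ a b : M, (a : G)⁻¹ * b ∈ Fixer G Δ → f a = f b := fun a b e => by
    have := (hk (a⁻¹ * b)).mpr e
    rwa [map_mul, map_inv, inv_mul_eq_one] at this
  have hT : ∀ (x : S) (g : M), g ∈ (T x).subgroupOf M ↔ g • x = x ∧ Two g := fun x g => by
    rw [mem_subgroupOf, h.memT, two_coe, Subtype.ext_iff]
    rfl
  have z : ZD (fun x : S => ((A x).subgroupOf M).map f) (fun x : S => ((T x).subgroupOf M).map f)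
      q := by
    refine ⟨fun x => ?_, h.four, ?_, ?_, fun x g => ⟨?_, ?_⟩, ?_, ?_, ?_⟩
    · rw [← relIndex_ker, ← h.card x x.2, ← relIndex_subgroupOf (h.le x x.2)]
      congr 1
      exact Subgroup.ext hk
    · rintro x _ ⟨a, ha, rfl⟩
      rw [← map_mul]; exact (hk _).mpr (h.sq x x.2 a ha)
    · rintro g x _ ⟨a, ha, rfl⟩
      obtain ⟨g, rfl⟩ := MonoidHom.rangeRestrict_surjective _ g
      exact ⟨g * a * g⁻¹, h.conj g g.2 x x.2 a ha, by simp [f]⟩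
    · rintro ⟨y, hy, rfl⟩
      exact ⟨((hT _ _).1 hy).1, ((hT _ _).1 hy).2.map f⟩
    · obtain ⟨g, rfl⟩ := MonoidHom.rangeRestrict_surjective _ g
      rintro ⟨h1, h2⟩
      obtain ⟨e, h3, h4⟩ := exists_two_lift f h2
      exact ⟨g ^ e, (hT _ _).2 ⟨smul_pow_of (g := g) h1 e, h3⟩, h4⟩
    · rintro x _ ⟨a, ha, rfl⟩
      exact Subtype.ext (h.fix x x.2 a ha)
    · rintro x _ ⟨a, ha, rfl⟩ _ ⟨g, hg, rfl⟩
      rw [← map_mul, ← map_mul]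
      exact (hk2 _ _ (h.cen x x.2 a ha g hg g.2)).symm
    · rintro x y _ ⟨a, ha, rfl⟩ h1 h2
      exact Subtype.ext ((h.uniq x x.2 y y.2 a ha (congrArg Subtype.val h2)).resolve_right
        fun e => h1 ((hk a).mpr e))
  have ne0 : (⟨x0, hx0⟩ : S) ≠ ⟨y0, hy0⟩ := fun e => hne (congrArg Subtype.val e)
  have c := Cn.of_map' hT hc (z.cn ne0)
  have up : (⨆ w : S, (A w).subgroupOf M) ≤ (⨆ w ∈ Δ, A w).subgroupOf M :=
    iSup_le fun w a ha => le_iSup₂ (f := fun w (_ : w ∈ Δ) => A w) (w : Ω) w.2 ha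
  refine ⟨Ln.of_cn S c, fun x hx y hy w hw h1 h2 => ?_, fun x hx a ha h1 b hb h2 => ?_⟩
  · obtain ⟨s, hs, h3, h4⟩ := c.s2 ⟨x, hx⟩ ⟨y, hy⟩ ⟨w, hw⟩ (fun e => h1 (congrArg Subtype.val e))
      (fun e => h2 (congrArg Subtype.val e))
    exact ⟨s, hs, up h3, congrArg Subtype.val h4⟩
  · obtain ⟨y, hy⟩ : ∃ y : S, (⟨x, hx⟩ : S) ≠ y := by
      by_cases e : (⟨x, hx⟩ : S) = ⟨x0, hx0⟩
      · exact ⟨_, e ▸ ne0⟩
      · exact ⟨_, e⟩
    obtain ⟨_, ⟨w, ⟨c, hc1, rfl⟩, c1⟩, e⟩ := z.exists_swap' hy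
    obtain ⟨_, ⟨w', ⟨c', hc2, rfl⟩, c2⟩, e', h3⟩ := z.exists_K hy ⟨w, ⟨c, hc1, rfl⟩, c1⟩ e
      (a := f ⟨a, h.le x hx ha⟩) (a' := f ⟨b, h.le x hx hb⟩) ⟨_, ha, rfl⟩
      (fun e => h1 ((hk _).mp e)) ⟨_, hb, rfl⟩ fun e => h2 ((hk _).mp e)
    refine ⟨c * c', up (mul_mem (le_iSup (fun w : S => (A w).subgroupOf M) w hc1)
      (le_iSup (fun w : S => (A w).subgroupOf M) w' hc2)),
      ?_, ?_⟩
    · have := z.K_fix ⟨w, ⟨c, hc1, rfl⟩, c1⟩ e e'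
      rw [← map_mul] at this
      exact congrArg Subtype.val this
    refine (hk ((c * c' * ⟨a, h.le x hx ha⟩ * (c * c')⁻¹)⁻¹ * ⟨b, h.le x hx hb⟩)).mp ?_
    rw [map_mul, map_inv, map_mul, map_mul, map_inv, map_mul, h3, inv_mul_cancel]

end Rel

section Syl

variable {G : Type*} [Group G]

/-- the Sylow subgroup as a subgroup -/
abbrev TT (x : Sylow 2 G) : Subgroup G := x

theorem mem_smul {g a : G} {x : Sylow 2 G} : a ∈ TT (g • x) ↔ g⁻¹ * a * g ∈ TT x := by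
  rw [TT, Sylow.coe_subgroup_smul, mem_pointwise_smul_iff_inv_smul_mem]
  simp

theorem conj_mem_smul {a : G} {x : Sylow 2 G} (g : G) (ha : a ∈ TT x) :
    g * a * g⁻¹ ∈ TT (g • x) := mem_smul.mpr (by simpa [mul_assoc] using ha)

theorem TT_smul (g : G) (x : Sylow 2 G) : TT (g • x) = conjS g (TT x) :=
  Subgroup.ext fun _ => mem_smul.trans mem_conjS.symm

theorem smul_eq_iff {g : G} {x : Sylow 2 G} : g • x = x ↔ g ∈ Nor (TT x) :=
  Sylow.smul_eq_iff_mem_normalizer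

theorem St_eq (x : Sylow 2 G) : St G x = Nor (TT x) := Subgroup.ext fun _ => smul_eq_iff

theorem TT_two {x : Sylow 2 G} {g : G} (hg : g ∈ TT x) : Two g := two_of_isPGroup x.isPGroup' hg

theorem TT_fix {x : Sylow 2 G} {g : G} (hg : g ∈ TT x) : g • x = x :=
  smul_eq_iff.mpr (le_normalizer hg)

theorem TT_conj {x : Sylow 2 G} {g a : G} (hg : g • x = x) (ha : a ∈ TT x) :
    g * a * g⁻¹ ∈ TT x := by
  have := conj_mem_smul g ha
  rwa [hg] at this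

theorem Two.isPGroup {g : G} (h : Two g) : IsPGroup 2 (zpowers g) := by
  obtain ⟨k, hk⟩ := h
  exact isPGroup_zpowers hk

theorem exists_TT {P : Subgroup G} (h : IsPGroup 2 P) : ∃ x : Sylow 2 G, P ≤ TT x :=
  h.exists_le_sylow

variable [Finite G]

theorem TT_syl (x : Sylow 2 G) : H5.IsSylowOf 2 (TT x) ⊤ := H5.isSylowOf_top x

theorem memTT (x : Sylow 2 G) (g : G) : g ∈ TT x ↔ g • x = x ∧ Two g :=
  ⟨fun hg => ⟨TT_fix hg, TT_two hg⟩, fun ⟨h1, h2⟩ => (TT_syl x).le_of_le_normalizer' h2.isPGroup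
    le_top (zpowers_le.mpr (smul_eq_iff.mp h1)) (mem_zpowers g)⟩

theorem card_TT (x y : Sylow 2 G) : Nat.card (TT x) = Nat.card (TT y) := by
  rw [(TT_syl x).card_eq, (TT_syl y).card_eq]

theorem exists_smul {C : Subgroup G} {x y : Sylow 2 G} (hx : TT x ≤ C) (hy : TT y ≤ C) :
    ∃ g ∈ C, g • x = y := by
  obtain ⟨g, hg, e⟩ := ((TT_syl x).of_le hx le_top).exists_conj ((TT_syl y).of_le hy le_top)
  exact ⟨g, hg, Sylow.ext ((TT_smul g x).trans e)⟩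

theorem exists_smul_le {C P : Subgroup G} {x : Sylow 2 G} (hx : TT x ≤ C) (hP : IsPGroup 2 P)
    (hle : P ≤ C) : ∃ g ∈ C, P ≤ TT (g • x) := by
  obtain ⟨g, hg, e⟩ := ((TT_syl x).of_le hx le_top).exists_conj_le hP hle
  exact ⟨g⁻¹, inv_mem hg, fun a ha => mem_smul.mpr (by simpa using e ⟨a, ha, rfl⟩)⟩

/-- an element of `N(T)` has an odd power in `T` -/
theorem exists_odd_pow {x : Sylow 2 G} {g : G} (hg : g • x = x) :
    ∃ j : ℕ, g ^ (1 + j * 2) ∈ TT x := by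
  obtain ⟨e, j, h1, h2⟩ := exists_two_part g 1
  exact ⟨j, (memTT _ _).2 ⟨smul_pow_of hg _, by rw [pow_one] at h2; rwa [← h2]⟩⟩

theorem no_swap {x : Sylow 2 G} {g a : G} (hg : g • x = x) (ha : ∀ t ∈ TT x, a * t = t * a)
    (h2 : g * g * a = a * (g * g)) : g * a = a * g := by
  obtain ⟨j, hj⟩ := exists_odd_pow hg
  have h1 := ha _ hj
  rw [pow_add, pow_one, mul_comm j, pow_mul, pow_two, mul_assoc, pow_comm_of h2, ← mul_assoc,
    ← mul_assoc] at h1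
  exact (mul_right_cancel h1).symm

theorem odd_relIndex {x : Sylow 2 G} {C N : Subgroup G} (h : TT x ≤ C) :
    Odd (C.relIndex N ) ∨ ¬ TT x ≤ N := by
  by_cases hN : TT x ≤ N
  · left
    have := ((TT_syl x).of_le hN le_top).not_dvd
    exact Nat.odd_iff.mpr (Nat.two_dvd_ne_zero.mp fun e =>
      this (e.trans (relIndex_dvd_of_le_left N h)))
  · exact Or.inr hN

/-- `Ω₁(Z(T))` -/
def ZZ (x : Sylow 2 G) : Subgroup G where
  carrier := {a | a ∈ TT x ∧ a * a = 1 ∧ ∀ t ∈ TT x, a * t = t * a}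
  one_mem' := ⟨one_mem _, one_mul _, fun _ _ => by simp⟩
  mul_mem' := by
    rintro a b ⟨h1, h2, h3⟩ ⟨k1, k2, k3⟩
    refine ⟨mul_mem h1 k1, ?_, fun t ht => by rw [mul_assoc, k3 t ht, ← mul_assoc, h3 t ht,
      mul_assoc]⟩
    rw [mul_assoc, ← mul_assoc b, ← h3 b k1, mul_assoc, k2, mul_one, h2]
  inv_mem' := by
    rintro a ⟨h1, h2, h3⟩
    rw [inv_eq_self_of_sq h2]
    exact ⟨h1, h2, h3⟩

omit [Finite G] in
theorem ZZ_le (x : Sylow 2 G) : ZZ x ≤ TT x := fun _ h => h.1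

omit [Finite G] in
theorem ZZ_conj (g : G) {x : Sylow 2 G} {a : G} (ha : a ∈ ZZ x) : g * a * g⁻¹ ∈ ZZ (g • x) := by
  refine ⟨conj_mem_smul g ha.1, by rw [conj_mul, ha.2.1]; group, fun t ht => ?_⟩
  have := ha.2.2 _ (mem_smul.mp ht)
  calc g * a * g⁻¹ * t = g * (a * (g⁻¹ * t * g)) * g⁻¹ := by group
    _ = t * (g * a * g⁻¹) := by rw [this]; group

theorem exists_ZZ {x : Sylow 2 G} {g : G} (hg : g ∈ TT x) (h1 : g ≠ 1) :
    ∃ a ∈ ZZ x, BS.Inv a := by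
  obtain ⟨a, ha, i, hc⟩ := exists_cen_inv x.isPGroup' hg h1
  exact ⟨a, ⟨ha, i.2, fun t ht => (hc t ht).symm⟩, i⟩

/-- if every involution lies in a unique Sylow subgroup, `N(T)` is strongly embedded -/
theorem se_of_unique {x y : Sylow 2 G} (hne : x ≠ y) {t : G} (ht : BS.Inv t)
    (h : ∀ a, BS.Inv a → ∀ x y : Sylow 2 G, a ∈ TT x → a ∈ TT y → x = y) :
    IsStronglyEmbedded (St G x) := by
  have o : One G (Sylow 2 G) := fun a ha => by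
    obtain ⟨z, hz⟩ := exists_TT (Two.of_sq ha.2).isPGroup
    exact ⟨z, TT_fix (hz (mem_zpowers a)), fun w hw => h a ha _ _
      ((memTT _ _).2 ⟨hw, Two.of_sq ha.2⟩) (hz (mem_zpowers a))⟩
  obtain ⟨z, hz⟩ := exists_TT (Two.of_sq ht.2).isPGroup
  obtain ⟨g, hg⟩ := MulAction.exists_smul_eq G z x
  obtain ⟨k, hk⟩ := MulAction.exists_smul_eq G x y
  refine ⟨fun e => hne ((mem_St.mp (e.ge (mem_top k))).symm.trans hk),
    even_of_inv (TT_fix (hg ▸ conj_mem_smul g (hz (mem_zpowers t)))) (ht.conj g).1 (ht.conj g).2,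
    fun g hg => ?_⟩
  have := o.odd_two (x := x) (y := g • x) fun e => hg e.symm
  rwa [← conjS_St] at this

end Syl

section SE

variable {G : Type u} [Group G] [Finite G]

/-- with a strongly embedded subgroup, the Sylow 2-subgroups intersect trivially -/
theorem ti_of_se (hO : oddCore G = ⊥) {M : Subgroup G} (hM : IsStronglyEmbedded M)
    {x y : Sylow 2 G} {a : G} (h1 : a ≠ 1) (hx : a ∈ TT x) (hy : a ∈ TT y) : x = y := by
  obtain ⟨Q, D, t, h, c⟩ := seThm G M hM (rk2_top_iff.mp (rk2_of_se hM hO)) hO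
  have hQ : H5.IsSylowOf 2 Q ⊤ := H5.isSylowOf_of_maximal le_top c.two fun R hR hle _ => by
    by_contra hn
    obtain ⟨g, ⟨hg, gn⟩, hgQ⟩ := SetLike.exists_of_lt
      (H5.lt_inf_normalizer_of_isPGroup hR (lt_of_le_of_ne hle fun e => hn e.ge))
    obtain ⟨s, hs, hs1, -⟩ := h.toA1.exists_inv
    have := h.toA1.nor_le le_rfl (fun e => hs1 (mem_bot.mp (e ▸ hs))) ⟨mem_top g, gn⟩
    exact hgQ (h.toA1.two_le_Q (zpowers_le.mpr this) (hR.to_le (zpowers_le.mpr hg))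
      (mem_zpowers g))
  obtain ⟨z, rfl⟩ := hQ.exists_sylow_top
  obtain ⟨g, rfl⟩ := MulAction.exists_smul_eq G z x
  obtain ⟨k, rfl⟩ := MulAction.exists_smul_eq G z y
  have h2 : g⁻¹ * a * g ≠ 1 := fun e => h1 (by
    simpa [mul_assoc] using congrArg (fun u => g * u * g⁻¹) e)
  have := h.toA1.mem_H_of_conj (mem_smul.mp hx) h2 (mem_top (k⁻¹ * g))
    (h.toA1.Q_le (H5.mem_of_eq (mem_smul.mp hy) (by group)))
  have e := smul_eq_iff.mpr (h.toA1.H_le_nor this)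
  rw [mul_smul, inv_smul_eq_iff] at e
  exact e

end SE

end Hz
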