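import Cfsg.Agent.Hz.S3
import Cfsg.Agent.Ly.T4
import Cfsg.Agent.Ly.Main
import Cfsg.Agent.Ly.Red
import Cfsg.Agent.W.Main
import Cfsg.Agent.W.Brauer2
import Cfsg.Agent.JK.Main
import Cfsg.Agent.GW.Cv3

/-! Simple groups in which central Sylow intersections have rank at most one. -/

set_option autoImplicit false

namespace Hz

open Cfsg Subgroup FT H4 BS
open scoped commutatorElement MatrixGroups

universe u

section Gen

variable {G : Type*} [Group G]

theorem relIndex_Fixer_dvd {Ω : Type*} [MulAction G Ω] [Finite Ω] {M : Subgroup G} {Δ : Set Ω}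
    (h : ∀ g ∈ M, ∀ x ∈ Δ, g • x ∈ Δ) : (Fixer G Δ).relIndex M ∣ Δ.ncard.factorial := by
  classical
  let S : SubMulAction M Ω := ⟨Δ, fun g x hx => h g g.2 x hx⟩
  have e : (Fixer G Δ).subgroupOf M = (MulAction.toPermHom M S).ker := Subgroup.ext fun g =>
    ⟨fun e => Equiv.ext fun z => Subtype.ext (e z z.2),
      fun e z hz => congrArg Subtype.val (Equiv.congr_fun (MonoidHom.mem_ker.mp e) ⟨z, hz⟩)⟩
  rw [relIndex, e, index_ker, ← Nat.card_coe_set_eq, ← Nat.card_perm (α := Δ)]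
  exact card_subgroup_dvd_card (MulAction.toPermHom M S).range

theorem nor_Fixer {Ω : Type*} [MulAction G Ω] [Finite G] {M : Subgroup G} {Δ : Set Ω}
    (h : ∀ g ∈ M, ∀ x ∈ Δ, g • x ∈ Δ) : M ≤ Nor (Fixer G Δ) := fun g hg =>
  H5.mem_normalizer_of_forall fun k hk z hz => by
    rw [mul_smul, mul_smul, hk _ (h _ (inv_mem hg) z hz), smul_inv_smul]

theorem simple_sub {N K : Subgroup G} (h : IsSimpleGroup N) (hK : K ≤ N) (hn : N ≤ Nor K) :
    K = ⊥ ∨ K = N :=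
  (h.eq_bot_or_eq_top_of_normal _ (normal_subgroupOf_of_le_normalizer hn)).imp
    (fun e => by rwa [subgroupOf_eq_bot, disjoint_iff, inf_eq_left.mpr hK] at e)
    fun e => le_antisymm hK (subgroupOf_eq_top.mp e)

theorem Od_top [Finite G] : Od (⊤ : Subgroup G) = oddCore G := by
  rw [Od, piCoreOf_compl_singleton, pPrimeCoreIn_top]

/-- an isolated involution is central if `O(G) = 1` -/
theorem cen_of_iso [Finite G] (hO : oddCore G = ⊥) {a : G} (ha : BS.Inv a)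
    (h : ∀ g, a * (g * a * g⁻¹) = (g * a * g⁻¹) * a → g * a * g⁻¹ = a) (g : G) :
    g * a = a * g := by
  obtain ⟨o, ho, c, -, hc, rfl⟩ := zstar_amb' (mem_top a) ha (fun g _ => h g) (mem_top g)
  rw [Od_top, hO, mem_bot] at ho
  rw [ho, one_mul, hc]

/-- the Sylow 2-subgroups intersect trivially -/
def TI (G : Type*) [Group G] : Prop :=
  ∀ x y : Sylow 2 G, ∀ a, a ≠ 1 → a ∈ TT x → a ∈ TT y → x = y

theorem exists_ne_one [Finite G] (he : Even (Nat.card G)) (x : Sylow 2 G) :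
    ∃ a ∈ ZZ x, BS.Inv a := by
  obtain ⟨g, hg, h1⟩ := (bot_or_exists_ne_one _).resolve_left ((TT_syl x).ne_bot (by
    rw [card_top]; exact even_iff_two_dvd.mp he))
  exact exists_ZZ hg h1

end Gen

variable {G : Type u} [Group G] [Finite G]

omit [Finite G] in
theorem ncard_Om_conj (g a : G) :
    (Om (zpowers (g * a * g⁻¹))).ncard = (Om (zpowers a)).ncard := by
  rw [← Set.ncard_image_of_injective (Om (zpowers a)) (MulAction.injective g)]
  congr 1; ext y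
  simp only [Set.mem_image, mem_Om1]
  exact ⟨fun h => ⟨g⁻¹ • y, by simpa [mul_assoc] using conj_mem_smul g⁻¹ h, smul_inv_smul _ _⟩,
    by rintro ⟨z, hz, rfl⟩; exact conj_mem_smul g hz⟩

omit [Finite G] in
theorem Om_inv {a : G} : ∀ g ∈ Cen1 a, ∀ x ∈ Om (zpowers a), g • x ∈ Om (zpowers a) :=
  fun g hg _ hx => mem_Om1.mpr (c1_iff'.mp hg ▸ conj_mem_smul g (mem_Om1.mp hx))

theorem four_trans {x : Sylow 2 G} (h4 : Nat.card (ZZ x) = 4) {a n : G} (ha : a ∈ ZZ x)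
    (h1 : a ≠ 1) (hn : n • x = x) (hna : n * a * n⁻¹ ≠ a) {b : G} (hb : b ∈ ZZ x) (b1 : b ≠ 1) :
    ∃ n, n • x = x ∧ n * a * n⁻¹ = b := by
  have i1 := ZZ_inv ha h1
  have m : ∀ c ∈ ZZ x, n * c * n⁻¹ ∈ ZZ x := fun c hc => hn ▸ ZZ_conj n hc
  have ab := ha.2.2 _ (m a ha).1
  rcases mem_four h4 ha (m a ha) i1 (i1.conj n) hna.symm ab hb with e | e | e | e
  · exact absurd e b1
  · exact ⟨1, one_smul _ _, by simp [e]⟩
  · exact ⟨n, hn, e.symm⟩
  refine ⟨n * n, by rw [mul_smul, hn, hn], ?_⟩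
  rw [show n * n * a * (n * n)⁻¹ = n * (n * a * n⁻¹) * n⁻¹ by group]
  rcases mem_four h4 ha (m a ha) i1 (i1.conj n) hna.symm ab (m _ (m a ha)) with k | k | k | k
  · exact absurd k ((i1.conj n).conj n).1
  · refine absurd (mul_inv_eq_iff_eq_mul.mpr (no_swap hn ha.2.2 ?_)) hna
    exact mul_inv_eq_iff_eq_mul.mp (Eq.trans (by group) k)
  · exact absurd (mul_left_cancel (mul_right_cancel (k.trans (by group)))) hna
  · exact k.trans e.symm

section Simple

variable [IsSimpleGroup G] (hG : ¬ IsMulCommutative G)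
include hG

theorem not_iso {a : G} (ha : BS.Inv a) :
    ∃ g, a * (g * a * g⁻¹) = (g * a * g⁻¹) * a ∧ g * a * g⁻¹ ≠ a := by
  by_contra hn
  push Not at hn
  exact ha.1 (mem_bot.mp (H8.center_eq_bot_of_simple hG ▸ mem_center_iff.mpr
    (cen_of_iso (oddCore_of_simple (even_of_simple hG)) ha hn)))

theorem exists_ne_syl (x : Sylow 2 G) : ∃ y, y ≠ x := by
  by_contra hn
  push Not at hn
  obtain ⟨a, ha, i⟩ := exists_ne_one (even_of_simple hG) x
  have : (TT x).Normal := normal_of_top_le_normalizer fun g _ => smul_eq_iff.mp (hn _)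
  have e := (IsSimpleGroup.eq_bot_or_eq_top_of_normal _ this).resolve_left
    fun e => i.1 (mem_bot.mp (e ▸ ha.1))
  exact i.1 (mem_bot.mp (H8.center_eq_bot_of_simple hG ▸ mem_center_iff.mpr
    fun g => (ha.2.2 g (e.ge (mem_top g))).symm))

theorem faith_simple : Faith G (Sylow 2 G) := by
  obtain ⟨x⟩ : Nonempty (Sylow 2 G) := inferInstance
  obtain ⟨y, hy⟩ := exists_ne_syl hG x
  obtain ⟨k, rfl⟩ := MulAction.exists_smul_eq G x y
  have e := (IsSimpleGroup.eq_bot_or_eq_top_of_normal (MulAction.toPermHom G (Sylow 2 G)).ker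
    inferInstance).resolve_right fun e => hy (Equiv.congr_fun (e.ge (mem_top k)) x)
  exact fun g hg => mem_bot.mp (e ▸ (Equiv.ext hg : g ∈ (MulAction.toPermHom G (Sylow 2 G)).ker))

theorem ti_of_hasSE (h : W.HasSE G) : TI G := fun _ _ _ h1 hx hy =>
  h.elim fun _ hM => ti_of_se (oddCore_of_simple (even_of_simple hG)) hM h1 hx hy

theorem TI.se (h : TI G) (x : Sylow 2 G) : IsStronglyEmbedded (St G x) := by
  obtain ⟨y, hy⟩ := exists_ne_syl hG x
  obtain ⟨a, -, i⟩ := exists_ne_one (even_of_simple hG) x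
  exact se_of_unique hy.symm i fun a i x y => h x y a i.1

theorem HC.four (h : HC G) (x : Sylow 2 G) : 4 ≤ Nat.card (ZZ x) := by
  obtain ⟨a, ha, i⟩ := exists_ne_one (even_of_simple hG) x
  obtain ⟨g, g1, g2⟩ := not_iso hG i
  exact h.four_le ha i.1 g1 g2

theorem SC.ti {A : Sylow 2 G → Subgroup G} {q : ℕ} (s : SC A q) (h4 : 4 ≤ q)
    (hu : ∀ x y, ∀ a ∈ A x, a ≠ 1 → a ∈ TT y → y = x) : TI G := by
  have z := s.zd h4 hu
  obtain ⟨x⟩ : Nonempty (Sylow 2 G) := inferInstance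
  obtain ⟨y, hy⟩ := exists_ne_syl hG x
  obtain ⟨a, -, i⟩ := exists_ne_one (even_of_simple hG) x
  refine ti_of_hasSE hG ⟨_, se_of_unique hy i fun t ht y z' h1 h2 => ?_⟩
  obtain ⟨w, hw, -⟩ := z.all (faith_simple hG) t ht
  rw [hu w y t hw ht.1 h1, hu w z' t hw ht.1 h2]

theorem ab_of_omega {x : Sylow 2 G} (h4 : Nat.card (ZZ x) = 4)
    (om : ∀ t ∈ TT x, t * t = 1 → t ∈ ZZ x) {a n : G} (ha : a ∈ ZZ x) (hn : n • x = x)
    (hna : n * a * n⁻¹ ≠ a) : TI G ∨ TT x ≤ ZZ x := by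
  have nc : n ∉ Cen (ZZ x) := fun e => hna (by rw [cen_iff.mp e a ha, mul_inv_cancel_right])
  rcases Ly.ab_or_u34 (TT_syl x) h4 (fun t => ⟨fun e => ⟨e.1, e.2.1⟩, fun e => om t e.1 e.2⟩)
    (fun z hz t ht => (hz.2.2 t ht).symm) (smul_eq_iff.mp hn) nc with e | e
  · have h1 : a ≠ 1 := fun e => hna (by simp [e])
    obtain ⟨b, hb, b1, b2⟩ := exists_not_zp (P := ZZ x) (by omega) a
    have f : GW.F4 a b := ⟨(ZZ_inv ha h1).orderOf, (ZZ_inv hb b1).orderOf, ha.2.2 b hb.1, b2⟩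
    refine Or.inr ((W.brauer_ab (W.simple_perfect hG) (TT_syl x) e f ha.1 hb.1 fun t ht t2 =>
      f.mem_V.mpr (mem_four h4 ha hb (ZZ_inv ha h1) (ZZ_inv hb b1) b2.symm f.c
        (om t ht t2))).le.trans (GW.V_le ha hb))
  · exact Or.inl (ti_of_hasSE hG ⟨_, (e.base (TT_syl x) (smul_eq_iff.mp hn) nc).se⟩)

theorem HC.simple (h : HC G) (x : Sylow 2 G) : TI G ∨ (TT x ≤ ZZ x ∧
    (∀ a ∈ TT x, a ≠ 1 → ∀ b ∈ TT x, b ≠ 1 → ∃ n, n • x = x ∧ n * a * n⁻¹ = b) ∧
    (Nat.card (TT x) = 4 ∨ Nat.card (TT x) = 8 ∧ ∀ a ∈ TT x, a ≠ 1 →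
      (Om (zpowers a)).ncard = 5)) := by
  have h4 := h.four hG x
  have s := h.sc x h4
  by_cases hu : ∀ x y : Sylow 2 G, ∀ a ∈ ZZ x, a ≠ 1 → a ∈ TT y → y = x
  · exact Or.inl (s.ti hG h4 hu)
  push Not at hu
  obtain ⟨a, ha, h1, x', hx', hne⟩ : ∃ a ∈ ZZ x, a ≠ 1 ∧ ∃ x', a ∈ TT x' ∧ x' ≠ x := by
    obtain ⟨z, y, a, ha, h1, hy, hne⟩ := hu
    obtain ⟨g, rfl⟩ := MulAction.exists_smul_eq G z x
    exact ⟨_, ZZ_conj g ha, ((ZZ_inv ha h1).conj g).1, _, conj_mem_smul g hy,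
      fun e => hne (MulAction.injective g e)⟩
  obtain ⟨g, g1, g2⟩ := not_iso hG (ZZ_inv ha h1)
  obtain ⟨n, hn, hna⟩ := (s.iso_or ha).resolve_left fun e => g2 (e g g1)
  have tr2 : (∀ b ∈ ZZ x, b ≠ 1 → ∃ n, n • x = x ∧ n * a * n⁻¹ = b) → TT x ≤ ZZ x →
      ∀ a ∈ TT x, a ≠ 1 → ∀ b ∈ TT x, b ≠ 1 → ∃ n, n • x = x ∧ n * a * n⁻¹ = b :=
    fun tr le b hb b1 c hc c1 => by
      obtain ⟨k, k1, rfl⟩ := tr b (le hb) b1
      obtain ⟨l, l1, rfl⟩ := tr c (le hc) c1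
      exact ⟨l * k⁻¹, by rw [mul_smul, smul_inv_of k1, l1], by group⟩
  rcases h4.eq_or_lt with h4 | h4
  · refine (ab_of_omega hG h4.symm (fun t => h.omega h4.symm ha h1 hx' hne) ha hn hna).imp_right
      fun le => ⟨le, tr2 (fun b => four_trans h4.symm ha h1 hn hna) le, Or.inl ?_⟩
    rw [le_antisymm le (ZZ_le x), ← h4]
  · obtain ⟨k, hk⟩ := s.q_pow x
    have h8 : 8 ≤ Nat.card (ZZ x) := by
      rcases k with _ | _ | _ | k
      · omega
      · omega
      · omega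
      · have := Nat.one_le_two_pow (n := k)
        rw [pow_succ, pow_succ, pow_succ] at hk; omega
    obtain ⟨e1, e2, e3, e4⟩ := h.e8 h8 ha h1 hx' hne hn hna
    refine Or.inr ⟨e2, tr2 e4 e2, Or.inr ⟨e1, fun b hb b1 => ?_⟩⟩
    obtain ⟨k, -, rfl⟩ := e4 b (e2 hb) b1
    rw [ncard_Om_conj, e3]

theorem j1_of (x : Sylow 2 G) (ht : ¬ TI G) (le : TT x ≤ ZZ x)
    (tr : ∀ a ∈ TT x, a ≠ 1 → ∀ b ∈ TT x, b ≠ 1 → ∃ n, n • x = x ∧ n * a * n⁻¹ = b)
    (h8 : Nat.card (TT x) = 8) (h5 : ∀ a ∈ TT x, a ≠ 1 → (Om (zpowers a)).ncard = 5) :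
    Nat.card G = 175560 := by
  have as : W.AS (TT x) ⊤ := ⟨TT_syl x, H5.isMulCommutative_of_forall fun a ha => (le ha).2.2⟩
  obtain ⟨t, N, j⟩ := ((W.known_top _ G _ rfl hG as).resolve_left (by omega)).resolve_left
    fun e => ht (ti_of_hasSE hG e)
  have i := ZZ_inv (le j.tS) (GW.ine j.ot)
  have NC : N ≤ Cen1 t := j.le.trans inf_le_right
  have nN : Cen1 t ≤ Nor N := by simpa using j.nor
  obtain ⟨F, _, _, f1, f2, ⟨φ⟩⟩ := j.l2
  have sN : IsSimpleGroup N := by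
    have := H8.psl_simple (GW.slok f2)
    exact φ.isSimpleGroup
  have cN := GW.card_psl f1
  rw [← Nat.card_congr φ.toEquiv] at cN
  have b60 : 5 * 24 ≤ 2 * Nat.card N := by
    have : 5 ≤ Fintype.card F := by obtain ⟨k, hk⟩ := f1; omega
    rw [cN]; exact Nat.mul_le_mul this (by
      have := Nat.pow_le_pow_left this 2; omega)
  have nF := nor_Fixer (Om_inv (a := t))
  have xO : x ∈ Om (zpowers t) := mem_Om1.mpr j.tS
  have b1 : Fixer G (Om (zpowers t)) ⊓ N = ⊥ := by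
    rcases simple_sub sN inf_le_right (le_normalizer_inf (NC.trans nF) le_normalizer)
      with e | e
    · exact e
    have nT : N ≤ Nor (TT x) := fun g hg => smul_eq_iff.mp ((e.ge hg).1 x xO)
    rcases simple_sub sN (inf_le_right (a := TT x)) (le_normalizer_inf nT le_normalizer)
      with e | e
    · have := j.c4; rw [e, card_bot] at this; omega
    · have := j.c4; rw [e] at this; omega
  have d1 := relIndex_Fixer_dvd (M := N) fun g hg => Om_inv g (NC hg)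
  have d2 := relIndex_Fixer_dvd (Om_inv (a := t))
  rw [h5 t j.tS i.1] at d1 d2
  rw [← inf_relIndex_right, b1, relIndex_bot_left] at d1
  have c60 : Nat.card N = 60 := by
    have := Nat.le_of_dvd (by norm_num) d1
    have : Fintype.card F < 7 := by
      by_contra hn
      have : 7 * 48 ≤ 2 * Nat.card N := by
        rw [cN]; exact Nat.mul_le_mul (by omega) (by
          have := Nat.pow_le_pow_left (not_lt.mp hn) 2; omega)
      norm_num [Nat.factorial] at *; omega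
    have : Fintype.card F = 5 := by obtain ⟨k, hk⟩ := f1; omega
    rw [this] at cN; omega
  have b2 : Fixer G (Om (zpowers t)) ⊓ Cen1 t = zpowers t := le_antisymm
    (fun g hg => j.cen ⟨⟨mem_top _, hg.2⟩, cen_iff.mpr fun y hy => comm_of_disj
      (A := Fixer G (Om (zpowers t)) ⊓ Cen1 t) (inf_le_right.trans nN)
      (le_normalizer_inf (NC.trans nF) (NC.trans le_normalizer))
      (eq_bot_iff.mpr (b1 ▸ inf_le_inf_right _ inf_le_left)) hg hy⟩)
    (zpowers_le.mpr ⟨fun z hz => TT_fix (mem_Om1.mp hz), c1_iff.mpr rfl⟩)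
  have c2 := H5.card_mul_relIndex (inf_le_right : Fixer G (Om (zpowers t)) ⊓ Cen1 t ≤ _)
  rw [inf_relIndex_right, b2, i.card_zpowers] at c2
  have nz : zpowers t ≤ Nor N := zpowers_le.mpr (nN (c1_iff.mpr rfl))
  have c3 : Nat.card ↥(N ⊔ zpowers t) = 120 := by
    rw [H5.card_sup_of_disjoint nz (eq_bot_iff.mpr fun g hg =>
      (i.mem_zpowers hg.2).resolve_right fun e => j.tN (e ▸ hg.1)), c60, i.card_zpowers]
  have l3 : N ⊔ zpowers t ≤ Cen1 t := sup_le NC (zpowers_le.mpr (c1_iff.mpr rfl))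
  have e3 : N ⊔ zpowers t = Cen1 t := eq_of_le_of_card_ge l3 (by
    have d3 := card_dvd_of_le l3
    have TC : TT x ≤ Cen1 t := fun s hs => c1_iff.mpr ((le hs).2.2 t j.tS)
    have d4 := ((TT_syl x).of_le TC le_top).not_dvd
    have d5 := H5.card_mul_relIndex TC
    have := Nat.le_of_dvd (by norm_num) d2
    norm_num [Nat.factorial] at this
    rw [c3] at d3 ⊢
    rw [h8] at d5
    omega)
  refine JK.janko_order (W.simple_perfect hG) i.2 (GW.iso60 c60) j.tN NC (fun g hg => ?_)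
    fun u u2 u1 => ?_
  · obtain ⟨y, hy, z, hz, rfl⟩ := (mem_sup_of_le_normalizer_left nz).mp (e3.ge hg)
    rcases i.mem_zpowers hz with rfl | rfl
    · exact Or.inl (by simpa using hy)
    · exact Or.inr (by rw [c1_iff.mp (NC hy), ← mul_assoc, i.2, one_mul]; exact hy)
  · obtain ⟨z, hz⟩ := exists_TT (Two.of_sq u2).isPGroup
    obtain ⟨g, rfl⟩ := MulAction.exists_smul_eq G z x
    obtain ⟨n, -, e⟩ := tr t j.tS i.1 _ (conj_mem_smul g (hz (mem_zpowers u)))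
      (BS.Inv.conj ⟨u1, u2⟩ g).1
    exact isConj_iff.mpr ⟨g⁻¹ * n, by
      rw [show g⁻¹ * n * t * (g⁻¹ * n)⁻¹ = g⁻¹ * (n * t * n⁻¹) * g by group, e]; group⟩

end Simple

theorem psl4_of_60 {X : Type*} [Group X] [Finite X] [IsSimpleGroup X] (h : Nat.card X = 60) :
    ∃ (F : Type) (_ : Field F) (_ : Fintype F), Fintype.card F = 2 ^ 2 ∧
      Nonempty (X ≃* PSL(2, F)) := by
  have := Fintype.ofFinite (GaloisField 2 2)
  have c : Fintype.card (GaloisField 2 2) = 2 ^ 2 := by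
    rw [← Nat.card_eq_fintype_card, GaloisField.card 2 2 (by norm_num)]
  have := H8.psl_simple (GW.slok (F := GaloisField 2 2) (by omega))
  have e := card_eq_card_quotient_mul_card_subgroup (center SL(2, GaloisField 2 2))
  have e2 : Nat.card (center SL(2, GaloisField 2 2)) = 1 := by
    rw [GW.center_sl, show (-1 : SL(2, GaloisField 2 2)) = 1 from
      Subtype.ext (CharTwo.neg_eq _), zpowers_one_eq_bot, card_bot]
  rw [H9.card_SL2, c, e2, mul_one] at e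
  obtain ⟨φ⟩ := GW.psl60 h
  obtain ⟨ψ⟩ := GW.psl60 (G := PSL(2, GaloisField 2 2)) e.symm
  exact ⟨_, _, _, c, ⟨φ.trans ψ.symm⟩⟩

end Hz
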