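import Cfsg.Agent.Hz.S9
import Cfsg.Agent.H9.Loc2

/-! Sylow intersections of rank at most one: quotients and components. -/

set_option autoImplicit false

namespace Hz

open Cfsg Subgroup FT H4 BS
open scoped commutatorElement MatrixGroups

universe u

section Q

variable {G : Type*} [Group G]

/-- a generalized quaternion subgroup -/
structure QQ (R : Subgroup G) (a : G) (n : ℕ) : Prop where
  mem : a ∈ R
  ord : orderOf a = 2 * 2 ^ (n + 1)
  card : Nat.card R = 2 * (2 * 2 ^ (n + 1))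
  out : ∀ b ∈ R, b ∉ zpowers a → b * a * b⁻¹ = a⁻¹ ∧ b ^ 2 = a ^ 2 ^ (n + 1)

namespace QQ

variable {R : Subgroup G} {a b c : G} {n : ℕ} (h : QQ R a n)
include h

theorem ne_inv : a ≠ a⁻¹ := fun e => by
  have := Nat.le_of_dvd two_pos (orderOf_dvd_of_pow_eq_one (show a ^ 2 = 1 by
    rw [pow_two]; exact mul_eq_one_iff_eq_inv.mpr e))
  have h2 := Nat.one_le_two_pow (n := n)
  rw [h.ord, pow_succ] at this; omega

theorem mul (hb : b ∈ R) (b' : b ∉ zpowers a) (hc : c ∈ R) (c' : c ∉ zpowers a) :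
    b * c ∈ zpowers a := by
  by_contra e
  refine h.ne_inv (Eq.trans ?_ (h.out _ (mul_mem hb hc) e).1)
  rw [show b * c * a * (b * c)⁻¹ = b * (c * a * c⁻¹) * b⁻¹ by group, (h.out c hc c').1,
    show b * a⁻¹ * b⁻¹ = (b * a * b⁻¹)⁻¹ by group, (h.out b hb b').1, inv_inv]

theorem ex [Finite G] : ∃ b ∈ R, b ∉ zpowers a := by
  by_contra e
  push Not at e
  have := card_le_of_le (show R ≤ zpowers a from e)
  have h2 := Nat.one_le_two_pow (n := n + 1)
  rw [Nat.card_zpowers, h.card, h.ord] at this; omega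

theorem le_of {M : Subgroup G} (ha : a ∈ M) (hb : b ∈ R) (b' : b ∉ zpowers a) (hM : b ∈ M) :
    R ≤ M := fun c hc => by
  by_cases e : c ∈ zpowers a
  · exact zpowers_le.mpr ha e
  · exact (mul_mem_cancel_left hM).mp (zpowers_le.mpr ha (h.mul hb b' hc e))

theorem conj (hb : b ∈ R) (b' : b ∉ zpowers a) (hc : c ∈ zpowers a) : b * c * b⁻¹ = c⁻¹ := by
  obtain ⟨k, rfl⟩ := hc
  show b * a ^ k * b⁻¹ = (a ^ k)⁻¹
  rw [← conj_zpow, (h.out b hb b').1, inv_zpow]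

theorem cen [Finite G] (hc : c ∈ R) (e : ∀ r ∈ R, c * r = r * c) : c * c = 1 := by
  obtain ⟨b, hb, b'⟩ := h.ex
  by_cases k : c ∈ zpowers a
  · rw [mul_eq_one_iff_eq_inv, ← h.conj hb b' k, ← e b hb, mul_inv_cancel_right]
  · exact absurd (by rw [← (h.out c hc k).1, e a h.mem, mul_inv_cancel_right]) h.ne_inv

theorem inv_z : BS.Inv (a ^ 2 ^ (n + 1)) := ⟨fun e => by
    have := Nat.le_of_dvd (by positivity) (orderOf_dvd_of_pow_eq_one e)
    have h2 := Nat.one_le_two_pow (n := n + 1)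
    rw [h.ord] at this; omega,
  by rw [← pow_add, ← two_mul, ← h.ord, pow_orderOf_eq_one]⟩

/-- a `Q₈` -/
theorem q8 [Finite G] : ∃ i ∈ R, ∃ j ∈ R, i * i = a ^ 2 ^ (n + 1) ∧ j * j = a ^ 2 ^ (n + 1) ∧
    i * j * i⁻¹ = j⁻¹ := by
  obtain ⟨b, hb, b'⟩ := h.ex
  exact ⟨b, hb, a ^ 2 ^ n, pow_mem h.mem _, by rw [← pow_two, (h.out b hb b').2],
    by rw [← pow_add, ← two_mul, pow_succ'], h.conj hb b' (npow_mem_zpowers _ _)⟩

end QQ

variable [Finite G] {X : Type*} [Group X]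

theorem exists_quat {R : Subgroup G} (h2 : IsPGroup 2 R) (h : ¬ Rk2 R) (hc : ¬ IsCyclic R) :
    ∃ n, Nonempty (R ≃* QuaternionGroup (2 ^ (n + 1))) :=
  (H7.isCyclic_or_quaternion h2 (not_not.mp (mt rk2_iff.mpr h))).resolve_left hc

theorem exists_qq {R : Subgroup G} (h2 : IsPGroup 2 R) (h : ¬ Rk2 R) (hc : ¬ IsCyclic R) :
    ∃ a n, QQ R a n := by
  obtain ⟨n, ⟨e⟩⟩ := exists_quat h2 h hc
  obtain ⟨a, k1, k2, k3, k4⟩ := H9.quat_data e
  exact ⟨a, n, k1, k2, k3, k4⟩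

theorem qq_of_map [Finite X] (f : G →* X) {U : Subgroup G} (h2 : IsPGroup 2 U) (h : ¬ Rk2 U)
    (r : Rk2 (U.map f)) : ∃ a n, QQ U a n ∧ U ⊓ f.ker ≤ zpowers a ∧ f a ≠ 1 := by
  have k : ∀ c, ¬ U.map f ≤ zpowers c := fun c e =>
    not_rk2_of_cyclic (H9.isCyclic_of_le e inferInstance) r
  obtain ⟨a, n, q⟩ := exists_qq h2 h fun e => not_rk2_of_cyclic (H9.isCyclic_map f e) r
  refine ⟨a, n, q, fun v hv => by_contra fun e => k (f a) (map_le_iff_le_comap.mpr
    (q.le_of (mem_zpowers _) hv.1 e (by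
      rw [mem_comap, MonoidHom.mem_ker.mp hv.2]; exact one_mem _))), fun e => ?_⟩
  obtain ⟨b, hb, b'⟩ := q.ex
  exact k (f b) (map_le_iff_le_comap.mpr (q.le_of (by rw [mem_comap, e]; exact one_mem _) hb b'
    (mem_zpowers _)))

omit [Finite G] in
theorem inj_of_odd {f : G →* X} (hk : Odd (Nat.card f.ker)) {P : Subgroup G} (hP : IsPGroup 2 P)
    {a b : G} (ha : a ∈ P) (hb : b ∈ P) (e : f a = f b) : a = b :=
  inv_mul_eq_one.mp (mem_bot.mp (inf_eq_bot_of_pGroup_coprime hP (Nat.coprime_two_right.mpr hk) ▸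
    mem_inf.mpr ⟨mul_mem (inv_mem ha) hb, by
      rw [MonoidHom.mem_ker, map_mul, map_inv, e, inv_mul_cancel]⟩))

omit [Finite G] in
theorem inv_of_odd {f : G →* X} (hk : Odd (Nat.card f.ker)) {P : Subgroup G} (hP : IsPGroup 2 P)
    {a : G} (ha : a ∈ P) : BS.Inv (f a) ↔ BS.Inv a :=
  ⟨fun i => ⟨fun e => i.1 (by rw [e, map_one]), inj_of_odd hk hP (mul_mem ha ha) (one_mem _)
    (by rw [map_mul, i.2, map_one])⟩, fun i => ⟨fun e => i.1 (inj_of_odd hk hP ha (one_mem _)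
      (by rw [e, map_one])), by rw [← map_mul, i.2, map_one]⟩⟩

omit [Finite G] in
theorem rk2_map {f : G →* X} (hk : Odd (Nat.card f.ker)) {P : Subgroup G} (hP : IsPGroup 2 P) :
    Rk2 (P.map f) ↔ Rk2 P := by
  constructor
  · rintro ⟨_, ⟨a, ha, rfl⟩, _, ⟨b, hb, rfl⟩, i1, i2, ne, c⟩
    exact ⟨a, ha, b, hb, (inv_of_odd hk hP ha).1 i1, (inv_of_odd hk hP hb).1 i2,
      fun e => ne (by rw [e]), inj_of_odd hk hP (mul_mem ha hb) (mul_mem hb ha)
        (by rwa [map_mul, map_mul])⟩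
  · rintro ⟨a, ha, b, hb, i1, i2, ne, c⟩
    exact ⟨_, ⟨a, ha, rfl⟩, _, ⟨b, hb, rfl⟩, (inv_of_odd hk hP ha).2 i1, (inv_of_odd hk hP hb).2 i2,
      fun e => ne (inj_of_odd hk hP ha hb e), by rw [← map_mul, c, map_mul]⟩

end Q

variable {G : Type u} [Group G] [Finite G]

theorem H1.quot {X : Type*} [Group X] (h : H1 G) {f : G →* X} (hf : Function.Surjective f)
    (hk : Odd (Nat.card f.ker)) : H1 X := fun x y a b i1 i2 ne c ax bx ay by' => by
  by_contra e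
  obtain ⟨x', y', k, R, k1, k2⟩ := H9.exists_sylow_pair_lift hf x y e
  exact k (h.rk2 ((rk2_map hk (x'.isPGroup'.to_le (k1.trans inf_le_left))).mp (k2 ▸
    ⟨a, ⟨ax, ay⟩, b, ⟨bx, by'⟩, i1, i2, ne, c⟩)) (k1.trans inf_le_left) (k1.trans inf_le_right))

omit [Finite G] in
theorem H1.eq_of_comap {X : Type*} [Group X] (h : H1 G) {f : G →* X} (hf : Function.Surjective f)
    (hk : IsPGroup 2 f.ker) {x y : Sylow 2 X} {U : Subgroup G} (r : Rk2 U)
    (hU : U ≤ (TT x ⊓ TT y).comap f) : x = y := by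
  have e := h.rk2 (x := x.comapOfKerIsPGroup f hk (by simp [f.range_eq_top.mpr hf]))
    (y := y.comapOfKerIsPGroup f hk (by simp [f.range_eq_top.mpr hf])) r
    (hU.trans (comap_mono inf_le_left)) (hU.trans (comap_mono inf_le_right))
  exact Sylow.ext (comap_injective hf (congrArg TT e))

omit [Finite G] in
theorem h1_sub_of {M : Subgroup G} (h : ∀ x y : Sylow 2 G, Rk2 (TT x ⊓ TT y ⊓ M) → x = y) :
    H1 M := fun x y a b i1 i2 ne c ax bx ay by' => by
  obtain ⟨X, hX⟩ := exists_ext x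
  obtain ⟨Y, hY⟩ := exists_ext y
  rw [← hX] at ax bx
  rw [← hY] at ay by'
  obtain rfl := h X Y ⟨a, ⟨⟨ax, ay⟩, a.2⟩, b, ⟨⟨bx, by'⟩, b.2⟩, inv_coe.mpr i1, inv_coe.mpr i2,
    fun e => ne (Subtype.ext e), congrArg Subtype.val c⟩
  exact Sylow.ext (hX.symm.trans hY)

omit [Finite G] in
theorem TI.sub (h : TI G) (L : Subgroup G) : TI L := fun x y a a1 ax ay => by
  obtain ⟨X, hX⟩ := exists_ext x
  obtain ⟨Y, hY⟩ := exists_ext y
  rw [← hX] at ax
  rw [← hY] at ay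
  obtain rfl := h X Y a (fun e => a1 (Subtype.ext e)) ax ay
  exact Sylow.ext (hX.symm.trans hY)

theorem normal_inf_of_le_St {N : Subgroup G} (hN : N.Normal) {x : Sylow 2 G} (h : N ≤ St G x) :
    (TT x ⊓ N).Normal := ⟨fun t ht g => by
  have := hN.conj_mem t ht.2 g
  exact ⟨(memTT _ _).2 ⟨h this, (TT_two ht.1).conj g⟩, this⟩⟩

theorem odd_of_le_St (h2 : pCore 2 G = ⊥) {N : Subgroup G} (hN : N.Normal) {x : Sylow 2 G}
    (h : N ≤ St G x) : Odd (Nat.card N) := odd_of_no_inv fun _ ha i =>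
  i.1 (mem_bot.mp (h2 ▸ le_pCore (normal_inf_of_le_St hN h) x.isPGroup'.to_inf_left
    ⟨(memTT _ _).2 ⟨h ha, Two.of_sq i.2⟩, ha⟩))

theorem H1.oc (h : H1 G) [IsSimpleGroup G] (nc : ¬ IsMulCommutative G) : OC (⊤ : Subgroup G) := by
  obtain ⟨x⟩ : Nonempty (Sylow 2 G) := inferInstance
  rcases h.hc.simple nc x with e | ⟨-, tr, -⟩
  · exact oc_top_of_se (e.se nc x)
  have k : ∀ a : G, BS.Inv a → ∃ g, g * a * g⁻¹ ∈ TT x := fun a i => by
    obtain ⟨y, hy⟩ := exists_TT i.isPGroup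
    obtain ⟨g, rfl⟩ := MulAction.exists_smul_eq G y x
    exact ⟨g, conj_mem_smul g (hy (mem_zpowers a))⟩
  intro a _ b _ i1 i2
  obtain ⟨g, hg⟩ := k a i1
  obtain ⟨l, hl⟩ := k b i2
  obtain ⟨n, -, e⟩ := tr _ hg (i1.conj g).1 _ hl (i2.conj l).1
  exact ⟨l⁻¹ * n * g, mem_top _, by
    rw [show l⁻¹ * n * g * a * (l⁻¹ * n * g)⁻¹ = l⁻¹ * (n * (g * a * g⁻¹) * n⁻¹) * l by group, e]
    group⟩

omit [Finite G] in
theorem OC.of_top {K : Subgroup G} (h : OC (⊤ : Subgroup K)) : OC K := fun a ha b hb i1 i2 => by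
  obtain ⟨g, -, e⟩ := h ⟨a, ha⟩ trivial ⟨b, hb⟩ trivial (inv_coe.mp i1) (inv_coe.mp i2)
  exact ⟨g, g.2, congrArg Subtype.val e⟩

theorem four_sub {K : Subgroup G} (hs : IsSimpleGroup K) (nc : ¬ IsMulCommutative K) :
    ∃ a ∈ K, ∃ b ∈ K, BS.Inv a ∧ BS.Inv b ∧ a ≠ b ∧ a * b = b * a := by
  obtain ⟨t, ht, it⟩ := exists_inv_sub hs nc
  obtain ⟨g, hg, g1, g2⟩ := not_iso_sub hs nc ht it
  exact ⟨t, ht, _, mul_mem (mul_mem hg ht) (inv_mem hg), it, it.conj g, g2.symm, g1⟩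

/-- a simple component is normal of odd index -/
theorem H1.soc' (h : H1 G) (h2 : pCore 2 G = ⊥) {K : Subgroup G} (hK : CompIn ⊤ K)
    (hs : IsSimpleGroup K) : K.Normal ∧ ∀ g, Two g → g ∈ K := by
  have nc := hK.qs.not_isMulCommutative
  obtain ⟨a, ha, b, hb, i1, i2, ne, c⟩ := four_sub hs nc
  obtain ⟨w, hw⟩ := exists_TT (pair_two i1.2 i2.2 c)
  have CS : Cen K ≤ St G w := fun g hg => h.cen_fix i1 i2 ne c (hw (mem_sup_left (mem_zpowers _)))
    (hw (mem_sup_right (mem_zpowers _))) (cen_iff.mp hg a ha) (cen_iff.mp hg b hb)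
  have nK : K.Normal := normal_of_top_le_normalizer fun k _ => (hK.mem_normalizer_or (le_normalizer
    (mem_top k))).resolve_right fun e => QS.not_le_St (hK.qs.conjS k) w
      ((le_centralizer_iff.mp (commutator_eq_bot_iff_le_centralizer.1 e)).trans CS)
  refine ⟨nK, fun g hg => ?_⟩
  have od := odd_of_le_St h2 inferInstance CS
  have sj := QuotientGroup.mk'_surjective (Cen K)
  have kk := QuotientGroup.ker_mk' (Cen K)
  have od' := kk.symm ▸ od
  have z : ∀ N : Subgroup (G ⧸ Cen K), N.Normal → Group.IsSolvable N → N = ⊥ := fun N hN hs => by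
    have := hK.commute_of_isSolvable (U := N.comap (QuotientGroup.mk' _)) le_top
      le_normalizer_of_normal (isSolvable_of_map (QuotientGroup.mk' _) (by
        rwa [map_comap_eq_self_of_surjective sj]) (isSolvable_of_le inf_le_right (FT.ftThm _ od')))
    rw [← map_comap_eq_self_of_surjective sj N, Subgroup.map_eq_bot_iff, kk]
    exact le_centralizer_iff.mp (commutator_eq_bot_iff_le_centralizer.1 this)
  have ia := (inv_of_odd od' i1.isPGroup (mem_zpowers a)).2 i1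
  have : Nontrivial (G ⧸ Cen K) := ⟨_, _, ia.1⟩
  obtain ⟨L, nL, sL, -, ho⟩ := (h.quot sj od').soc
    (z _ inferInstance (FT.ftThm _ (Nat.coprime_two_right.mp (coprime_card_pPrimeCore 2 _))))
    (z _ inferInstance (H5.isSolvable_of_isPGroup (isPGroup_pCore 2 _)))
  have m : ∀ y, Two y → y ∈ L := fun y hy =>
    GW.two_le_of_odd ho hy.isPGroup le_normalizer_of_normal (mem_zpowers y)
  have e := (simple_sub sL (K := L ⊓ K.map (QuotientGroup.mk' _)) inf_le_left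
    (le_normalizer_inf le_normalizer le_normalizer_of_normal)).resolve_left fun e =>
      ia.1 (mem_bot.mp (e ▸ ⟨m _ (Two.of_sq ia.2), a, ha, rfl⟩))
  obtain ⟨k, hk, e1⟩ := (e.ge (m _ (hg.map _))).2
  have c1 : k⁻¹ * g ∈ Cen K := by
    rw [← kk, MonoidHom.mem_ker, map_mul, map_inv, e1, inv_mul_cancel]
  obtain ⟨n, hn⟩ := hg
  refine mem_of_pow_mem Nat.prime_two (m := Nat.card (Cen K)) (by
    rwa [← even_iff_two_dvd, Nat.not_even_iff_odd]) hn ?_
  rw [← mul_inv_cancel_left k g, (show Commute k (k⁻¹ * g) from (cen_iff.mp c1 k hk).symm).mul_pow,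
    show (k⁻¹ * g) ^ Nat.card (Cen K) = 1 from congrArg Subtype.val
      (pow_card_eq_one' (x := (⟨_, c1⟩ : Cen K))), mul_one]
  exact pow_mem hk _

theorem H1.soc_sub {M K : Subgroup G} [M.Normal] (h : H1 M) (h2 : pCore 2 G = ⊥)
    (hK : CompIn ⊤ K) (hs : IsSimpleGroup K) (le : K ≤ M) : ∀ g ∈ M, Two g → g ∈ K :=
  fun g hg t => (h.soc' (pCoreIn_eq_bot_iff.mp (eq_bot_iff.mpr (h2 ▸ pCoreIn_le_pCore
    (Normal.isSubnormal inferInstance)))) (compIn_top_iff.mpr (compIn_iff.mp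
      (hK.of_le le le_top)).2) (subgroupOfEquivOfLe le).isSimpleGroup).2 ⟨g, hg⟩ (two_coe.mp t)

theorem exists_comp (hO : oddCore G = ⊥) (hn : ¬ Group.IsSolvable G) (h : ¬ Rk2 (pCore 2 G)) :
    ∃ K, CompIn (⊤ : Subgroup G) K := by
  by_contra e
  push Not at e
  have hC := centralizer_gfit_le (G := G)
  rw [gfit_eq, ← layerIn_top, layerIn_eq_bot_iff'.2 e, bot_sup_eq, fitting_eq_pCore hO] at hC
  have hV := isPGroup_pCore 2 G
  have two : ¬ IsPGroup 2 G := fun k => hn (by have := k.isNilpotent; infer_instance)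
  obtain ⟨a, n, q⟩ := exists_qq hV h fun k => two (H9.isPGroup_of_isCyclic_pCore hC k)
  rcases n with _ | n
  swap
  · refine two (H9.isPGroup_of_forall_odd fun g hg => H9.eq_one_of_odd_of_mem hV (hC ?_) hg)
    refine H9.mem_centralizer_of_quat hV le_rfl q.mem (q.ord ▸ q.card) (fun b h1 h2 => ?_) q.mem
      (fun k => ?_) (le_normalizer_of_normal (mem_top g)) hg
    · rw [show 4 = 2 * 2 from rfl, pow_mul, (q.out b h1 h2).2, pow_two, q.inv_z.2]
    · have h1 := Nat.le_of_dvd (by norm_num) (orderOf_dvd_of_pow_eq_one k)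
      have h2 := Nat.one_le_two_pow (n := n)
      rw [q.ord, pow_succ, pow_succ] at h1
      omega
  obtain ⟨b, hb, b'⟩ := q.ex
  have iz : BS.Inv (a * a) := by simpa [pow_two] using q.inv_z
  have bb : b * b = a * a := by simpa [pow_two] using (q.out b hb b').2
  have zV := mul_mem q.mem q.mem
  have zc : ∀ v ∈ pCore 2 G, v * (a * a) = a * a * v := fun v hv =>
    c1_iff.mp (q.le_of (c1_iff.mpr (mul_assoc _ _ _).symm) hb b'
      (c1_iff.mpr (by rw [← bb, mul_assoc])) hv)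
  have cen : ∀ g, g * (a * a) = a * a * g := fun g => by
    by_contra k
    have m := (inferInstance : (pCore 2 G).Normal).conj_mem _ zV g
    exact h ⟨_, m, _, zV, iz.conj g, iz, fun e => k (mul_inv_eq_iff_eq_mul.mp e), zc _ m⟩
  have := GW.normal_zp cen
  have d : DC (QuotientGroup.mk' (zpowers (a * a))) (a * a) := ⟨QuotientGroup.mk'_surjective _, iz,
    cen, fun g => (QuotientGroup.eq_one_iff g).trans ⟨iz.mem_zpowers, by
      rintro (rfl | rfl); exacts [one_mem _, mem_zpowers _]⟩⟩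
  have kk := QuotientGroup.ker_mk' (zpowers (a * a))
  generalize QuotientGroup.mk' (zpowers (a * a)) = f at d kk
  have fz := (d.ker _).mpr (Or.inr rfl)
  have ba : b * a = a * b * (a * a) := by
    rw [mul_inv_eq_iff_eq_mul.mp (q.out b hb b').1, mul_assoc a, zc b hb, ← mul_assoc,
      inv_eq_of_mul_eq_one_left (show a * (a * a) * a = 1 by rw [← iz.2]; group)]
  have an : An f (f a) (f b) := ⟨by rwa [← map_mul], by rwa [← map_mul, bb], by
    rw [← map_mul, ← map_mul, ba, map_mul _ _ (a * a), fz, mul_one],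
    fun k => iz.1 (d.t2_iff.mp k), fun k => iz.1 (bb ▸ d.t2_iff.mp k), fun k => by
      rw [← map_mul, d.t2_iff, ← pow_two, (q.out _ (mul_mem q.mem hb) fun k =>
        b' ((mul_mem_cancel_left (mem_zpowers a)).mp k)).2] at k
      exact q.inv_z.1 k⟩
  have f4 : GW.F4 (f a) (f b) := ⟨(d.an_u an).orderOf, (d.an_v an).orderOf, an.c, (d.an_ne an).symm⟩
  have e4 : GW.V4 (f a) (f b) = (pCore 2 G).map f := le_antisymm
    (GW.V_le ⟨a, q.mem, rfl⟩ ⟨b, hb, rfl⟩)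
    (map_le_iff_le_comap.mpr (q.le_of (GW.t_V _ _) hb b' (GW.a_V _ _)))
  have := Finite.of_surjective f d.surj
  refine GW.nsolv_quot f d.surj (kk.symm ▸ H5.isSolvable_of_isPGroup iz.isPGroup) hn
    (H8.isSolvable_of_card_dvd_prime_pow_mul Nat.prime_two Nat.prime_three 3 1 _ _ rfl
      (GW.card_four f4 (e4 ▸ Normal.map inferInstance f d.surj) fun g hg => ?_))
  obtain ⟨r, hr, c1, c2⟩ := d.an_dec an (cen_iff.mp hg _ (GW.t_V _ _)) (cen_iff.mp hg _ (GW.a_V _ _))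
  refine (mul_mem_cancel_left (f4.mem_V.mpr hr)).mp ?_
  obtain ⟨k, hk⟩ := d.surj (r * g)
  rw [← hk] at c1 c2 ⊢
  rw [d.cm_iff] at c1 c2
  exact e4.ge ⟨k, hC (cen_iff.mpr fun v hv => (c1_iff.mp (q.le_of (c1_iff.mpr c1.symm) hb b'
    (c1_iff.mpr c2.symm) hv)).symm), rfl⟩

end Hz
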