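import Cfsg.Agent.Hz.S10

/-! Sylow intersections of rank at most one: the case `O(G) = 1`. -/

set_option autoImplicit false

namespace Hz

open Cfsg Subgroup FT H4 BS
open scoped commutatorElement MatrixGroups

universe u

/-- an elementary abelian subgroup of order 8 -/
def Rk3 {G : Type*} [Group G] (P : Subgroup G) : Prop :=
  ∃ a ∈ P, ∃ b ∈ P, ∃ c ∈ P, BS.Inv a ∧ BS.Inv b ∧ BS.Inv c ∧ a * b = b * a ∧ a * c = c * a ∧
    b * c = c * b ∧ a ≠ b ∧ c ≠ a ∧ c ≠ b ∧ c ≠ a * b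

/-- the central product of two copies of `SL(2, 5)` -/
def IsSL25 (X : Type*) [Group X] : Prop :=
  ∃ (Z : Subgroup (SL(2, ZMod 5) × SL(2, ZMod 5))) (_ : Z.Normal),
    Z = zpowers ((-1 : SL(2, ZMod 5)), (-1 : SL(2, ZMod 5))) ∧
      Nonempty (X ≃* (SL(2, ZMod 5) × SL(2, ZMod 5)) ⧸ Z)

theorem isSL25_of {G : Type*} [Group G] {K K' : Subgroup G} (φ : K ≃* SL(2, ZMod 5))
    (ψ : K' ≃* SL(2, ZMod 5)) (c : ∀ a ∈ K, ∀ b ∈ K', a * b = b * a) {z : G} (iz : BS.Inv z)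
    (hz : z ∈ K) (hz' : z ∈ K') (h : K ⊓ K' ≤ zpowers z) : IsSL25 ↥(K ⊔ K') := by
  let f := (K.subtype.comp φ.symm.toMonoidHom).noncommCoprod (K'.subtype.comp ψ.symm.toMonoidHom)
    fun a b => c _ (φ.symm a).2 _ (ψ.symm b).2
  have fa : ∀ p, f p = (φ.symm p.1 : G) * (ψ.symm p.2 : G) := fun _ => rfl
  have neg : ∀ (K : Subgroup G) (φ : K ≃* SL(2, ZMod 5)) (hz : z ∈ K), (∀ a ∈ K, a * z = z * a) →
      φ ⟨z, hz⟩ = -1 := fun K φ hz k => (GW.mem_center_sl.mp (mem_center_iff.mpr fun g => by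
    obtain ⟨g, rfl⟩ := φ.surjective g
    rw [← map_mul, ← map_mul]; exact congrArg φ (Subtype.ext (k g g.2)))).resolve_left fun e =>
      iz.1 (congrArg Subtype.val (φ.map_eq_one_iff.mp e))
  have n1 := neg K φ hz fun a ha => c a ha z hz'
  have n2 := neg K' ψ hz' fun a ha => (c z hz a ha).symm
  have kk : f.ker = zpowers ((-1 : SL(2, ZMod 5)), (-1 : SL(2, ZMod 5))) := by
    refine le_antisymm (fun p hp => ?_) (zpowers_le.mpr (by
      rw [MonoidHom.mem_ker, fa, φ.symm_apply_eq.mpr n1.symm, ψ.symm_apply_eq.mpr n2.symm, iz.2]))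
    obtain ⟨a, b⟩ := p
    obtain ⟨a, rfl⟩ := φ.surjective a
    obtain ⟨b, rfl⟩ := ψ.surjective b
    rw [MonoidHom.mem_ker, fa] at hp
    simp only [MulEquiv.symm_apply_apply] at hp
    have e := eq_inv_of_mul_eq_one_left hp
    rcases iz.mem_zpowers (h (mem_inf.mpr ⟨a.2, e ▸ inv_mem b.2⟩)) with k | k
    · rw [show a = 1 from Subtype.ext k, show b = 1 from Subtype.ext (by simpa [k] using hp),
        map_one, map_one]
      exact one_mem _
    · rw [show a = ⟨z, hz⟩ from Subtype.ext k, show b = ⟨z, hz'⟩ from Subtype.ext (by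
        rw [k] at hp; exact (eq_inv_of_mul_eq_one_right hp).trans iz.inv), n1, n2]
      exact mem_zpowers _
  have rr : f.range = K ⊔ K' := le_antisymm (by
    rintro _ ⟨p, rfl⟩
    exact mul_mem (mem_sup_left (φ.symm p.1).2) (mem_sup_right (ψ.symm p.2).2))
    (sup_le (fun a ha => ⟨(φ ⟨a, ha⟩, 1), by simp [fa]⟩) fun a ha => ⟨(1, ψ ⟨a, ha⟩), by simp [fa]⟩)
  exact ⟨f.ker, inferInstance, kk, ⟨((QuotientGroup.quotientKerEquivRange f).trans
    (MulEquiv.subgroupCongr rr)).symm⟩⟩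

variable {G : Type u} [Group G] [Finite G]

omit [Finite G] in
theorem cen_of_map {Y : Type*} [Group Y] {f : G →* Y} {K : Subgroup G} (hK : ⁅K, K⁆ = K)
    (hk : f.ker ≤ Cen K) {g : G} (hg : f g ∈ Cen (K.map f)) : g ∈ Cen K := by
  have : ⁅zpowers g, K⁆ = ⊥ := commutator_eq_bot_of_perfect' hK ((commutator_le.mpr fun a ha k hk => by
    have := cen_iff.mp ((zpowers_le.mpr hg : zpowers g ≤ (Cen (K.map f)).comap f) ha) _ ⟨k, hk, rfl⟩
    rw [MonoidHom.mem_ker, map_commutatorElement, commutatorElement_eq_one_iff_mul_comm, this]).trans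
      hk)
  exact commutator_eq_bot_iff_le_centralizer.mp this (mem_zpowers g)

section Comp

variable (hO : oddCore G = ⊥) {K : Subgroup G} (hK : CompIn ⊤ K) {Y : Type*} [Group Y]
  [Finite Y] {f : G →* Y} (kk : f.ker = pCore 2 G)
include hK

theorem comp_cen : pCore 2 G ≤ Cen K := le_centralizer_iff.mp
  (commutator_eq_bot_iff_le_centralizer.mp (hK.commute_of_isSolvable le_top
    le_normalizer_of_normal (H5.isSolvable_of_isPGroup (isPGroup_pCore 2 G))))

include kk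

omit [Finite Y] in
theorem comp_map (hf : Function.Surjective f) : CompIn ⊤ (K.map f) := by
  have := hK.map f fun e => hK.qs.not_le_centralizer
    (((Subgroup.map_eq_bot_iff _).mp e).trans (kk.le.trans (comp_cen hK)))
  rwa [map_top_of_surjective f hf] at this

include hO

theorem comp_simple (hf : Function.Surjective f) : IsSimpleGroup (K.map f) :=
  GW.QS.simple' (comp_map hK kk hf).qs (eq_bot_iff.mpr (by
    rintro _ ⟨⟨k, hk, rfl⟩, e⟩
    exact kk.ge ((fitting_eq_pCore hO).le (fittingIn_top.le (hK.center_le_fittingIn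
      ⟨hk, cen_of_map hK.perfect (kk.le.trans (comp_cen hK)) e⟩)))))

end Comp

section Main

variable (h : H1 G) (hO : oddCore G = ⊥) (hn : ¬ Group.IsSolvable G)
include h hn

theorem core_rk : ¬ Rk2 (pCore 2 G) := fun r => by
  obtain ⟨x⟩ : Nonempty (Sylow 2 G) := inferInstance
  obtain ⟨y, hy⟩ := exists_ne_syl' hn x
  exact hy (h.rk2 r (pCore_le_sylow y) (pCore_le_sylow x))

include hO

theorem core_ne {x y : Sylow 2 G} (ne : x ≠ y) (nc : ¬ IsCyclic ↥(TT x ⊓ TT y)) :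
    pCore 2 G ≠ ⊥ := fun h2 => by
  have : Nontrivial G := by
    by_contra e
    have := not_nontrivial_iff_subsingleton.mp e
    exact hn inferInstance
  obtain ⟨L, nL, hs, nc', ho⟩ := h.soc hO h2
  have m : ∀ w : Sylow 2 G, TT w ≤ L := fun w =>
    GW.two_le_of_odd ho w.isPGroup' le_normalizer_of_normal
  obtain ⟨a, n, q⟩ := exists_qq x.isPGroup'.to_inf_left
    (fun r => ne (h.rk2 r inf_le_left inf_le_right)) nc
  rcases (h.sub L).hc.simple nc' (x.subtype (m x)) with e | ⟨e, -⟩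
  · exact ne (Sylow.subtype_injective (e (x.subtype (m x)) (y.subtype (m y)) ⟨a, m x q.mem.1⟩
      (fun e => q.ne_inv (by rw [show a = 1 from congrArg Subtype.val e, inv_one])) q.mem.1 q.mem.2))
  · exact q.ne_inv (eq_inv_of_mul_eq_one_left (congrArg Subtype.val
      (e (x := ⟨a, m x q.mem.1⟩) q.mem.1).2.1))

variable {Y : Type u} [Group Y] [Finite Y] {f : G →* Y} (sj : Function.Surjective f)
  (kk : f.ker = pCore 2 G)
include sj kk

omit h hO hn [Finite G] [Finite Y] in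
theorem core_quot : pCore 2 Y = ⊥ := by
  rw [← map_comap_eq_self_of_surjective sj (pCore 2 Y), comap_pCore f sj (kk ▸ isPGroup_pCore 2 G),
    Subgroup.map_eq_bot_iff, kk]

omit hO hn in
theorem four_lift {M : Subgroup G} (hM : pCore 2 G ≤ M) {x y : Sylow 2 Y} (ne : x ≠ y)
    (r : Rk2 (TT x ⊓ TT y ⊓ M.map f)) : ¬ Rk2 ((TT x ⊓ TT y).comap f ⊓ M) ∧ ∃ a n,
      QQ ((TT x ⊓ TT y).comap f ⊓ M) a n ∧ pCore 2 G ≤ zpowers a ∧ f a ≠ 1 := by
  have hk : IsPGroup 2 f.ker := kk ▸ isPGroup_pCore 2 G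
  have k : ¬ Rk2 ((TT x ⊓ TT y).comap f ⊓ M) := fun r => ne (h.eq_of_comap sj hk r inf_le_left)
  obtain ⟨a, n, q, k1, k2⟩ := qq_of_map f ((x.isPGroup'.to_inf_left.comap_of_ker_isPGroup f
    hk).to_inf_left) k (by
      obtain ⟨_, ⟨h1, a, ha, rfl⟩, _, ⟨h2, b, hb, rfl⟩, e⟩ := r
      exact ⟨_, ⟨a, ⟨h1, ha⟩, rfl⟩, _, ⟨b, ⟨h2, hb⟩, rfl⟩, e⟩)
  exact ⟨k, a, n, q, (le_inf (le_inf (kk.ge.trans (ker_le_comap _ _)) hM) kk.ge).trans k1, k2⟩

theorem con_quat (hc : ¬ IsCyclic (pCore 2 G)) : Rk3 (⊤ : Subgroup G) ∧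
    ∃ L : Subgroup Y, L.Normal ∧ Odd L.index ∧ IsBenderGroup L := by
  have hV := isPGroup_pCore 2 G
  have r := core_rk h hn
  obtain ⟨a, n, q⟩ := exists_qq hV r hc
  obtain ⟨K, hK⟩ := exists_comp hO hn r
  have hY : H1 Y := fun x y a b i1 i2 ne c ax bx ay by' => by
    by_contra e
    obtain ⟨-, a, n, -, k, -⟩ := four_lift h sj kk le_top e ⟨a, ⟨⟨ax, ay⟩, sj a |>.imp fun _ e =>
      ⟨trivial, e⟩⟩, b, ⟨⟨bx, by'⟩, sj b |>.imp fun _ e => ⟨trivial, e⟩⟩, i1, i2, ne, c⟩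
    exact hc (H9.isCyclic_of_le k inferInstance)
  have hs := comp_simple hO hK kk sj
  have nc := (comp_map hK kk sj).qs.not_isMulCommutative
  obtain ⟨nK, two⟩ := hY.soc' (core_quot sj kk) (comp_map hK kk sj) hs
  obtain ⟨i, hi, j, hj, ii, jj, ij⟩ := q.q8
  have iz := q.inv_z
  have zV := pow_mem q.mem (2 ^ (n + 1))
  generalize a ^ 2 ^ (n + 1) = z at ii jj iz zV
  have cK : ∀ v ∈ pCore 2 G, ∀ k ∈ K, v * k = k * v := fun v hv => cen_iff.mp (comp_cen hK hv)
  have f1 : ∀ v ∈ pCore 2 G, f v = 1 := fun v hv => kk.ge hv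
  have vK : ∀ v ∈ K, f v = 1 → v * v = 1 ∧ (v = 1 ∨ v = z) := fun v hv e => by
    have k := q.cen (kk.le e) fun w hw => (cK w hw v hv).symm
    exact ⟨k, by_contra fun e' => r ⟨v, kk.le e, z, zV, ⟨fun e => e' (Or.inl e), k⟩, iz,
      fun e => e' (Or.inr e), (cK z zV v hv).symm⟩⟩
  have zi : z * i = i * z := by rw [← ii, mul_assoc]
  have zj : z * j = j * z := by rw [← jj, mul_assoc]
  have sq : ∀ i ∈ pCore 2 G, i * i = z → ∀ k ∈ K, k * k = z → i * k * (i * k) = 1 :=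
    fun i hi ii k hk e => by
      rw [mul_assoc, ← mul_assoc k, ← cK i hi k hk, mul_assoc, e, ← mul_assoc, ii, iz.2]
  have ti : TI Y := fun x y b b1 bx by' => by
    obtain ⟨m, hm⟩ := (TT_two bx).exists_inv b1
    obtain ⟨k, hk, e⟩ := two _ (Two.of_sq hm.2)
    have m1 : b ^ m ∈ TT x ⊓ TT y := pow_mem (mem_inf.mpr ⟨bx, by'⟩) m
    rw [← e] at hm m1
    refine h.eq_of_comap sj (kk ▸ hV) ?_ le_rfl
    have key : ∀ k', f k' = f k → k' * k' = 1 → k' * z = z * k' → Rk2 ((TT x ⊓ TT y).comap f) :=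
      fun k' e1 e2 e3 => ⟨k', by rwa [mem_comap, e1], z, ker_le_comap _ _ (kk.ge zV),
        ⟨fun e => hm.1 (by rw [← e1, e, map_one]), e2⟩, iz,
        fun e => hm.1 (by rw [← e1, e, f1 z zV]), e3⟩
    rcases (vK _ (mul_mem hk hk) (by rw [map_mul, hm.2])).2 with e | e
    · exact key k rfl e (cK z zV k hk).symm
    · exact key (i * k) (by rw [map_mul, f1 i hi, one_mul]) (sq i hi ii k hk e)
        (by rw [mul_assoc, ← cK z zV k hk, ← mul_assoc, ← zi, mul_assoc])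
  obtain ⟨x⟩ : Nonempty (Sylow 2 Y) := inferInstance
  obtain ⟨x'⟩ : Nonempty (Sylow 2 (K.map f)) := inferInstance
  refine ⟨?_, K.map f, nK, odd_index_of_le (x := x) fun t ht => two t (TT_two ht),
    seSimple _ _ ((ti.sub _).se nc x')⟩
  have oc := (ti.sub _).oc hs nc
  obtain ⟨_, ⟨k, hk, rfl⟩, _, ⟨l, hl, rfl⟩, i1, i2, ne, c⟩ := four_sub hs nc
  have i3 := i1.mul i2 ne c
  have ty : ∀ l ∈ K, BS.Inv (f l) → l * l = k * k := fun l hl i => by
    obtain ⟨_, ⟨g, hg, rfl⟩, e⟩ := oc _ ⟨k, hk, rfl⟩ _ ⟨l, hl, rfl⟩ i1 i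
    have m := mul_mem (inv_mem (mul_mem (mul_mem hg hk) (inv_mem hg))) hl
    have e1 : f ((g * k * g⁻¹)⁻¹ * l) = 1 := by simp only [map_mul, map_inv, e, inv_mul_cancel]
    have e2 := cK _ (kk.le e1) _ (mul_mem (mul_mem hg hk) (inv_mem hg))
    have e3 := cK _ (kk.le (show f (k * k) = 1 by rw [map_mul, i1.2])) g hg
    have e4 := (vK _ m e1).1
    rw [← mul_inv_cancel_left (g * k * g⁻¹) l]
    generalize (g * k * g⁻¹)⁻¹ * l = w at e2 e4
    rw [mul_assoc _ w, ← mul_assoc w, e2, mul_assoc _ w, e4, mul_one, conj_mul, ← e3,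
      mul_inv_cancel_right]
  have key : ∀ k' l', f k' = f k → f l' = f l → k' * k' = 1 → l' * l' = 1 → k' * l' = l' * k' →
      k' * z = z * k' → l' * z = z * l' → Rk3 (⊤ : Subgroup G) := fun k' l' e1 e2 _ _ _ _ _ =>
    ⟨k', trivial, l', trivial, z, trivial, ⟨fun e => i1.1 (by rw [← e1, e, map_one]), ‹_›⟩,
      ⟨fun e => i2.1 (by rw [← e2, e, map_one]), ‹_›⟩, iz, ‹_›, ‹_›, ‹_›,
      fun e => ne (by rw [← e1, ← e2, e]), fun e => i1.1 (by rw [← e1, ← e, f1 z zV]),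
      fun e => i2.1 (by rw [← e2, ← e, f1 z zV]),
      fun e => i3.1 (by rw [← e1, ← e2, ← map_mul, ← e, f1 z zV])⟩
  have t1 := ty l hl i2
  have t2 := ty _ (mul_mem hk hl) (by rwa [map_mul])
  rcases (vK _ (mul_mem hk hk) (by rw [map_mul, i1.2])).2 with e | e
  · rw [e] at t1 t2
    exact key k l rfl rfl e t1 (by rw [← inv_eq_self_of_sq t2, mul_inv_rev, inv_eq_self_of_sq e,
      inv_eq_self_of_sq t1]) (cK z zV k hk).symm (cK z zV l hl).symm
  · have e1 : l * k = k * l * z := by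
      rw [mul_assoc k, mul_right_inj] at t2
      rw [← mul_left_inj l, mul_assoc l, t2, mul_assoc, cK z zV l hl, mul_assoc k, ← mul_assoc l,
        t1, e, iz.2, mul_one]
    have e2 : i * j = j * i * z := by
      rw [mul_inv_eq_iff_eq_mul.mp ij, inv_eq_of_mul_eq_one_right (show j * (j * z) = 1 by
        rw [← mul_assoc, jj, iz.2]), mul_assoc, zi, mul_assoc]
    refine key (i * k) (j * l) (by rw [map_mul, f1 i hi, one_mul]) (by rw [map_mul, f1 j hj, one_mul])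
      (sq i hi ii k hk e) (sq j hj jj l hl (t1.trans e)) ?_
      (by rw [mul_assoc, ← cK z zV k hk, ← mul_assoc, ← zi, mul_assoc])
      (by rw [mul_assoc, ← cK z zV l hl, ← mul_assoc, ← zj, mul_assoc])
    rw [mul_assoc, ← mul_assoc k, ← cK j hj k hk, mul_assoc j l, ← mul_assoc l, ← cK i hi l hl,
      mul_assoc i l, e1, ← cK z zV _ (mul_mem hk hl), ← mul_assoc i z, ← mul_assoc j, ← mul_assoc j,
      ← e2]
    group

theorem con_cyc (hc : IsCyclic (pCore 2 G)) {x y : Sylow 2 G} (ne : x ≠ y)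
    (nc : ¬ IsCyclic ↥(TT x ⊓ TT y)) : ∀ v ∈ pCore 2 G, v * v = 1 := fun v hv => by
  by_contra v2
  have hV := isPGroup_pCore 2 G
  have r := core_rk h hn
  obtain ⟨K, hK⟩ := exists_comp hO hn r
  have VC : pCore 2 G ≤ Cen (pCore 2 G) := H5.le_centralizer_of_comm inferInstance le_rfl le_rfl
  have KC : (K.map f).comap f ≤ Cen (pCore 2 G) := by
    rw [comap_map_eq, kk]; exact sup_le (le_centralizer_iff.mp (comp_cen hK)) VC
  have no : ∀ U a n, QQ U a n → pCore 2 G ≤ U → ¬ U ≤ Cen (pCore 2 G) := fun U a n q k1 k2 =>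
    v2 (q.cen (k1 hv) fun u hu => (cen_iff.mp (k2 hu) v hv).symm)
  have vk : ∀ P : Subgroup Y, pCore 2 G ≤ P.comap f := fun P => kk.ge.trans (ker_le_comap _ _)
  have key : ∀ x y : Sylow 2 Y, Rk2 (TT x ⊓ TT y ⊓ (Cen (pCore 2 G)).map f) → x = y :=
    fun x y k => by
      by_contra e
      obtain ⟨-, a, n, q, -⟩ := four_lift h sj kk VC e k
      exact no _ a n q (le_inf (vk _) VC) inf_le_right
  have hs := comp_simple hO hK kk sj
  have nc' := (comp_map hK kk sj).qs.not_isMulCommutative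
  have le : K.map f ≤ (Cen (pCore 2 G)).map f := map_mono ((le_comap_map f K).trans KC)
  by_cases hY : H1 Y
  · obtain ⟨a, n, q⟩ := exists_qq x.isPGroup'.to_inf_left
      (fun r => ne (h.rk2 r inf_le_left inf_le_right)) nc
    exact no _ a n q (le_inf (pCore_le_sylow x) (pCore_le_sylow y)) fun t ht => KC
      ((hY.soc' (core_quot sj kk) (comp_map hK kk sj) hs).2 _ ((TT_two ht.1).map f))
  simp only [H1, not_forall] at hY
  obtain ⟨x, y, b, c, i1, i2, bc, cm, bx, cx, by', cy, ne⟩ := hY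
  obtain ⟨nr, a, n, q, k1, k2⟩ := four_lift h sj kk le_top ne ⟨b, ⟨⟨bx, by'⟩, sj b |>.imp fun _ e =>
    ⟨trivial, e⟩⟩, c, ⟨⟨cx, cy⟩, sj c |>.imp fun _ e => ⟨trivial, e⟩⟩, i1, i2, bc, cm⟩
  have := Normal.map (inferInstance : (Cen (pCore 2 G)).Normal) f sj
  have aK := (h1_sub_of key).soc_sub (core_quot sj kk) (comp_map hK kk sj) hs le _
    ⟨a, H5.le_centralizer_of_comm inferInstance le_rfl k1 (mem_zpowers a), rfl⟩ (TT_two q.mem.1.1)
  obtain ⟨m, hm⟩ := (TT_two q.mem.1.1).exists_inv k2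
  have oc := OC.of_top ((h1_sub_of fun x y r => key x y (r.mono (inf_le_inf_left _ le))).oc nc')
  obtain ⟨k, hk, l, hl, j1, j2, kl, c'⟩ := four_sub hs nc'
  have UK : (zpowers k ⊔ zpowers l).comap f ≤ (K.map f).comap f :=
    comap_mono (sup_le (zpowers_le.mpr hk) (zpowers_le.mpr hl))
  obtain ⟨z, hz, iz, -⟩ := exists_cen_inv hV hv fun e => v2 (by rw [e, one_mul])
  have nt : ∀ t ∈ (K.map f).comap f, BS.Inv t → f t = 1 := fun t ht i => by
    by_contra e
    obtain ⟨g, -, e1⟩ := oc _ ht _ (pow_mem aK m) ⟨e, by rw [← map_mul, i.2, map_one]⟩ hm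
    obtain ⟨g, rfl⟩ := sj g
    rw [← map_inv, ← map_mul, ← map_mul] at e1
    refine nr ⟨g * t * g⁻¹, ⟨?_, trivial⟩, z, ⟨vk _ hz, trivial⟩, i.conj g, iz, fun e => hm.1 (by
      rw [← e1, e]; exact kk.ge hz), cen_iff.mp (Normal.conj_mem inferInstance t (KC ht) g) z hz⟩
    show f _ ∈ TT x ⊓ TT y
    rw [e1]; exact pow_mem (mem_comap.mp (mem_inf.mp q.mem).1) m
  obtain ⟨a', n', q', -⟩ := qq_of_map f (U := (zpowers k ⊔ zpowers l).comap f)
    ((pair_two j1.2 j2.2 c').comap_of_ker_isPGroup f (kk ▸ hV))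
    (fun ⟨t, ht, t', ht', i, i', e⟩ => r ⟨t, kk.le (nt t (UK ht) i), t', kk.le (nt t' (UK ht') i'),
      i, i', e⟩) (by
      rw [map_comap_eq_self_of_surjective sj]
      exact ⟨k, mem_sup_left (mem_zpowers k), l, mem_sup_right (mem_zpowers l), j1, j2, kl, c'⟩)
  exact no _ a' n' q' (vk _) (UK.trans KC)

theorem con_two (h2 : ∀ v ∈ pCore 2 G, v * v = 1) (rk : Rk2 (⊤ : Subgroup G)) {x y : Sylow 2 G}
    (ne : x ≠ y) (nc : ¬ IsCyclic ↥(TT x ⊓ TT y)) :
    ∃ E : Subgroup G, E.Normal ∧ (Odd E.index ∨ ∃ k, Odd k ∧ E.index = 2 * k) ∧ IsSL25 E := by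
  have hV := isPGroup_pCore 2 G
  have r := core_rk h hn
  obtain ⟨v, hv, v1⟩ := (bot_or_exists_ne_one _).resolve_left (core_ne h hO hn ne nc)
  obtain ⟨z, hz, iz, zc⟩ := exists_cen_inv hV hv v1
  have vz : ∀ v ∈ pCore 2 G, v = 1 ∨ v = z := fun v hv => by_contra fun e =>
    r ⟨v, hv, z, hz, ⟨fun k => e (Or.inl k), h2 v hv⟩, iz, fun k => e (Or.inr k), zc v hv⟩
  have d : DC f z := ⟨sj, iz, fun g => mul_inv_eq_iff_eq_mul.mp ((vz _
    (Normal.conj_mem inferInstance z hz g)).resolve_left (iz.conj g).1), fun g => by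
      rw [← MonoidHom.mem_ker, kk]
      exact ⟨vz g, by rintro (rfl | rfl); exacts [one_mem _, hz]⟩⟩
  have u2 : U2 f := fun a a1 t x y ax ay => by
    obtain ⟨k, rfl⟩ := sj a
    rw [Ne, d.ker, not_or] at a1
    exact h.eq_of_comap sj (kk ▸ hV) (U := (TT x ⊓ TT y).comap f) ⟨k, ⟨ax, ay⟩, z, d.z_mem _,
      ⟨a1.1, t k rfl⟩, iz, a1.2, d.cen k⟩ le_rfl
  have sim := fun K (hK : CompIn ⊤ K) => comp_simple hO hK kk sj
  have ncm := fun K (hK : CompIn ⊤ K) => (comp_map hK kk sj).qs.not_isMulCommutative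
  have cen : ∀ g : Y, (∀ K, CompIn ⊤ K → g ∈ Cen (K.map f)) → g = 1 := fun g hg => by
    obtain ⟨g, rfl⟩ := sj g
    refine kk.ge ((fitting_eq_pCore hO).le (fittingIn_top.le (le_fittingIn_of_centralizes le_top
      (fun K hK => commutator_eq_bot_iff_le_centralizer.mpr (le_centralizer_iff.mp (zpowers_le.mpr
        (cen_of_map hK.perfect (kk.le.trans (comp_cen hK)) (hg K hK))))) ?_ (mem_zpowers g))))
    rw [fittingIn_top, fitting_eq_pCore hO, commutator_eq_bot_iff_le_centralizer]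
    intro w hw a _
    rcases vz w hw with rfl | rfl
    exacts [by simp, d.cen a]
  obtain ⟨K, hK⟩ := exists_comp hO hn r
  by_cases un : ∀ K', CompIn ⊤ K' → K' = K
  · exfalso
    have nK : K.Normal := normal_of_top_le_normalizer fun g _ =>
      mem_normalizer_iff_conjS.mpr (un _ (hK.conjS_of_mem (mem_top g)))
    have := nK.map f sj
    obtain ⟨t, t1, t2⟩ : ∃ t, t ≠ 1 ∧ T2 f t := by
      obtain ⟨a, -, b, -, i1, i2, ab, -⟩ := rk
      by_cases e : a = z
      · exact ⟨f b, fun k => ((d.ker b).mp k).elim i2.1 fun k => ab (e.trans k.symm),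
          d.t2_iff.mpr i2.2⟩
      · exact ⟨f a, fun k => ((d.ker a).mp k).elim i1.1 e, d.t2_iff.mpr i1.2⟩
    obtain ⟨a, n, q⟩ := exists_qq x.isPGroup'.to_inf_left
      (fun r => ne (h.rk2 r inf_le_left inf_le_right)) nc
    have a1 : f a ≠ 1 := fun k => q.ne_inv (eq_inv_of_mul_eq_one_left (h2 a (kk.le k)))
    obtain ⟨m, hm⟩ := ((TT_two q.mem.1).map f).exists_inv a1
    have := congrArg (fun w => (TT w).comap f) (d.one u2 (sim K hK) (ncm K hK) (eq_bot_iff.mpr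
      fun g hg => cen g fun K' hK' => un K' hK' ▸ hg) t1 t2 (x := x.mapSurjective sj)
      (y := y.mapSurjective sj) hm (pow_mem (mem_map_of_mem f q.mem.1) m)
      (pow_mem (mem_map_of_mem f q.mem.2) m))
    simp only [TT, Sylow.coe_mapSurjective, comap_map_eq, kk, sup_eq_left.mpr (pCore_le_sylow _)]
      at this
    exact ne (Sylow.ext this)
  push Not at un
  obtain ⟨K', hK', KK⟩ := un
  have cm : ∀ K K' : Subgroup G, CompIn ⊤ K → CompIn ⊤ K' → K ≠ K' → ∀ a ∈ K.map f, ∀ b ∈ K'.map f,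
      Cm f a b := by
    rintro K K' hK hK' e _ ⟨a, ha, rfl⟩ _ ⟨b, hb, rfl⟩
    exact d.cm_iff.mpr (cen_iff.mp (commutator_eq_bot_iff_le_centralizer.mp
      ((hK.eq_or_commute hK').resolve_left e) ha) b hb)
  have all : ∀ L, CompIn ⊤ L → L = K ∨ L = K' := fun L hL => by
    by_contra e
    rw [not_or] at e
    obtain ⟨a, ha, i⟩ := exists_inv_sub (sim K hK) (ncm K hK)
    obtain ⟨b, hb, i'⟩ := exists_inv_sub (sim K' hK') (ncm K' hK')
    obtain ⟨k1, k2⟩ := d.pair_t2 u2 (sim K hK) (ncm K hK) (sim K' hK') (ncm K' hK')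
      (cm K K' hK hK' KK.symm) ha hb i i'
    obtain ⟨w, hw⟩ := exists_TT (Two.of_sq (d.t2_sq k2)).isPGroup
    exact QS.not_le_St (comp_map hL kk sj).qs w fun l hl => u2.cen_fix k1 k2 (hw (mem_zpowers _))
      (d.cm_le (d.cm_mul' (cm K L hK hL (Ne.symm e.1) a ha l hl)
        (cm K' L hK' hL (Ne.symm e.2) b hb l hl))).symm
  have eE : layer G = K ⊔ K' := le_antisymm (layerIn_top.ge.trans (layerIn_le_iff.2 fun L hL => by
    rcases all L hL with rfl | rfl
    exacts [le_sup_left, le_sup_right])) (sup_le (hK.le_layerIn.trans layerIn_top.le)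
      (hK'.le_layerIn.trans layerIn_top.le))
  have nE : (K ⊔ K').Normal := eE ▸ inferInstance
  have EN : ∀ L, CompIn ⊤ L → K ⊔ K' ≤ Nor L := fun L hL =>
    sup_le (hK.le_normalizer hL) (hK'.le_normalizer hL)
  have mN : ∀ L g, g ∈ Nor L → f g ∈ Nor (L.map f) := fun L g hg =>
    le_normalizer_map f ⟨g, hg, rfl⟩
  have sy : ∀ L, CompIn ⊤ L → H5.IsSylowOf 2 (TT (x.mapSurjective sj) ⊓ L.map f) (L.map f) :=
    fun L hL => by
      have := nE.map f sj
      have le : L.map f ≤ (K ⊔ K').map f := map_mono ((hL.le_layerIn.trans layerIn_top.le).trans eE.le)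
      have := ((TT_syl (x.mapSurjective sj)).inf_of_le_normalizer (N := (K ⊔ K').map f) le_top
        le_normalizer_of_normal).inf_of_le_normalizer le (inf_le_right.trans (by
          rintro _ ⟨g, hg, rfl⟩; exact mN L g (EN L hL hg)))
      rwa [inf_assoc, inf_eq_right.mpr le] at this
  have pr := fun K K' hK hK' e => d.pair u2 (sim K hK) (ncm K hK) (sim K' hK') (ncm K' hK')
    (cm K K' hK hK' e) (sy K hK) (sy K' hK')
  have zK : ∀ K K' : Subgroup G, CompIn ⊤ K → CompIn ⊤ K' → K ≠ K' → z ∈ K := fun K K' hK hK' e => by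
    obtain ⟨_, ⟨a, ha, rfl⟩, i⟩ := exists_inv_sub (sim K hK) (ncm K hK)
    exact ((d.ker (a * a)).mp (by rw [map_mul, i.2])).resolve_left (fun k => i.1 (d.pair_no u2
      (sim K' hK') (ncm K' hK') (cm K K' hK hK' e) _ ⟨a, ha, rfl⟩ (d.t2_iff.mpr k))) ▸ mul_mem ha ha
  have iso : ∀ K K' : Subgroup G, CompIn ⊤ K → CompIn ⊤ K' → K ≠ K' →
      Nonempty (K ≃* SL(2, ZMod 5)) := fun K K' hK hK' e => by
    have := sim K hK
    obtain ⟨φ⟩ := GW.psl60 (pr K K' hK hK' e).1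
    refine GW.cover_sl2 (F := ZMod 5) (by rw [ZMod.card]; decide) (by rw [ZMod.card]; decide)
      (φ.toMonoidHom.comp (f.subgroupMap K)) (φ.surjective.comp (f.subgroupMap_surjective K))
      (z := ⟨z, zK K K' hK hK' e⟩) (inv_coe.mp iz).orderOf (fun g => Subtype.ext (d.cen g))
      (Subgroup.ext fun g => ?_) (isQuasisimple_iff'.mp (qs_iff.mp hK.qs)).1
    rw [MonoidHom.mem_ker, MonoidHom.comp_apply]
    refine φ.map_eq_one_iff.trans (Subtype.ext_iff.trans ((d.ker g).trans ⟨?_, fun k =>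
      ((inv_coe.mp iz).mem_zpowers k).imp (congrArg Subtype.val) (congrArg Subtype.val)⟩))
    rintro (k | k)
    · rw [show g = 1 from Subtype.ext k]; exact one_mem _
    · rw [show g = ⟨z, _⟩ from Subtype.ext k]; exact mem_zpowers _
  have cc : ∀ a ∈ K, ∀ b ∈ K', a * b = b * a := fun a ha b hb =>
    d.cm_iff.mp (cm K K' hK hK' KK.symm _ ⟨a, ha, rfl⟩ _ ⟨b, hb, rfl⟩)
  obtain ⟨φ⟩ := iso K K' hK hK' KK.symm
  obtain ⟨ψ⟩ := iso K' K hK' hK KK
  refine ⟨_, nE, ?_, isSL25_of φ ψ cc iz (zK K K' hK hK' KK.symm) (zK K' K hK' hK KK)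
    fun g hg => ?_⟩
  swap
  · rcases vz g ((fitting_eq_pCore hO).le (fittingIn_top.le (hK.center_le_fittingIn
      ⟨hg.1, cen_iff.mpr fun a ha => (cc a ha g hg.2).symm⟩))) with rfl | rfl
    exacts [one_mem _, mem_zpowers _]
  have NN : Nor K ≤ Nor K' := fun g hg => mem_normalizer_iff_conjS.mpr
    ((all _ (hK'.conjS_of_mem (mem_top g))).resolve_left fun e =>
      KK (conjS_injective g (e.trans (mem_normalizer_iff_conjS.mp hg).symm)))
  have i2 : (Nor K).index ∣ 2 := by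
    by_cases e : ∀ g, g ∈ Nor K
    · exact index_dvd_two_iff'.mpr ⟨1, fun b => Or.inr (e b)⟩
    push Not at e
    obtain ⟨g, hg⟩ := e
    have k := fun g (hg : g ∉ Nor K) => (all _ (hK.conjS_of_mem (mem_top g))).resolve_left
      fun e => hg (mem_normalizer_iff_conjS.mpr e)
    exact index_dvd_two_iff'.mpr ⟨g⁻¹, fun b => or_iff_not_imp_right.mpr fun hb =>
      mem_normalizer_iff_conjS.mpr (by rw [← conjS_conjS, k b hb, ← k g hg, conjS_inv_conjS])⟩
  have nN : (Nor K).Normal := by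
    rcases (Nat.dvd_prime Nat.prime_two).mp i2 with e | e
    · rw [index_eq_one.mp e]; infer_instance
    · exact normal_of_index_eq_two e
  have le : TT x ⊓ Nor K ≤ K ⊔ K' := fun s hs => by
    have m : f s ∈ TT (x.mapSurjective sj) := mem_map_of_mem f hs.1
    obtain ⟨k, hk, c, hc, e⟩ := (mem_sup_of_le_normalizer_left (cen_le_nor _)).mp
      ((pr K K' hK hK' KK.symm).2 ⟨m, mN K s hs.2⟩)
    have kc : k ∈ Cen (K'.map f) := cen_iff.mpr fun b hb => d.cm_le (cm K K' hK hK' KK.symm k hk b hb)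
    have m2 := (pr K' K hK' hK KK).2 ⟨m, mN K' s (NN hs.2)⟩
    rw [← e, mul_mem_cancel_left (mem_sup_right kc)] at m2
    obtain ⟨k', hk', c', hc', rfl⟩ := (mem_sup_of_le_normalizer_left (cen_le_nor _)).mp m2
    have c1 : c' = 1 := cen c' fun L hL => by
      rcases all L hL with rfl | rfl
      · exact (mul_mem_cancel_left (cen_iff.mpr fun b hb =>
          d.cm_le (cm K' L hK' hK KK k' hk' b hb))).mp hc
      · exact hc'
    have : s ∈ ((K ⊔ K').map f).comap f := by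
      rw [mem_comap, ← e, c1, mul_one]
      exact mul_mem (map_mono le_sup_left hk) (map_mono le_sup_right hk')
    rwa [comap_map_eq, kk, sup_eq_left.mpr fun w hw => by
      rcases vz w hw with rfl | rfl
      exacts [one_mem _, mem_sup_left (zK K K' hK hK' KK.symm)]] at this
  have od : Odd ((K ⊔ K').relIndex (Nor K)) := Nat.odd_iff.mpr (Nat.two_dvd_ne_zero.mp fun e =>
    ((TT_syl x).inf_of_le_normalizer (N := Nor K) le_top le_normalizer_of_normal).not_dvd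
      (e.trans (relIndex_dvd_of_le_left _ le)))
  rw [← relIndex_mul_index (EN K hK)]
  rcases (Nat.dvd_prime Nat.prime_two).mp i2 with e | e <;> rw [e]
  · exact Or.inl (by rwa [mul_one])
  · exact Or.inr ⟨_, od, mul_comm _ _⟩

theorem con_main (rk : Rk2 (⊤ : Subgroup G)) {x y : Sylow 2 G} (ne : x ≠ y)
    (nc : ¬ IsCyclic ↥(TT x ⊓ TT y)) :
    (Rk3 (⊤ : Subgroup G) ∧ (∃ n, Nonempty (pCore 2 G ≃* QuaternionGroup (2 ^ (n + 1)))) ∧
      ∃ L : Subgroup Y, L.Normal ∧ Odd L.index ∧ IsBenderGroup L) ∨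
    ∃ E : Subgroup G, E.Normal ∧ (Odd E.index ∨ ∃ k, Odd k ∧ E.index = 2 * k) ∧ IsSL25 E := by
  by_cases hc : IsCyclic (pCore 2 G)
  · exact Or.inr (con_two h hO hn sj kk (con_cyc h hO hn sj kk hc ne nc) rk ne nc)
  · obtain ⟨k1, k2⟩ := con_quat h hO hn sj kk hc
    exact Or.inl ⟨k1, exists_quat (isPGroup_pCore 2 G) (core_rk h hn) hc, k2⟩

end Main

theorem H1.odd_le_St (h : H1 G) {x : Sylow 2 G} (r : Rk3 (TT x)) {O : Subgroup G} [O.Normal]
    (ho : Odd (Nat.card O)) : O ≤ St G x := by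
  obtain ⟨a, ha, b, hb, c, hc, i1, i2, i3, ab, ac, bc, n1, n2, n3, n4⟩ := r
  have key : ∀ u ∈ TT x, BS.Inv u → ∀ v ∈ TT x, BS.Inv v → v * c = c * v → u * v = v * u →
      u * c = c * u → c ≠ v → u ≠ c → u ≠ v → u ≠ c * v → O ⊓ Cen1 u ≤ St G x :=
    fun u hu i v hv j vc uv uc k1 k2 k3 k4 => by
      have k : ∀ w ∈ TT x, BS.Inv w → u ≠ w → u * w = w * u → O ⊓ Cen1 u ⊓ Cen1 w ≤ St G x :=
        fun w hw i' ne c g hg => h.cen_fix i i' ne c hu hw (c1_iff.mp hg.1.2) (c1_iff.mp hg.2)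
      have nr : ∀ w, u * w = w * u → w ∈ Nor (O ⊓ Cen1 u) := fun w e => le_normalizer_inf
        (H := Cen1 u) le_normalizer_of_normal le_normalizer (c1_iff.mpr e.symm)
      exact le_of_four i3 j k1 vc.symm (ho.of_dvd_nat (card_dvd_of_le inf_le_left)) (nr c uc)
        (nr v uv) (k c hc i3 k2 uc) (k v hv j k3 uv) (k _ (mul_mem hc hv) (i3.mul j k1 vc.symm) k4
          (by rw [← mul_assoc, uc, mul_assoc, uv, mul_assoc]))
  have sw : ∀ {u v w : G}, v * v = 1 → u = w * v → w = u * v := fun h e => by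
    rw [e, mul_assoc, h, mul_one]
  refine le_of_four i1 i2 n1 ab ho (le_normalizer_of_normal (mem_top a))
    (le_normalizer_of_normal (mem_top b))
    (key a ha i1 b hb i2 bc ab ac n3 n2.symm n1 fun e => n4 (sw i2.2 e))
    (key b hb i2 a ha i1 ac ab.symm bc n2 n3.symm n1.symm fun e => n4 ((sw i1.2 e).trans ab.symm))
    (key _ (mul_mem ha hb) (i1.mul i2 n1 ab) b hb i2 bc (by rw [← mul_assoc, ← ab])
      (by rw [mul_assoc, bc, ← mul_assoc, ac, mul_assoc]) n3 n4.symm (by simp [i1.1])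
      (by simpa using n2.symm))

theorem Rk3.exists_TT {X : Type*} [Group X] [Finite X] (r : Rk3 (⊤ : Subgroup X)) :
    ∃ x : Sylow 2 X, Rk3 (TT x) := by
  obtain ⟨a, -, b, -, c, -, i1, i2, i3, ab, ac, bc, e⟩ := r
  obtain ⟨x, hx⟩ := Hz.exists_TT (P := zpowers c ⊔ (zpowers a ⊔ zpowers b))
    (i3.isPGroup.to_sup_of_normal_left' (pair_two i1.2 i2.2 ab) ((sup_le
      (zpowers_le.mpr (c1_iff.mpr ac)) (zpowers_le.mpr (c1_iff.mpr bc))).trans fun g hg =>
        H5.mem_normalizer_of_forall (by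
          rintro _ ⟨n, rfl⟩
          exact ⟨n, by show c ^ n = g * c ^ n * g⁻¹; rw [← conj_zpow, c1_iff'.mp hg]⟩)))
  exact ⟨x, a, hx (mem_sup_right (mem_sup_left (mem_zpowers a))), b,
    hx (mem_sup_right (mem_sup_right (mem_zpowers b))), c, hx (mem_sup_left (mem_zpowers c)),
    i1, i2, i3, ab, ac, bc, e⟩

omit [Finite G] in
theorem Rk3.of_map {X : Type*} [Group X] {f : G →* X} (hk : Odd (Nat.card f.ker)) {P : Subgroup G}
    (hP : IsPGroup 2 P) (r : Rk3 (P.map f)) : Rk3 P := by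
  obtain ⟨_, ⟨a, ha, rfl⟩, _, ⟨b, hb, rfl⟩, _, ⟨c, hc, rfl⟩, i1, i2, i3, ab, ac, bc, n1, n2, n3, n4⟩ := r
  have k : ∀ a ∈ P, ∀ b ∈ P, f a * f b = f b * f a → a * b = b * a := fun a ha b hb e =>
    inj_of_odd hk hP (mul_mem ha hb) (mul_mem hb ha) (by rwa [map_mul, map_mul])
  exact ⟨a, ha, b, hb, c, hc, (inv_of_odd hk hP ha).1 i1, (inv_of_odd hk hP hb).1 i2,
    (inv_of_odd hk hP hc).1 i3, k a ha b hb ab, k a ha c hc ac, k b hb c hc bc,
    fun e => n1 (by rw [e]), fun e => n2 (by rw [e]), fun e => n3 (by rw [e]),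
    fun e => n4 (by rw [e, map_mul])⟩

theorem H1.map_pCore (h : H1 G) {X : Type*} [Group X] [Finite X] {f : G →* X}
    (sj : Function.Surjective f) (hk : Odd (Nat.card f.ker)) (r : Rk3 (⊤ : Subgroup X)) :
    (pCore 2 G).map f = pCore 2 X := by
  obtain ⟨x, r⟩ := r.exists_TT
  obtain ⟨x, rfl⟩ := Sylow.mapSurjective_surjective sj 2 x
  have le := h.odd_le_St (Rk3.of_map hk x.isPGroup' r) hk
  refine le_antisymm (map_pCore_le f sj 2) fun v hv => ?_
  obtain ⟨s, hs, rfl⟩ := pCore_le_sylow (x.mapSurjective sj) hv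
  refine ⟨s, le_pCore (normal_inf_of_le_St (N := (pCore 2 X).comap f) inferInstance
    (((comap_mono (pCore_le_sylow (x.mapSurjective sj))).trans (comap_map_eq f _).le).trans
      (sup_le (fun t ht => TT_fix ht) le))) x.isPGroup'.to_inf_left ⟨hs, hv⟩, rfl⟩

omit [Finite G] in
theorem exists_quot_equiv {X : Type*} [Group X] {f : G →* X} (sj : Function.Surjective f)
    {R : Subgroup G} (kk : f.ker = R) (L : Subgroup X) [(R.subgroupOf (L.comap f)).Normal] :
    Nonempty (↥(L.comap f) ⧸ R.subgroupOf (L.comap f) ≃* L) := by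
  refine ⟨(QuotientGroup.quotientMulEquivOfEq ?_).trans (QuotientGroup.quotientKerEquivOfSurjective
    _ (f.subgroupComap_surjective_of_surjective L sj))⟩
  ext x
  rw [MonoidHom.mem_ker, Subtype.ext_iff]
  exact (SetLike.ext_iff.1 kk (x : G)).symm

end Hz
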