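import Cfsg.Agent.Hz.S1

/-! Strongly closed subgroups of `Ω₁ Z(T)`. -/

set_option autoImplicit false

namespace Hz

open Cfsg Subgroup FT H4 BS
open scoped commutatorElement

universe u

variable {G : Type u} [Group G]

/-- the Sylow subgroups containing `U` -/
def Om (U : Subgroup G) : Set (Sylow 2 G) := {y | U ≤ TT y}

theorem mem_Om1 {a : G} {y : Sylow 2 G} : y ∈ Om (zpowers a) ↔ a ∈ TT y := zpowers_le

/-- an equivariant family of strongly closed subgroups of `Ω₁ Z(T)` -/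
structure SC (A : Sylow 2 G → Subgroup G) (q : ℕ) : Prop where
  le : ∀ x, A x ≤ ZZ x
  conj : ∀ (g : G) x, ∀ a ∈ A x, g * a * g⁻¹ ∈ A (g • x)
  card : ∀ x, Nat.card (A x) = q
  sc : ∀ x y, ∀ c ∈ A y, c ∈ TT x → c ∈ A x

/-- the elements of `A` outside `U` lie in only one Sylow subgroup containing `U` -/
def Rel (A : Sylow 2 G → Subgroup G) (U : Subgroup G) : Prop :=
  ∀ y ∈ Om U, ∀ y' ∈ Om U, ∀ b ∈ A y, b ∈ TT y' → y' = y ∨ b ∈ U

variable [Finite G]

theorem odd_orbit {x : Sylow 2 G} {a : G} (ha : ∀ t ∈ TT x, a * t = t * a) :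
    Odd {z | ∃ g ∈ St G x, g * a * g⁻¹ = z}.ncard := by
  have h1 := card_eq_conj_mul (St G x) a
  have h2 := H5.card_mul_relIndex (inf_le_left : St G x ⊓ Cen1 a ≤ St G x)
  have h3 := (odd_relIndex (x := x) (C := St G x ⊓ Cen1 a) (N := St G x)
    (fun t ht => ⟨TT_fix ht, c1_iff.mpr (ha t ht).symm⟩)).resolve_right
    fun e => e fun t ht => TT_fix ht
  rwa [Nat.eq_of_mul_eq_mul_left Nat.card_pos (h2.trans (h1.trans (mul_comm _ _)))] at h3

omit [Finite G] in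
theorem pair_two {a b : G} (ha : a * a = 1) (hb : b * b = 1) (hc : a * b = b * a) :
    IsPGroup 2 ↥(zpowers a ⊔ zpowers b) :=
  (Two.of_sq ha).isPGroup.to_sup_of_normal_left' (Two.of_sq hb).isPGroup
    (zpowers_le.mpr (cen_le_nor _ (cen_iff.mpr (by
      rintro _ ⟨n, rfl⟩
      exact ((Commute.zpow_left hc n).eq).symm))))

namespace SC

variable {A : Sylow 2 G → Subgroup G} {q : ℕ} (h : SC A q) {x y : Sylow 2 G} {U : Subgroup G}
  {a b : G}
include h

omit [Finite G] in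
theorem TT_of (ha : a ∈ A x) : a ∈ TT x := (h.le x ha).1

omit [Finite G] in
theorem sq (ha : a ∈ A x) : a * a = 1 := (h.le x ha).2.1

omit [Finite G] in
theorem cen (ha : a ∈ A x) {t : G} (ht : t ∈ TT x) : a * t = t * a := (h.le x ha).2.2 t ht

omit [Finite G] in
theorem comm (ha : a ∈ A x) (hb : b ∈ A x) : a * b = b * a := h.cen ha (h.TT_of hb)

omit [Finite G] in
theorem conj' {g : G} (hg : g • x = x) (ha : a ∈ A x) : g * a * g⁻¹ ∈ A x := by
  have := h.conj g x a ha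
  rwa [hg] at this

omit [Finite G] in
theorem U_le (hU : U ≤ A x) (hy : y ∈ Om U) : U ≤ A y := fun u hu => h.sc y x u (hU hu) (hy hu)

omit [Finite G] in
theorem TT_le_cen (hU : U ≤ A x) (hy : y ∈ Om U) : TT y ≤ Cen U := fun _ ht =>
  cen_iff.mpr fun _ hu => (h.cen (h.U_le hU hy hu) ht).symm

theorem q_pow (x : Sylow 2 G) : ∃ k, q = 2 ^ k := by
  obtain ⟨k, hk⟩ := (x.isPGroup'.to_le fun a ha => h.TT_of ha).exists_card_eq
  exact ⟨k, (h.card x).symm.trans hk⟩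

theorem iso_or (ha : a ∈ A x) :
    (∀ g, a * (g * a * g⁻¹) = (g * a * g⁻¹) * a → g * a * g⁻¹ = a) ∨
      ∃ n, n • x = x ∧ n * a * n⁻¹ ≠ a := by
  by_contra hn
  push Not at hn
  obtain ⟨⟨g, hc, hne⟩, h2⟩ := hn
  have ha' := h.conj g x a ha
  obtain ⟨c, hc1, hle⟩ := exists_smul_le (C := Cen1 a) (x := x)
    (fun t ht => c1_iff.mpr (h.cen ha ht).symm) (pair_two (h.sq ha) (h.sq ha') hc)
    (sup_le (zpowers_le.mpr (c1_iff.mpr rfl)) (zpowers_le.mpr (c1_iff.mpr hc.symm)))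
  have k1 := h.sc _ _ _ ha' (hle (mem_sup_right (mem_zpowers _)))
  obtain ⟨d, hd, e⟩ := exists_smul (C := Cen1 (g * a * g⁻¹)) (x := g • x) (y := c • x)
    (fun t ht => c1_iff.mpr (h.cen ha' ht).symm) (fun t ht => c1_iff.mpr (h.cen k1 ht).symm)
  have := h2 (c⁻¹ * d * g) (by rw [mul_smul, mul_smul, e, inv_smul_smul])
  refine hne ?_
  calc g * a * g⁻¹ = d * (g * a * g⁻¹) * d⁻¹ := (c1_iff'.mp hd).symm
    _ = c * (c⁻¹ * d * g * a * (c⁻¹ * d * g)⁻¹) * c⁻¹ := by group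
    _ = a := by rw [this, c1_iff'.mp hc1]

theorem zd (h4 : 4 ≤ q) (hu : ∀ x y, ∀ a ∈ A x, a ≠ 1 → a ∈ TT y → y = x) : ZD A TT q :=
  ⟨h.card, h4, fun _ _ ha => h.sq ha, h.conj, memTT, fun _ _ ha => TT_fix (h.TT_of ha),
    fun _ _ ha _ hg => h.cen ha hg,
    fun x y a ha h1 h2 => hu x y a ha h1 ((memTT _ _).2 ⟨h2, Two.of_sq (h.sq ha)⟩)⟩

theorem fixer_iff (hu : Rel A U) {x' : Sylow 2 G} (hx : x ∈ Om U) (hx' : x' ∈ Om U)
    (hne : x' ≠ x) (hy : y ∈ Om U) (hb : b ∈ A y) : b ∈ Fixer G (Om U) ↔ b ∈ U := by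
  refine ⟨fun hf => ?_, fun hb z hz => TT_fix (hz hb)⟩
  have k : ∀ z ∈ Om U, z ≠ y → b ∈ U := fun z hz e => (hu y hy z hz b hb
    ((memTT _ _).2 ⟨hf z hz, Two.of_sq (h.sq hb)⟩)).resolve_left e
  by_cases e : x = y
  · exact k x' hx' (e ▸ hne)
  · exact k x hx e

theorem zr (hU : U ≤ A x) {q' : ℕ} (hq : q = Nat.card U * q') (h4 : 4 ≤ q') (hu : Rel A U)
    {x' : Sylow 2 G} (hx' : x' ∈ Om U) (hne : x' ≠ x) : ZR A TT q' (Cen U) (Om U) := by
  have hx : x ∈ Om U := fun u hu => h.TT_of (hU hu)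
  refine ⟨fun g hg y hy u hu => ?_, fun y hy a ha => h.TT_le_cen hU hy (h.TT_of ha),
    fun y hy => ?_, h4, fun y _ a ha => by rw [h.sq ha]; exact one_mem _,
    fun g _ y _ a ha => h.conj g y a ha, memTT, fun y _ a ha => TT_fix (h.TT_of ha),
    fun y _ a ha g hg _ => by rw [h.cen ha hg, inv_mul_cancel]; exact one_mem _,
    fun y hy z hz a ha e => (hu y hy z hz a ha ((memTT _ _).2 ⟨e, Two.of_sq (h.sq ha)⟩)).imp_right
      fun e => (h.fixer_iff hu hx hx' hne hy ha).mpr e⟩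
  · have := conj_mem_smul g (hy hu)
    rwa [cen_iff.mp hg u hu, mul_inv_cancel_right] at this
  · have e : Fixer G (Om U) ⊓ A y = U := le_antisymm
      (fun b hb => (h.fixer_iff hu hx hx' hne hy hb.2).mp hb.1) fun b hb =>
        ⟨fun z hz => TT_fix (hz hb), h.U_le hU hy hb⟩
    rw [← inf_relIndex_right, e]
    have := H5.card_mul_relIndex (h.U_le hU hy)
    rw [h.card, hq] at this
    exact Nat.eq_of_mul_eq_mul_left Nat.card_pos this

theorem exists_K (hU : U ≤ A x) {q' : ℕ} (hq : q = Nat.card U * q') (h4 : 4 ≤ q') (hu : Rel A U)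
    {x' : Sylow 2 G} (hx' : x' ∈ Om U) (hne : x' ≠ x) (ha : a ∈ A x) (haU : a ∉ U) (hb : b ∈ A x)
    (hbU : b ∉ U) : ∃ k ∈ Cen U, k • x = x ∧ (k * a * k⁻¹)⁻¹ * b ∈ U := by
  have hx : x ∈ Om U := fun u hu => h.TT_of (hU hu)
  have z := h.zr hU hq h4 hu hx' hne
  obtain ⟨k, hk, k1, k2⟩ := (z.main hx' hx hne).2.2 x hx a ha
    (fun e => haU ((h.fixer_iff hu hx hx' hne hx ha).mp e)) b hb
    fun e => hbU ((h.fixer_iff hu hx hx' hne hx hb).mp e)
  exact ⟨k, iSup₂_le z.le hk, k1,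
    (h.fixer_iff hu hx hx' hne hx (mul_mem (inv_mem (h.conj' k1 ha)) hb)).mp k2⟩

section One

variable (ha : a ∈ A x) (ha1 : a ≠ 1) {q' : ℕ} (hq : q = 2 * q') (h4 : 4 ≤ q')
  (hu : Rel A (zpowers a)) {x' : Sylow 2 G} (hx' : a ∈ TT x') (hne : x' ≠ x)
include ha ha1 hq h4 hu hx' hne

theorem K1 {b c : G} (hb : b ∈ A x) (hb' : b ∉ zpowers a) (hc : c ∈ A x) (hc' : c ∉ zpowers a) :
    ∃ k, k • x = x ∧ k * a * k⁻¹ = a ∧ (k * b * k⁻¹ = c ∨ k * b * k⁻¹ = a * c) := by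
  have i : BS.Inv a := ⟨ha1, h.sq ha⟩
  obtain ⟨k, hk, k1, k2⟩ := h.exists_K (zpowers_le.mpr ha) (by rw [i.card_zpowers, hq]) h4 hu
    (mem_Om1.mpr hx') hne hb hb' hc hc'
  refine ⟨k, k1, by rw [cen_iff.mp hk a (mem_zpowers a), mul_inv_cancel_right], ?_⟩
  rcases i.mem_zpowers k2 with e | e
  · exact Or.inl (inv_mul_eq_one.mp e)
  · right
    rw [inv_mul_eq_iff_eq_mul.mp e, h.comm (h.conj' k1 hb) ha, ← mul_assoc, i.2, one_mul]

theorem trans {n : G} (hn : n • x = x) (hna : n * a * n⁻¹ ≠ a) (hb : b ∈ A x) (hb1 : b ≠ 1) :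
    ∃ n, n • x = x ∧ n * a * n⁻¹ = b := by
  by_contra hO
  have i : BS.Inv a := ⟨ha1, h.sq ha⟩
  set O := {z | ∃ g ∈ St G x, g * a * g⁻¹ = z} with hOd
  have aO : a ∈ O := ⟨1, one_mem _, by simp⟩
  have cO : ∀ k c, k • x = x → c ∈ O → k * c * k⁻¹ ∈ O := by
    rintro k _ hk ⟨g, hg, rfl⟩
    exact ⟨k * g, mul_mem hk hg, by group⟩
  have OA : ∀ c ∈ O, c ∈ A x ∧ c ≠ 1 := by
    rintro _ ⟨g, hg, rfl⟩
    exact ⟨h.conj' hg ha, (i.conj g).1⟩
  have nz : ∀ c, c ≠ 1 → c ≠ a → c ∉ zpowers a := fun c h1 h2 e => (i.mem_zpowers e).elim h1 h2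
  have b' : b ∉ zpowers a := nz b hb1 fun e => hO ⟨1, one_smul _ _, by simp [e]⟩
  have aa : ∀ c, a * (a * c) = c := fun c => by rw [← mul_assoc, i.2, one_mul]
  have c1 := ncard_dc ((A x : Set G) \ zpowers a) (O \ {a}) (fun b c => c = b ∨ c = a * b)
    (m := 1) (n := 2) (fun c hc => by
      have k1 : c ∈ O ∨ a * c ∈ O := by
        obtain ⟨k, k1, -, k2⟩ := h.K1 ha ha1 hq h4 hu hx' hne (h.conj' hn ha)
          (nz _ (i.conj n).1 hna) hc.1 hc.2
        rcases k2 with e | e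
        · exact Or.inl (e ▸ cO k _ k1 ⟨n, hn, rfl⟩)
        · exact Or.inr (e ▸ cO k _ k1 ⟨n, hn, rfl⟩)
      have k2 : ¬ (c ∈ O ∧ a * c ∈ O) := fun ⟨e1, e2⟩ => by
        obtain ⟨k, k1, k3, k2 | k2⟩ := h.K1 ha ha1 hq h4 hu hx' hne hc.1 hc.2 hb b'
        · exact hO (k2 ▸ cO k _ k1 e1)
        · have := cO k _ k1 e2
          rw [show k * (a * c) * k⁻¹ = k * a * k⁻¹ * (k * c * k⁻¹) by group, k2, k3, aa] at this
          exact hO this
      have n1 : c ≠ a := fun e => hc.2 (e ▸ mem_zpowers a)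
      have n2 : a * c ≠ a := fun e => hc.2 (by rw [mul_eq_left.mp e]; exact one_mem _)
      rcases k1 with k1 | k1
      · exact Set.ncard_eq_one.mpr ⟨c, Set.eq_singleton_iff_unique_mem.mpr ⟨⟨⟨k1, n1⟩, Or.inl rfl⟩,
          fun d hd => hd.2.resolve_right fun e => k2 ⟨k1, e ▸ hd.1.1⟩⟩⟩
      · exact Set.ncard_eq_one.mpr ⟨a * c, Set.eq_singleton_iff_unique_mem.mpr
          ⟨⟨⟨k1, n2⟩, Or.inr rfl⟩, fun d hd => hd.2.resolve_left fun e => k2 ⟨e ▸ hd.1.1, k1⟩⟩⟩)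
    (fun c hc => by
      obtain ⟨k1, k2⟩ := OA c hc.1
      have k3 := nz c k2 hc.2
      rw [← Set.ncard_pair (a := c) (b := a * c) fun e => ha1 (mul_eq_right.mp e.symm)]
      congr 1; ext d
      constructor
      · rintro ⟨-, rfl | rfl⟩
        · exact Or.inl rfl
        · exact Or.inr (aa d).symm
      · rintro (rfl | rfl)
        · exact ⟨⟨k1, k3⟩, Or.inl rfl⟩
        · exact ⟨⟨mul_mem ha k1, fun e => k3 ((mul_mem_cancel_left (mem_zpowers a)).mp e)⟩,
            Or.inr (aa c).symm⟩)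
  have s1 : ((zpowers a : Subgroup G) : Set G) ⊆ A x := zpowers_le.mpr ha
  rw [Set.ncard_sdiff s1, ncard_coe, ncard_coe, h.card, i.card_zpowers,
    Set.ncard_sdiff_singleton_of_mem aO] at c1
  have c2 := odd_orbit (x := x) (a := a) fun t ht => h.cen ha ht
  have c3 : 0 < O.ncard := (Set.ncard_pos (Set.toFinite _)).mpr ⟨a, aO⟩
  rw [← hOd, show O.ncard = q' by omega] at c2
  obtain ⟨k, hk⟩ := h.q_pow x
  have : 2 ∣ q' := by
    rcases k with _ | _ | k
    · omega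
    · omega
    · exact ⟨2 ^ k, by rw [pow_succ, pow_succ] at hk; omega⟩
  exact Nat.not_even_iff_odd.mpr c2 (even_iff_two_dvd.mpr this)

theorem eight (tr : ∀ b ∈ A x, b ≠ 1 → ∃ n, n • x = x ∧ n * a * n⁻¹ = b) : q = 8 := by
  classical
  have i : BS.Inv a := ⟨ha1, h.sq ha⟩
  have TC : TT x ≤ St G x ⊓ Cen1 a := fun t ht => ⟨TT_fix ht, c1_iff.mpr (h.cen ha ht).symm⟩
  have od := (odd_relIndex (x := x) (C := TT x) (N := St G x ⊓ Cen1 a) le_rfl).resolve_right
    fun e => e TC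
  obtain ⟨k0, hk0⟩ := x.isPGroup'.exists_card_eq
  obtain ⟨D, hD, d1, -, d2⟩ := H5.exists_complement_of_coprime TC
    (inf_le_left.trans (St_eq x).le) (by
      rw [hk0]; exact (Nat.coprime_two_left.mpr od).pow_left _)
  have nA : St G x ≤ Nor (A x) := fun g hg => H5.mem_normalizer_of_forall fun b hb => h.conj' hg hb
  obtain ⟨W, -, W1, W2, W3, W4⟩ := exists_sect_compl (p := 2) (X := A x) (Y := ⊥) (U := zpowers a)
    (A := D) bot_le (zpowers_le.mpr ha) (fun b hb c hc => by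
      rw [mem_bot, commutatorElement_eq_one_iff_mul_comm]; exact h.comm hb hc)
    (fun b hb => by rw [pow_two, h.sq hb]; exact one_mem _)
    (by rw [d2]; exact Nat.coprime_two_right.mpr od) (hD.trans (inf_le_left.trans nA))
    le_normalizer_of_normal fun d hd => H5.mem_normalizer_of_forall (by
      rintro _ ⟨n, rfl⟩
      exact ⟨n, by show a ^ n = d * a ^ n * d⁻¹; rw [← conj_zpow, c1_iff'.mp (hD hd).2]⟩)
  have nW : St G x ⊓ Cen1 a ≤ Nor W := d1 ▸ sup_le (fun t ht => H5.mem_normalizer_of_forall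
    fun w hw => by rw [← h.cen (W1 hw) ht, mul_inv_cancel_right]; exact hw) W2
  have aW : a ∉ W := fun e => ha1 (mem_bot.mp (W3 ▸ (⟨mem_zpowers a, e⟩ : a ∈ zpowers a ⊓ W)))
  have aa : ∀ c, a * (a * c) = c := fun c => by rw [← mul_assoc, i.2, one_mul]
  have orW : ∀ b ∈ A x, b ∈ W ∨ a * b ∈ W := fun b hb => by
    obtain ⟨u, hu, w, hw, rfl⟩ := (mem_sup_of_le_normalizer_right
      (zpowers_le.mpr (nW ⟨TT_fix (h.TT_of ha), c1_iff.mpr rfl⟩))).mp (W4.ge hb)
    rcases i.mem_zpowers hu with rfl | rfl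
    · exact Or.inl (by simpa using hw)
    · exact Or.inr (by rw [aa]; exact hw)
  have nb : ∀ b, b ∈ W → a * b ∉ W := fun b hb e => aW (by simpa using mul_mem e (inv_mem hb))
  have cW : ∀ k w, k • x = x → k * a * k⁻¹ = a → w ∈ W → k * w * k⁻¹ ∈ W := fun k w k1 k2 hw =>
    (mem_normalizer_iff.mp (nW ⟨k1, c1_iff'.mpr k2⟩) w).mp hw
  have K2 : ∀ b ∈ A x, b ∉ zpowers a → ∀ c ∈ A x, c ∉ zpowers a → (b ∈ W ↔ c ∈ W) →
      ∃ k, k • x = x ∧ k * a * k⁻¹ = a ∧ k * b * k⁻¹ = c := fun b hb hb' c hc hc' e => by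
    obtain ⟨k, k1, k2, k3 | k3⟩ := h.K1 ha ha1 hq h4 hu hx' hne hb hb' hc hc'
    · exact ⟨k, k1, k2, k3⟩
    · exfalso
      by_cases e1 : b ∈ W
      · exact nb c (e.mp e1) (k3 ▸ cW k b k1 k2 e1)
      · have := cW k _ k1 k2 ((orW b hb).resolve_left e1)
        rw [show k * (a * b) * k⁻¹ = k * a * k⁻¹ * (k * b * k⁻¹) by group, k2, k3, aa] at this
        exact e1 (e.mpr this)
  choose! y y1 y2 using tr
  let l : G → G → ZMod 2 := fun c b => if (y c)⁻¹ * b * y c ∈ W then 0 else 1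
  have mA : ∀ c ∈ A x, c ≠ 1 → ∀ b ∈ A x, (y c)⁻¹ * b * y c ∈ A x := fun c hc h1 b hb => by
    simpa using h.conj' (smul_inv_of (y1 c hc h1)) hb
  have add : ∀ c ∈ A x, c ≠ 1 → ∀ b ∈ A x, ∀ b' ∈ A x, l c (b * b') = l c b + l c b' :=
    fun c hc h1 b hb b' hb' => by
      have m1 := mA c hc h1 b hb
      have m2 := mA c hc h1 b' hb'
      have e : (y c)⁻¹ * (b * b') * y c = ((y c)⁻¹ * b * y c) * ((y c)⁻¹ * b' * y c) := by group
      simp only [l, e]
      generalize (y c)⁻¹ * b * y c = u at m1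
      generalize (y c)⁻¹ * b' * y c = v at m2
      by_cases e1 : u ∈ W <;> by_cases e2 : v ∈ W
      · simp [e1, e2, mul_mem e1 e2]
      · simp [e1, e2, mul_mem_cancel_left e1]
      · simp [e1, e2, mul_mem_cancel_right e2]
      · have := mul_mem ((orW u m1).resolve_left e1) ((orW v m2).resolve_left e2)
        rw [mul_assoc, ← mul_assoc u, ← h.comm ha m1, mul_assoc, aa] at this
        simp only [e1, e2, this, if_true, if_false]
        decide
  have anti : ∀ c ∈ A x, c ≠ 1 → ∀ b ∈ A x, b ≠ 1 → b ≠ c → l c b + l b c = 1 :=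
    fun c hc h1 b hb h2 h3 => by
      have nz : ∀ c ∈ A x, c ≠ 1 → ∀ b, b ≠ 1 → b ≠ c → (y c)⁻¹ * b * y c ∉ zpowers a :=
        fun c hc h1 b h2 h3 e => by
          rcases i.mem_zpowers e with e | e
          · exact h2 (by simpa [mul_assoc] using congrArg (fun u => y c * u * (y c)⁻¹) e)
          · exact h3 (by rw [← y2 c hc h1, ← e]; group)
      have key : ¬ ((y c)⁻¹ * b * y c ∈ W ↔ (y b)⁻¹ * c * y b ∈ W) := fun e => by
        obtain ⟨k, k1, k2, k3⟩ := K2 _ (mA c hc h1 b hb) (nz c hc h1 b h2 h3) _ (mA b hb h2 c hc)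
          (nz b hb h2 c h1 h3.symm) e
        have e1 : y b * k * (y c)⁻¹ * c * (y b * k * (y c)⁻¹)⁻¹ = b := by
          calc _ = y b * (k * ((y c)⁻¹ * c * y c) * k⁻¹) * (y b)⁻¹ := by group
            _ = b := by
              rw [show (y c)⁻¹ * c * y c = a by
                rw [mul_assoc, inv_mul_eq_iff_eq_mul, ← mul_inv_eq_iff_eq_mul.mp (y2 c hc h1)],
                k2, y2 b hb h2]
        have e2 : y b * k * (y c)⁻¹ * b * (y b * k * (y c)⁻¹)⁻¹ = c := by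
          calc _ = y b * (k * ((y c)⁻¹ * b * y c) * k⁻¹) * (y b)⁻¹ := by group
            _ = c := by rw [k3]; group
        have f : (y b * k * (y c)⁻¹) • x = x := by
          rw [mul_smul, mul_smul, smul_inv_of (y1 c hc h1), k1, y1 b hb h2]
        generalize y b * k * (y c)⁻¹ = g at e1 e2 f
        have := no_swap f (fun t ht => h.cen hb ht) (by
          calc g * g * b = g * (g * b * g⁻¹) * g⁻¹ * (g * g) := by group
            _ = b * (g * g) := by rw [e2, e1])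
        exact h3 (by rw [← e2, this, mul_inv_cancel_right])
      simp only [l]
      by_cases e1 : (y c)⁻¹ * b * y c ∈ W <;> by_cases e2 : (y b)⁻¹ * c * y b ∈ W
      · exact absurd (iff_of_true e1 e2) key
      · simp [e1, e2]
      · simp [e1, e2]
      · exact absurd (iff_of_false e1 e2) key
  by_contra h8
  obtain ⟨k, hk⟩ := h.q_pow x
  have h16 : 16 ≤ q := by
    rcases k with _ | _ | _ | _ | k
    · omega
    · omega
    · omega
    · omega
    · have := Nat.one_le_two_pow (n := k)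
      rw [pow_succ, pow_succ, pow_succ, pow_succ] at hk; omega
  have ex : ∀ s : Finset G, s.card < 16 → ∃ c ∈ A x, c ∉ s := fun s hs => by
    by_contra hn
    push Not at hn
    have := Set.ncard_le_ncard (s := (A x : Set G)) (t := s) hn
    rw [ncard_coe, h.card, Set.ncard_coe_finset] at this
    omega
  obtain ⟨b, hb, b'⟩ := ex {1, a} (lt_of_le_of_lt Finset.card_le_two (by omega))
  simp only [Finset.mem_insert, Finset.mem_singleton, not_or] at b'
  have hab := mul_mem ha hb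
  have ab1 : a * b ≠ 1 := fun e => b'.2 (by rw [← aa b, e, mul_one])
  have key : ∀ c ∈ A x, c ≠ 1 → c ≠ a → c ≠ b → c ≠ a * b → l a c + l b c + l (a * b) c = 1 :=
    fun c hc h1 h2 h3 h4 => by
      have e1 := anti c hc h1 a ha ha1 h2.symm
      have e2 := anti c hc h1 b hb b'.1 h3.symm
      have e3 := anti c hc h1 _ hab ab1 h4.symm
      rw [add c hc h1 a ha b hb] at e3
      have two : (2 : ZMod 2) = 0 := rfl
      linear_combination e1 + e2 + e3 + (1 - l c a - l c b) * two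
  obtain ⟨c, hc, c'⟩ := ex {1, a, b, a * b} (lt_of_le_of_lt Finset.card_le_four (by omega))
  simp only [Finset.mem_insert, Finset.mem_singleton, not_or] at c'
  obtain ⟨d, hd, d'⟩ := ex ({1, a, b, a * b} ∪ {c, c * a, c * b, c * (a * b)})
    (lt_of_le_of_lt (Finset.card_union_le _ _) (by
      have := Finset.card_le_four (a := (1 : G)) (b := a) (c := b) (d := a * b)
      have := Finset.card_le_four (a := c) (b := c * a) (c := c * b) (d := c * (a * b))
      omega))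
  simp only [Finset.mem_union, Finset.mem_insert, Finset.mem_singleton, not_or] at d'
  have cc : ∀ u, c * d = u → d = c * u := fun u e => by
    rw [← e, ← mul_assoc, h.sq hc, one_mul]
  have e1 := key c hc c'.1 c'.2.1 c'.2.2.1 c'.2.2.2
  have e2 := key d hd d'.1.1 d'.1.2.1 d'.1.2.2.1 d'.1.2.2.2
  have e3 := key _ (mul_mem hc hd) (fun e => d'.2.1 (by simpa using cc _ e))
    (fun e => d'.2.2.1 (cc _ e)) (fun e => d'.2.2.2.1 (cc _ e)) fun e => d'.2.2.2.2 (cc _ e)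
  rw [add a ha ha1 c hc d hd, add b hb b'.1 c hc d hd, add _ hab ab1 c hc d hd] at e3
  have : (1 : ZMod 2) = 0 := by linear_combination e3 - e1 - e2
  exact absurd this (by decide)

end One

end SC

end Hz
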