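import Cfsg.Agent.Hz.S2

/-! Groups in which a four-group containing a 2-central involution lies in a unique Sylow
2-subgroup. -/

set_option autoImplicit false

namespace Hz

open Cfsg Subgroup FT H4 BS
open scoped commutatorElement

universe u

variable {G : Type u} [Group G]

/-- the hypothesis on central intersections -/
def HC (G : Type u) [Group G] : Prop :=
  ∀ x y z : Sylow 2 G, ∀ a ∈ ZZ z, ∀ b, a ≠ 1 → BS.Inv b → a ≠ b → a * b = b * a → a ∈ TT x →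
    b ∈ TT x → a ∈ TT y → b ∈ TT y → x = y

/-- the intersection of the Sylow subgroups containing `u` -/
def RR (u : G) : Subgroup G := ⨅ y ∈ Om (zpowers u), TT y

theorem mem_RR {u r : G} : r ∈ RR u ↔ ∀ y, u ∈ TT y → r ∈ TT y := by
  simp only [RR, mem_iInf, mem_Om1]

theorem RR_conj {u r : G} (g : G) (h : r ∈ RR u) : g * r * g⁻¹ ∈ RR (g * u * g⁻¹) :=
  mem_RR.mpr fun y hy => by
    have := conj_mem_smul g (mem_RR.mp h (g⁻¹ • y) (mem_smul.mpr (by simpa using hy)))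
    rwa [smul_inv_smul] at this

theorem conjS_RR (g u : G) : conjS g (RR u) = RR (g * u * g⁻¹) :=
  le_antisymm (by rintro _ ⟨r, hr, rfl⟩; exact RR_conj g hr) fun r hr =>
    mem_conjS.mpr (by simpa [mul_assoc] using RR_conj g⁻¹ hr)

theorem ZZ_inv {x : Sylow 2 G} {a : G} (ha : a ∈ ZZ x) (h1 : a ≠ 1) : BS.Inv a := ⟨h1, ha.2.1⟩

theorem comm_of_disj {A B : Subgroup G} (h1 : A ≤ Nor B) (h2 : B ≤ Nor A) (h : A ⊓ B = ⊥) {a b : G}
    (ha : a ∈ A) (hb : b ∈ B) : a * b = b * a :=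
  comm_of_eq_one (mem_bot.mp (h ▸ (mem_inf.mpr ⟨H5.mem_of_eq (mul_mem ha
    ((mem_normalizer_iff.mp (h2 hb) _).mp (inv_mem ha))) (by group),
    mul_mem ((mem_normalizer_iff.mp (h1 ha) _).mp hb) (inv_mem hb)⟩ :
      a * b * a⁻¹ * b⁻¹ ∈ A ⊓ B)))

theorem four_le_card [Finite G] {P : Subgroup G} {a b : G} (ha : a ∈ P) (hb : b ∈ P)
    (i1 : BS.Inv a) (i2 : BS.Inv b) (hne : a ≠ b) (hc : a * b = b * a) : 4 ≤ Nat.card P := by
  have i3 := i1.mul i2 hne hc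
  have : ({1, a, b, a * b} : Set G) ⊆ P := by
    rintro _ (rfl | rfl | rfl | rfl)
    exacts [one_mem _, ha, hb, mul_mem ha hb]
  have h1 := Set.ncard_le_ncard this
  rwa [ncard_coe, Set.ncard_insert_of_notMem (by simp [i1.1.symm, i2.1.symm, i3.1.symm]),
    Set.ncard_insert_of_notMem (by simp [hne, i2.1]), Set.ncard_pair (by simp [i1.1])] at h1

theorem mem_four [Finite G] {P : Subgroup G} (h4 : Nat.card P = 4) {a b c : G} (ha : a ∈ P)
    (hb : b ∈ P) (i1 : BS.Inv a) (i2 : BS.Inv b) (hne : a ≠ b) (hc : a * b = b * a) (h : c ∈ P) :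
    c = 1 ∨ c = a ∨ c = b ∨ c = a * b := by
  have i3 := i1.mul i2 hne hc
  have : ({1, a, b, a * b} : Set G) ⊆ P := by
    rintro _ (rfl | rfl | rfl | rfl)
    exacts [one_mem _, ha, hb, mul_mem ha hb]
  have e := Set.eq_of_subset_of_ncard_le this (by
    rw [ncard_coe, Set.ncard_insert_of_notMem (by simp [i1.1.symm, i2.1.symm, i3.1.symm]),
      Set.ncard_insert_of_notMem (by simp [hne, i2.1]), Set.ncard_pair (by simp [i1.1]), h4])
  exact (show c ∈ ({1, a, b, a * b} : Set G) from e ▸ h)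

theorem exists_not_zp [Finite G] {P : Subgroup G} (h : 2 < Nat.card P) (a : G) :
    ∃ b ∈ P, b ≠ 1 ∧ b ≠ a := by
  by_contra hn
  push Not at hn
  have := Set.ncard_le_ncard (s := (P : Set G)) (t := {1, a}) fun b hb => by
    by_cases e : b = 1
    · exact Or.inl e
    · exact Or.inr (hn b hb e)
  have h2 : ({1, a} : Set G).ncard ≤ 2 := (Set.ncard_insert_le _ _).trans (by simp)
  rw [ncard_coe] at this
  omega

variable [Finite G]

theorem card_ZZ (x y : Sylow 2 G) : Nat.card (ZZ x) = Nat.card (ZZ y) := by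
  obtain ⟨g, rfl⟩ := MulAction.exists_smul_eq G x y
  rw [← card_conjS g]
  refine congrArg _ (congrArg _ (le_antisymm (by rintro _ ⟨a, ha, rfl⟩; exact ZZ_conj g ha)
    fun a ha => mem_conjS.mpr ?_))
  simpa using ZZ_conj g⁻¹ ha

namespace HC

variable (h : HC G) {x y x' : Sylow 2 G} {a b : G}
include h

omit [Finite G] in
theorem cen_fix (ha : a ∈ ZZ y) (h1 : a ≠ 1) (hb : BS.Inv b) (hne : a ≠ b) (hc : a * b = b * a)
    (ax : a ∈ TT x) (bx : b ∈ TT x) {g : G} (g1 : g * a = a * g) (g2 : g * b = b * g) :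
    g • x = x :=
  h _ _ y a ha b h1 hb hne hc (by simpa [g1] using conj_mem_smul g ax)
    (by simpa [g2] using conj_mem_smul g bx) ax bx

theorem mem_ZZ (ha : a ∈ ZZ y) (h1 : a ≠ 1) (hb : BS.Inv b) (hne : a ≠ b) (hc : a * b = b * a)
    (ax : a ∈ TT x) (bx : b ∈ TT x) : a ∈ ZZ x := by
  obtain ⟨g, hg, hle⟩ := exists_smul_le (C := Cen1 a) (x := y)
    (fun t ht => c1_iff.mpr (ha.2.2 t ht).symm) (pair_two ha.2.1 hb.2 hc)
    (sup_le (zpowers_le.mpr (c1_iff.mpr rfl)) (zpowers_le.mpr (c1_iff.mpr hc.symm)))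
  rw [h x _ y a ha b h1 hb hne hc ax bx (hle (mem_sup_left (mem_zpowers _)))
    (hle (mem_sup_right (mem_zpowers _))), ← c1_iff'.mp hg]
  exact ZZ_conj g ha

theorem four_le (ha : a ∈ ZZ x) (h1 : a ≠ 1) {g : G} (hc : a * (g * a * g⁻¹) = (g * a * g⁻¹) * a)
    (hne : g * a * g⁻¹ ≠ a) : 4 ≤ Nat.card (ZZ x) := by
  have i1 := ZZ_inv ha h1
  have i2 := i1.conj g
  obtain ⟨w, hw⟩ := exists_TT (pair_two i1.2 i2.2 hc)
  have m1 := hw (mem_sup_left (mem_zpowers _))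
  have m2 := hw (mem_sup_right (mem_zpowers _))
  rw [card_ZZ x w]
  exact four_le_card (h.mem_ZZ ha h1 i2 hne.symm hc m1 m2)
    (h.mem_ZZ (ZZ_conj g ha) i2.1 i1 hne hc.symm m2 m1) i1 i2 hne.symm hc

theorem sc (x : Sylow 2 G) (h4 : 4 ≤ Nat.card (ZZ x)) : SC (ZZ (G := G)) (Nat.card (ZZ x)) := by
  refine ⟨fun _ => le_rfl, fun g _ _ ha => ZZ_conj g ha, fun y => card_ZZ y x, fun y z c hc cy => ?_⟩
  by_cases h1 : c = 1
  · rw [h1]; exact one_mem _
  obtain ⟨b, hb, b1, b2⟩ := exists_not_zp (P := ZZ y) (by rw [card_ZZ y x]; omega) c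
  exact h.mem_ZZ hc h1 (ZZ_inv hb b1) b2.symm (hb.2.2 c cy).symm cy hb.1

omit [Finite G] in
theorem rel (ha : a ∈ ZZ x) (h1 : a ≠ 1) : Rel (ZZ (G := G)) (zpowers a) := by
  intro y hy y' hy' b hb by'
  by_contra hn
  push Not at hn
  exact hn.1 (h _ _ x a ha b h1 (ZZ_inv hb fun e => hn.2 (e ▸ one_mem _))
    (fun e => hn.2 (e ▸ mem_zpowers a)) (hb.2.2 a (mem_Om1.mp hy)).symm (mem_Om1.mp hy') by'
    (mem_Om1.mp hy) hb.1)

/-- the case `|Ω₁ Z(T)| = 4` -/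
theorem omega (h4 : Nat.card (ZZ x) = 4) (ha : a ∈ ZZ x) (h1 : a ≠ 1) (hx' : a ∈ TT x')
    (hne : x' ≠ x) {t : G} (ht : t ∈ TT x) (t2 : t * t = 1) : t ∈ ZZ x := by
  by_contra hn
  have s := h.sc x h4.ge
  have i1 := ZZ_inv ha h1
  obtain ⟨b, hb, b1, b2⟩ := exists_not_zp (P := ZZ x) (by omega) a
  have i2 := ZZ_inv hb b1
  have ab := ha.2.2 b hb.1
  have bC : b ∈ Cen1 a := c1_iff.mpr ab.symm
  obtain ⟨g, hg, e⟩ := exists_smul (C := Cen1 a) (fun t ht => c1_iff.mpr (ha.2.2 t ht).symm)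
    fun t ht => c1_iff.mpr ((s.sc _ _ _ ha hx').2.2 t ht).symm
  obtain ⟨o, ho, c, hc, cb, rfl⟩ := zstar_amb' bC i2 (fun g hg hh => by
    have ga := c1_iff'.mp hg
    have k0 : g * b * g⁻¹ * a = a * (g * b * g⁻¹) := c1_iff.mp (mul_mem (mul_mem hg bC) (inv_mem hg))
    have k1 : g * b * g⁻¹ ∈ TT x := (memTT _ _).2 ⟨h.cen_fix ha h1 i2 b2.symm ab ha.1 hb.1 k0
      hh.symm, Two.of_sq (i2.conj g).2⟩
    have k2 : g * b * g⁻¹ ≠ a := fun e => b2 (by simpa using e.trans ga.symm)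
    have k3 : g • x = x := h _ _ x a ha _ h1 (i2.conj g) k2.symm k0.symm
      (ga ▸ conj_mem_smul g ha.1) (conj_mem_smul g hb.1) ha.1 k1
    rcases mem_four h4 ha hb i1 i2 b2.symm ab (s.conj' k3 hb) with e | e | e | e
    · exact absurd e (i2.conj g).1
    · exact absurd e k2
    · exact e
    · rw [no_swap k3 hb.2.2 (by
        calc g * g * b = g * (g * b * g⁻¹) * g⁻¹ * (g * g) := by group
          _ = g * (a * b) * g⁻¹ * (g * g) := by rw [e]
          _ = (g * a * g⁻¹) * (g * b * g⁻¹) * (g * g) := by group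
          _ = b * (g * g) := by rw [ga, e, ← mul_assoc a, i1.2, one_mul]), mul_inv_cancel_right])
    hg
  have i3 : BS.Inv t := ⟨fun e => hn (e ▸ one_mem _), t2⟩
  have key : ∀ u, BS.Inv u → u ∈ TT x → u ≠ a → Od (Cen1 a) ⊓ Cen1 u ≤ St G x :=
    fun u hu ux ua g hg => h.cen_fix ha h1 hu ua.symm (ha.2.2 u ux) ha.1 ux
      (c1_iff.mp (piCoreOf_le _ _ hg.1)) (c1_iff.mp hg.2)
  have bt : b ≠ t := fun e => hn (e ▸ hb)
  have := le_of_four i2 i3 bt (hb.2.2 t ht) (odd_Od (Cen1 a)) (le_nor_piCoreOf _ _ bC)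
    (le_nor_piCoreOf _ _ (c1_iff.mpr (ha.2.2 t ht).symm)) (key b i2 hb.1 b2)
    (key t i3 ht fun e => hn (e ▸ ha)) (key _ (i2.mul i3 bt (hb.2.2 t ht)) (mul_mem hb.1 ht)
      fun e => hn ((mul_mem_cancel_left hb).mp (e ▸ ha))) ho
  rw [mul_smul, h.cen_fix ha h1 i2 b2.symm ab ha.1 hb.1 (c1_iff.mp hc) cb, mem_St.mp this] at e
  exact hne e.symm

omit [Finite G] in
theorem RR_inv (ha : a ∈ ZZ x) (h1 : a ≠ 1) (hx' : a ∈ TT x') (hne : x' ≠ x) {r : G}
    (hr : r ∈ RR a) (r2 : r * r = 1) : r = 1 ∨ r = a := by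
  by_contra hn
  push Not at hn
  have rx := mem_RR.mp hr x ha.1
  exact hne (h _ _ x a ha r h1 ⟨hn.1, r2⟩ hn.2.symm (ha.2.2 r rx) hx' (mem_RR.mp hr x' hx') ha.1 rx)

/-- the case `|Ω₁ Z(T)| ≥ 8` -/
theorem e8 (h8 : 8 ≤ Nat.card (ZZ x)) (ha : a ∈ ZZ x) (h1 : a ≠ 1) (hx' : a ∈ TT x')
    (hne : x' ≠ x) {n : G} (hn : n • x = x) (hna : n * a * n⁻¹ ≠ a) :
    Nat.card (TT x) = 8 ∧ TT x ≤ ZZ x ∧ (Om (zpowers a)).ncard = 5 ∧
      ∀ b ∈ ZZ x, b ≠ 1 → ∃ n, n • x = x ∧ n * a * n⁻¹ = b := by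
  have s := h.sc x (by omega)
  have i1 := ZZ_inv ha h1
  obtain ⟨q', hq⟩ : ∃ q', Nat.card (ZZ x) = 2 * q' := by
    obtain ⟨k, hk⟩ := s.q_pow x
    rcases k with _ | k
    · omega
    · exact ⟨2 ^ k, by rw [hk, pow_succ']⟩
  have tr : ∀ b ∈ ZZ x, b ≠ 1 → ∃ n, n • x = x ∧ n * a * n⁻¹ = b := fun b hb b1 =>
    s.trans ha h1 hq (by omega) (h.rel ha h1) hx' hne hn hna hb b1
  have q8 := s.eight ha h1 hq (by omega) (h.rel ha h1) hx' hne tr
  have hx : x ∈ Om (zpowers a) := mem_Om1.mpr ha.1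
  have hx2 : x' ∈ Om (zpowers a) := mem_Om1.mpr hx'
  have z := s.zr (zpowers_le.mpr ha) (q' := 4) (by rw [i1.card_zpowers, q8]) le_rfl (h.rel ha h1)
    hx2 hne
  have l := (z.main hx2 hx hne).1
  have TC : TT x ≤ Cen (zpowers a) := s.TT_le_cen (zpowers_le.mpr ha) hx
  have fr : ∀ r ∈ TT x, (∀ z ∈ Om (zpowers a), r • z = z) → r ∈ RR a := fun r hr e =>
    mem_RR.mpr fun y hy => (memTT _ _).2 ⟨e y (mem_Om1.mpr hy), TT_two hr⟩
  have c1 : Nat.card (TT x) = ((Om (zpowers a)).ncard - 1) * Nat.card (RR a) := by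
    rw [card_eq_orbit_mul _ x', ← Set.ncard_sdiff_singleton_of_mem hx]
    congr 1
    · congr 1; ext y
      constructor
      · rintro ⟨g, hg, rfl⟩
        exact ⟨z.inv g (TC hg) _ hx2, fun e => hne (MulAction.injective g
          ((Set.mem_singleton_iff.mp e).trans (TT_fix hg).symm))⟩
      · rintro ⟨k1, k2⟩
        obtain ⟨g, hg, -, e⟩ := l.s2 x hx x' hx2 y k1 hne k2
        exact ⟨g, hg, e⟩
    · exact congrArg _ (congrArg _ (le_antisymm (fun r hr => fr r hr.1 (l.s1 r (TC hr.1)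
        (TT_two hr.1) x hx x' hx2 hne.symm (TT_fix hr.1) hr.2)) fun r hr =>
          ⟨mem_RR.mp hr x ha.1, TT_fix (mem_RR.mp hr x' hx')⟩))
  have om : ∀ t ∈ TT x, t * t = 1 → t ∈ ZZ x := fun t ht t2 => by
    obtain ⟨b, hb, e⟩ := l.s3 x hx t ht (TC ht) fun z _ => by rw [t2, one_smul]
    have k1 := fr _ (mul_mem hb.1 ht) fun z hz => by
      rw [mul_smul, e z hz, ← mul_smul, hb.2.1, one_smul]
    refine (mul_mem_cancel_left hb).mp ?_
    rcases h.RR_inv ha h1 hx' hne k1 (by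
      rw [mul_assoc, ← mul_assoc t, ← hb.2.2 t ht, mul_assoc, t2, mul_one, hb.2.1]) with e | e
    · rw [e]; exact one_mem _
    · rw [e]; exact ha
  have c2 := ncard_dc {t | t ∈ TT x ∧ t ≠ 1} {b | b ∈ ZZ x ∧ b ≠ 1} (fun t b => b ∈ zpowers t)
    (m := 1) (n := {t | (t ∈ TT x ∧ t ≠ 1) ∧ a ∈ zpowers t}.ncard) (fun t ht => by
      obtain ⟨k, hk⟩ := (TT_two ht.1).exists_inv ht.2
      refine Set.ncard_eq_one.mpr ⟨t ^ k, Set.eq_singleton_iff_unique_mem.mpr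
        ⟨⟨⟨om _ (pow_mem ht.1 k) hk.2, hk.1⟩, npow_mem_zpowers t k⟩, fun b hb => ?_⟩⟩
      by_contra e
      have := rk2_iff.mp (⟨b, hb.2, _, npow_mem_zpowers t k, ZZ_inv hb.1.1 hb.1.2, hk, e,
        hb.1.1.2.2 _ (pow_mem ht.1 k)⟩ : Rk2 (zpowers t))
      refine this fun A hA h2 => ?_
      have : IsCyclic A := Subgroup.isCyclic A
      exact Nat.le_of_dvd (by norm_num) (by
        rw [← IsCyclic.exponent_eq_card, pow_one]
        exact Monoid.exponent_dvd_of_forall_pow_eq_one fun g => Subtype.ext (h2 g g.2)))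
    (fun b hb => by
      obtain ⟨n, n1, rfl⟩ := tr b hb.1 hb.2
      rw [← Set.ncard_image_of_injective {t | (t ∈ TT x ∧ t ≠ 1) ∧ a ∈ zpowers t}
        (MulAut.conj n).injective]
      congr 1; ext t
      constructor
      · rintro ⟨⟨k1, k2⟩, j, hj⟩
        refine ⟨n⁻¹ * t * n⁻¹⁻¹, ⟨⟨TT_conj (smul_inv_of n1) k1, fun e => k2 (by
          simpa [mul_assoc] using congrArg (fun u => n * u * n⁻¹) e)⟩,
          j, ?_⟩, by simp [mul_assoc]⟩
        show (n⁻¹ * t * n⁻¹⁻¹) ^ j = a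
        rw [conj_zpow, show t ^ j = n * a * n⁻¹ from hj]; group
      · rintro ⟨t, ⟨⟨k1, k2⟩, j, hj⟩, rfl⟩
        refine ⟨⟨TT_conj n1 k1, fun e => k2 (by simpa using e)⟩, j, ?_⟩
        show (n * t * n⁻¹) ^ j = _
        rw [conj_zpow, show t ^ j = a from hj])
  rw [ncard_sharp, ncard_sharp, q8, mul_one] at c2
  have RT : ∀ u ∈ ZZ x, RR u ≤ TT x := fun u hu r hr => mem_RR.mp hr x hu.1
  have nR : ∀ u ∈ ZZ x, TT x ≤ Nor (RR u) := fun u hu t ht => H5.mem_normalizer_of_forall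
    fun r hr => by simpa [← hu.2.2 t ht] using RR_conj t hr
  have iR : ∀ u ∈ ZZ x, u ≠ 1 → ∀ r ∈ RR u, r * r = 1 → r = 1 ∨ r = u := fun u hu u1 r hr r2 => by
    obtain ⟨n, n1, rfl⟩ := tr u hu u1
    exact h.RR_inv hu u1 (conj_mem_smul n hx') (fun e => hne (MulAction.injective n
      (e.trans n1.symm))) hr r2
  have cR : ∀ u ∈ ZZ x, u ≠ 1 → Nat.card (RR u) = Nat.card (RR a) := fun u hu u1 => by
    obtain ⟨n, -, rfl⟩ := tr u hu u1
    rw [← conjS_RR, card_conjS]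
  have bot : ∀ P ≤ TT x, (∀ r ∈ P, BS.Inv r → False) → P = ⊥ := fun P hP e =>
    eq_bot_iff.mpr fun r hr => by
      by_contra r1
      obtain ⟨k, hk⟩ := (TT_two (hP hr)).exists_inv r1
      exact e _ (pow_mem hr k) hk
  have dR : ∀ u ∈ ZZ x, u ≠ 1 → ∀ v ∈ ZZ x, v ≠ 1 → u ≠ v → RR u ⊓ RR v = ⊥ :=
    fun u hu u1 v hv v1 e => bot _ (inf_le_left.trans (RT u hu)) fun r hr i =>
      e (((iR u hu u1 r hr.1 i.2).resolve_left i.1).symm.trans
        ((iR v hv v1 r hr.2 i.2).resolve_left i.1))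
  have cm : ∀ u ∈ ZZ x, u ≠ 1 → ∀ v ∈ ZZ x, v ≠ 1 → u ≠ v → ∀ r ∈ RR u, ∀ r' ∈ RR v,
      r * r' = r' * r := fun u hu u1 v hv v1 e r hr r' hr' =>
    comm_of_disj ((RT u hu).trans (nR v hv)) ((RT v hv).trans (nR u hu)) (dR u hu u1 v hv v1 e)
      hr hr'
  obtain ⟨b, hb, b1, b2⟩ := exists_not_zp (P := ZZ x) (by omega) a
  have i2 := ZZ_inv hb b1
  have ab := ha.2.2 b hb.1
  obtain ⟨c, hc, c'⟩ : ∃ c ∈ ZZ x, ¬ (c = 1 ∨ c = a ∨ c = b ∨ c = a * b) := by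
    by_contra hn
    push Not at hn
    have := Set.ncard_le_ncard (s := (ZZ x : Set G)) (t := {1, a, b, a * b}) fun c hc => hn c hc
    have h2 : ({1, a, b, a * b} : Set G).ncard ≤ 4 := (Set.ncard_insert_le _ _).trans
      (Nat.succ_le_succ ((Set.ncard_insert_le _ _).trans (Nat.succ_le_succ
        ((Set.ncard_insert_le _ _).trans (by simp)))))
    rw [ncard_coe] at this
    omega
  simp only [not_or] at c'
  have d3 : (RR a ⊔ RR b) ⊓ RR c = ⊥ := bot _ (inf_le_right.trans (RT c hc)) fun r hr i => by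
    have e := (iR c hc c'.1 r hr.2 i.2).resolve_left i.1
    obtain ⟨u, hu, v, hv, rfl⟩ := (mem_sup_of_le_normalizer_right
      ((RT a ha).trans (nR b hb))).mp hr.1
    have k1 : u * u * (v * v) = 1 := by
      rw [← i.2, mul_assoc u v, ← mul_assoc v, ← cm a ha h1 b hb b1 b2.symm u hu v hv]; group
    have k2 : u * u = 1 := mem_bot.mp (dR a ha h1 b hb b1 b2.symm ▸ (mem_inf.mpr ⟨mul_mem hu hu, by
      rw [eq_inv_of_mul_eq_one_left k1]; exact inv_mem (mul_mem hv hv)⟩ : u * u ∈ RR a ⊓ RR b))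
    rw [k2, one_mul] at k1
    rcases iR a ha h1 u hu k2 with rfl | rfl <;> rcases iR b hb b1 v hv k1 with rfl | rfl <;>
      simp_all
  have c3 : Nat.card ↥(RR a ⊔ RR b ⊔ RR c) = Nat.card (RR a) ^ 3 := by
    rw [H5.card_sup_of_disjoint ((RT c hc).trans (le_normalizer_sup (nR a ha) (nR b hb))) d3,
      H5.card_sup_of_disjoint ((RT b hb).trans (nR a ha)) (dR a ha h1 b hb b1 b2.symm),
      cR b hb b1, cR c hc c'.1]; ring
  have le3 : RR a ⊔ RR b ⊔ RR c ≤ TT x := sup_le (sup_le (RT a ha) (RT b hb)) (RT c hc)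
  have c4 := card_le_of_le le3
  have c5 : 2 ≤ Nat.card (RR a) := by
    have := card_le_of_le (zpowers_le.mpr (mem_RR.mpr fun _ e => e) : zpowers a ≤ RR a)
    rwa [i1.card_zpowers] at this
  have nab : Nat.card (TT x) ≤ Nat.card (RR a) ^ 3 → ∀ y ∈ TT x, ∀ y' ∈ TT x, y * y' = y' * y := by
    intro hle
    have e := eq_of_le_of_card_ge le3 (c3 ▸ hle)
    have hab := mul_mem ha hb
    have i3 := i1.mul i2 b2.symm ab
    have k1 : TT x ≤ Cen (RR (a * b)) := e.ge.trans <| sup_le (sup_le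
      (fun r hr => cen_iff.mpr (cm a ha h1 _ hab i3.1 (by simp [b1]) r hr))
      (fun r hr => cen_iff.mpr (cm b hb b1 _ hab i3.1 (by simp [h1]) r hr)))
      fun r hr => cen_iff.mpr (cm c hc c'.1 _ hab i3.1 c'.2.2.2 r hr)
    have k2 : ∀ u ∈ ZZ x, u ≠ 1 → RR u ≤ Cen (TT x) := fun u hu u1 r hr => by
      obtain ⟨n, n1, n2⟩ := tr u hu u1
      obtain ⟨m, m1, m2⟩ := tr _ hab i3.1
      have f : (m * n⁻¹) • x = x := by rw [mul_smul, smul_inv_of n1, m1]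
      have k3 := RR_conj (m * n⁻¹) hr
      rw [show m * n⁻¹ * u * (m * n⁻¹)⁻¹ = a * b by rw [← n2, ← m2]; group] at k3
      refine cen_iff.mpr fun t ht => ?_
      have := cen_iff.mp (k1 (TT_conj f ht)) _ k3
      rw [conj_mul, conj_mul] at this
      exact (mul_left_cancel (mul_right_cancel this)).symm
    exact fun y hy y' hy' => cen_iff.mp (e.ge.trans (sup_le (sup_le (k2 a ha h1) (k2 b hb b1))
      (k2 c hc c'.1)) hy) y' hy'
  obtain ⟨ρ, hρ⟩ := (x.isPGroup'.to_le (RT a ha)).exists_card_eq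
  rw [c3] at c4
  have pos : 0 < Nat.card (TT x) := Nat.card_pos
  rcases l.s4 with e | ⟨e, na⟩
  · rw [e] at c1
    have : Nat.card (RR a) = 2 := by
      by_contra hn
      have c6 : 3 ≤ Nat.card (RR a) := by omega
      generalize Nat.card (RR a) = r at *
      have : 3 * 3 * r ≤ r * r * r := Nat.mul_le_mul_right _ (Nat.mul_le_mul c6 c6)
      rw [pow_three'] at c4
      omega
    have e8 : Nat.card (TT x) = 8 := by omega
    exact ⟨e8, (eq_of_le_of_card_ge (ZZ_le x) (by omega)).ge, e, tr⟩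
  · exfalso
    obtain ⟨y, hy, y', hy', w, -, hw⟩ := na x hx
    refine hw (congrArg (· • w) (nab ?_ y hy.1 y' hy'.1))
    rw [hρ] at c1 c4 c5 ⊢
    have : ρ ≤ 3 := by
      by_contra hn
      have : 2 ^ 4 ≤ 2 ^ ρ := Nat.pow_le_pow_right (by omega) (by omega)
      generalize 2 ^ ρ = r at *
      have : 16 * 16 * r ≤ r * r * r := Nat.mul_le_mul_right _ (Nat.mul_le_mul this this)
      rw [pow_three'] at c4
      rcases e with e | e <;> rw [e] at c1 <;> omega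
    interval_cases ρ <;> rcases e with e | e <;> rw [e] at c1 <;> omega

end HC

end Hz
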