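import Cfsg.Agent.Hz.S4

/-! Groups in which Sylow intersections have rank at most one: the semisimple case. -/

set_option autoImplicit false

namespace Hz

open Cfsg Subgroup FT H4 BS
open scoped commutatorElement

universe u

/-- a four-group lies in a unique Sylow subgroup -/
def H1 (G : Type*) [Group G] : Prop :=
  ∀ x y : Sylow 2 G, ∀ a b, BS.Inv a → BS.Inv b → a ≠ b → a * b = b * a → a ∈ TT x →
    b ∈ TT x → a ∈ TT y → b ∈ TT y → x = y

variable {G : Type u} [Group G]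

theorem H1.hc (h : H1 G) : HC G := fun x y _ a ha b h1 => h x y a b (ZZ_inv ha h1)

theorem H1.rk2 (h : H1 G) {x y : Sylow 2 G} {P : Subgroup G} (r : Rk2 P) (hx : P ≤ TT x)
    (hy : P ≤ TT y) : x = y :=
  let ⟨a, ha, b, hb, i1, i2, ne, c⟩ := r
  h x y a b i1 i2 ne c (hx ha) (hx hb) (hy ha) (hy hb)

theorem H1.cen_fix (h : H1 G) {x : Sylow 2 G} {a b g : G} (i1 : BS.Inv a) (i2 : BS.Inv b)
    (ne : a ≠ b) (c : a * b = b * a) (ax : a ∈ TT x) (bx : b ∈ TT x) (g1 : g * a = a * g)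
    (g2 : g * b = b * g) : g • x = x :=
  h _ _ a b i1 i2 ne c (by simpa [g1] using conj_mem_smul g ax)
    (by simpa [g2] using conj_mem_smul g bx) ax bx

variable [Finite G]

theorem h1_iff : H1 G ↔ ∀ S T : Sylow 2 G, S ≠ T →
    PRankLE 2 1 ↥((S : Subgroup G) ⊓ (T : Subgroup G)) :=
  ⟨fun h S T ne => by
    by_contra e
    exact ne (h.rk2 (rk2_iff.mpr e) inf_le_left inf_le_right),
  fun h x y a b i1 i2 ne c ax bx ay by' => by
    by_contra e
    exact (rk2_iff (M := TT x ⊓ TT y)).mp ⟨a, ⟨ax, ay⟩, b, ⟨bx, by'⟩, i1, i2, ne, c⟩ (h x y e)⟩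

theorem not_rk2_of_cyclic {P : Subgroup G} (h : IsCyclic P) : ¬ Rk2 P := fun r =>
  rk2_iff.mp r fun A _ h2 => by
    have : IsCyclic A := Subgroup.isCyclic A
    exact Nat.le_of_dvd (by norm_num) (by
      rw [← IsCyclic.exponent_eq_card, pow_one]
      exact Monoid.exponent_dvd_of_forall_pow_eq_one fun g => Subtype.ext (h2 g g.2))

theorem h1_of_cyclic (h : ∀ S T : Sylow 2 G, S ≠ T →
    IsCyclic ↥((S : Subgroup G) ⊓ (T : Subgroup G))) : H1 G :=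
  fun x y a b i1 i2 ne c ax bx ay by' => by
    by_contra e
    exact not_rk2_of_cyclic (h x y e) ⟨a, ⟨ax, ay⟩, b, ⟨bx, by'⟩, i1, i2, ne, c⟩

omit [Finite G] in
theorem inv_coe {M : Subgroup G} {a : M} : BS.Inv (a : G) ↔ BS.Inv a :=
  ⟨fun h => ⟨fun e => h.1 (congrArg Subtype.val e), Subtype.ext h.2⟩,
    fun h => ⟨fun e => h.1 (Subtype.ext e), congrArg Subtype.val h.2⟩⟩

omit [Finite G] in
theorem exists_ext {L : Subgroup G} (x : Sylow 2 L) :
    ∃ X : Sylow 2 G, (TT X).subgroupOf L = TT x := by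
  obtain ⟨X, hX⟩ := x.exists_comap_subtype_eq
  exact ⟨X, hX⟩

omit [Finite G] in
theorem H1.sub (h : H1 G) (L : Subgroup G) : H1 L := fun x y a b i1 i2 ne c ax bx ay by' => by
  obtain ⟨X, hX⟩ := exists_ext x
  obtain ⟨Y, hY⟩ := exists_ext y
  rw [← hX] at ax bx
  rw [← hY] at ay by'
  obtain rfl := h X Y a b (inv_coe.mpr i1) (inv_coe.mpr i2) (fun e => ne (Subtype.ext e))
    (congrArg Subtype.val c) ax bx ay by'
  exact Sylow.ext (hX.symm.trans hY)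

theorem SC.iso_or' {A : Sylow 2 G → Subgroup G} {q : ℕ} (h : SC A q) {x : Sylow 2 G} {a : G}
    (ha : a ∈ A x) {M : Subgroup G} (hM : TT x ≤ M) :
    (∀ g ∈ M, a * (g * a * g⁻¹) = (g * a * g⁻¹) * a → g * a * g⁻¹ = a) ∨
      ∃ n ∈ M, n • x = x ∧ n * a * n⁻¹ ≠ a := by
  by_contra hn
  push Not at hn
  obtain ⟨⟨g, hg, hc, hne⟩, h2⟩ := hn
  have ha' := h.conj g x a ha
  have aM := hM (h.TT_of ha)
  have sm : ∀ k ∈ M, TT (k • x) ≤ M := fun k hk t ht =>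
    H5.mem_of_eq (mul_mem (mul_mem hk (hM (mem_smul.mp ht))) (inv_mem hk)) (by group)
  obtain ⟨c, hc1, hle⟩ := exists_smul_le (C := Cen1 a ⊓ M) (x := x)
    (fun t ht => ⟨c1_iff.mpr (h.cen ha ht).symm, hM ht⟩) (pair_two (h.sq ha) (h.sq ha') hc)
    (sup_le (zpowers_le.mpr ⟨c1_iff.mpr rfl, aM⟩) (zpowers_le.mpr (mem_inf.mpr ⟨c1_iff.mpr hc.symm,
      mul_mem (mul_mem hg aM) (inv_mem hg)⟩)))
  have k1 := h.sc _ _ _ ha' (hle (mem_sup_right (mem_zpowers _)))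
  obtain ⟨d, hd, e⟩ := exists_smul (C := Cen1 (g * a * g⁻¹) ⊓ M) (x := g • x) (y := c • x)
    (fun t ht => ⟨c1_iff.mpr (h.cen ha' ht).symm, sm g hg ht⟩)
    (fun t ht => ⟨c1_iff.mpr (h.cen k1 ht).symm, sm c hc1.2 ht⟩)
  have := h2 (c⁻¹ * d * g) (mul_mem (mul_mem (inv_mem (hc1.2 : c ∈ M)) hd.2) hg)
    (by rw [mul_smul, mul_smul, e, inv_smul_smul])
  refine hne ?_
  calc g * a * g⁻¹ = d * (g * a * g⁻¹) * d⁻¹ := (c1_iff'.mp hd.1).symm
    _ = c * (c⁻¹ * d * g * a * (c⁻¹ * d * g)⁻¹) * c⁻¹ := by group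
    _ = a := by rw [this, c1_iff'.mp hc1.1]

theorem four_fpf {x : Sylow 2 G} (h4 : Nat.card (ZZ x) = 4) {a n b : G} (ha : a ∈ ZZ x)
    (hn : n • x = x) (hna : n * a * n⁻¹ ≠ a) (hb : b ∈ ZZ x) (e : n * b * n⁻¹ = b) : b = 1 := by
  by_contra b1
  have h1 : a ≠ 1 := fun e => hna (by simp [e])
  have i1 := ZZ_inv ha h1
  have i2 := ZZ_inv hb b1
  have ne : a ≠ b := fun k => hna (k ▸ e)
  rcases mem_four h4 ha hb i1 i2 ne (ha.2.2 b hb.1) (hn ▸ ZZ_conj n ha : n * a * n⁻¹ ∈ ZZ x)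
    with k | k | k | k
  · exact (i1.conj n).1 k
  · exact hna k
  · exact ne (mul_left_cancel (mul_right_cancel (k.trans e.symm)))
  refine hna (mul_inv_eq_iff_eq_mul.mpr (no_swap hn ha.2.2 (mul_inv_eq_iff_eq_mul.mp ?_)))
  calc n * n * a * (n * n)⁻¹ = n * (n * a * n⁻¹) * n⁻¹ := by group
    _ = n * (a * b) * n⁻¹ := by rw [k]
    _ = (n * a * n⁻¹) * (n * b * n⁻¹) := by group
    _ = a := by rw [k, e, mul_assoc, i2.2, mul_one]

/-- if `l ∈ L` normalizes `T` without fixed points, then `T ≤ L` -/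
theorem le_of_fpf {x : Sylow 2 G} {L : Subgroup G} (hL : TT x ≤ Nor L) {l : G} (hl : l ∈ L)
    (hx : l • x = x) (h : ∀ t ∈ TT x, BS.Inv t → l * t * l⁻¹ ≠ t) : TT x ≤ L := by
  have key : Function.Injective fun s : TT x => (⟨(s : G)⁻¹ * (l * s * l⁻¹), mem_inf.mpr ⟨mul_mem
      (inv_mem s.2) (TT_conj hx s.2), H5.mem_of_eq (mul_mem (H5.inv_conj_mem_of_mem_normalizer
        (hL s.2) hl) (inv_mem hl)) (by group)⟩⟩ : ↥(TT x ⊓ L)) := fun s s' e => by
    have e1 : (s : G)⁻¹ * (l * s * l⁻¹) = (s' : G)⁻¹ * (l * s' * l⁻¹) := congrArg Subtype.val e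
    have e2 : l * (s' * (s : G)⁻¹) * l⁻¹ = s' * (s : G)⁻¹ := by
      calc _ = s' * ((s' : G)⁻¹ * (l * s' * l⁻¹)) * ((s : G)⁻¹ * (l * s * l⁻¹))⁻¹ * (s : G)⁻¹ := by
            group
        _ = _ := by rw [← e1]; group
    have m := mul_mem s'.2 (inv_mem s.2)
    by_contra hne
    obtain ⟨k, hk⟩ := (TT_two m).exists_inv fun e => hne (Subtype.ext (mul_inv_eq_one.mp e).symm)
    exact h _ (pow_mem m k) hk (by rw [← conj_pow, e2])
  exact (eq_of_le_of_card_ge inf_le_left (Nat.card_le_card_of_injective _ key)).ge.trans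
    inf_le_right

theorem not_iso_sub {K : Subgroup G} (hs : IsSimpleGroup K) (hK : ¬ IsMulCommutative K) {a : G}
    (ha : a ∈ K) (i : BS.Inv a) :
    ∃ g ∈ K, a * (g * a * g⁻¹) = (g * a * g⁻¹) * a ∧ g * a * g⁻¹ ≠ a := by
  obtain ⟨g, g1, g2⟩ := not_iso hK (a := (⟨a, ha⟩ : K)) (inv_coe.mp i)
  exact ⟨g, g.2, congrArg Subtype.val g1, fun e => g2 (Subtype.ext e)⟩

theorem exists_inv_sub {K : Subgroup G} (hs : IsSimpleGroup K) (hK : ¬ IsMulCommutative K) :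
    ∃ a ∈ K, BS.Inv a := exists_inv_of_even (even_of_simple hK)

theorem QS.not_le_St {K : Subgroup G} (h : QS K) (x : Sylow 2 G) : ¬ K ≤ St G x := fun e => by
  obtain ⟨y, hy, k, hc⟩ := h.exists_pElem (p := 2) (even_iff_two_dvd.mp
    (Nat.not_odd_iff_even.mp fun ho => h.not_isSolvable (FT.ftThm _ ho)))
  rcases h.normal (TT x ⊓ K) inf_le_right (le_normalizer_inf (e.trans (St_eq x).le) le_normalizer)
    with k1 | k1
  · exact h.not_le_of_isSolvable (H5.isSolvable_of_isPGroup x.isPGroup') (k1.ge.trans inf_le_left)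
  · exact hc (k1 ⟨(memTT _ _).2 ⟨e hy, k⟩, hy⟩)

theorem odd_index_of_le {x : Sylow 2 G} {L : Subgroup G} (h : TT x ≤ L) : Odd L.index := by
  simpa using (odd_relIndex (N := ⊤) h).resolve_right fun e => e le_top

theorem faith_of (hO : oddCore G = ⊥) (h2 : pCore 2 G = ⊥) : Faith G (Sylow 2 G) := by
  obtain ⟨x⟩ : Nonempty (Sylow 2 G) := inferInstance
  set K := (MulAction.toPermHom G (Sylow 2 G)).ker
  have m : ∀ g, g ∈ K ↔ ∀ y : Sylow 2 G, g • y = y := fun g =>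
    ⟨fun e y => Equiv.congr_fun e y, fun e => Equiv.ext e⟩
  have e1 : TT x ⊓ K = ⊥ := eq_bot_iff.mpr (h2 ▸ le_pCore ⟨fun t ht g => by
    have := (inferInstance : K.Normal).conj_mem t ht.2 g
    exact ⟨(memTT _ _).2 ⟨(m _).1 this x, (TT_two ht.1).conj g⟩, this⟩⟩ x.isPGroup'.to_inf_left)
  have e2 := eq_bot_of_odd hO (N := K) le_normalizer_of_normal (odd_of_no_inv fun a ha i =>
    i.1 (mem_bot.mp (e1 ▸ (⟨(memTT _ _).2 ⟨(m a).1 ha x, Two.of_sq i.2⟩, ha⟩ : a ∈ TT x ⊓ K))))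
  exact fun g hg => mem_bot.mp (e2 ▸ (m g).2 hg)

theorem eight_le {x : Sylow 2 G} {P : Subgroup G} (hP : P ≤ TT x) (h : 4 < Nat.card P) :
    8 ≤ Nat.card P := by
  obtain ⟨k, hk⟩ := (x.isPGroup'.to_le hP).exists_card_eq
  rcases k with _ | _ | _ | k
  · omega
  · omega
  · omega
  · have := Nat.one_le_two_pow (n := k)
    rw [pow_succ, pow_succ, pow_succ] at hk; omega

theorem exists_two_syl (hu : ¬ ∀ x y : Sylow 2 G, ∀ a ∈ ZZ x, a ≠ 1 → a ∈ TT y → y = x)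
    (x : Sylow 2 G) : ∃ a ∈ ZZ x, a ≠ 1 ∧ ∃ x', a ∈ TT x' ∧ x' ≠ x := by
  push Not at hu
  obtain ⟨z, y, a, ha, h1, hy, hne⟩ := hu
  obtain ⟨g, rfl⟩ := MulAction.exists_smul_eq G z x
  exact ⟨_, ZZ_conj g ha, ((ZZ_inv ha h1).conj g).1, _, conj_mem_smul g hy,
    fun e => hne (MulAction.injective g e)⟩

/-- the socle is simple of odd index -/
theorem H1.soc (h : H1 G) (hO : oddCore G = ⊥) (h2 : pCore 2 G = ⊥) [Nontrivial G] :
    ∃ L : Subgroup G, L.Normal ∧ IsSimpleGroup L ∧ ¬ IsMulCommutative L ∧ Odd L.index := by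
  have hF : fittingSubgroup G = ⊥ := by rw [fitting_eq_pCore hO, h2]
  obtain ⟨L, hK⟩ : ∃ K, CompIn (⊤ : Subgroup G) K := by
    by_contra e; push Not at e
    exact top_ne_bot (gfitIn_eq_bot_iff.1 (by
      rw [gfitIn_top, gfit_eq, hF, ← layerIn_top, layerIn_eq_bot_iff'.2 e, bot_sup_eq]) :
        (⊤ : Subgroup G) = ⊥)
  have hs := GW.QS.simple' hK.qs
    (eq_bot_iff.2 ((hK.center_le_fittingIn.trans fittingIn_top.le).trans hF.le))
  have nc := hK.qs.not_isMulCommutative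
  obtain ⟨t, ht, it⟩ := exists_inv_sub hs nc
  have nL : L.Normal := by
    obtain ⟨g, hg, g1, g2⟩ := not_iso_sub hs nc ht it
    obtain ⟨w, hw⟩ := exists_TT (pair_two it.2 (it.conj g).2 g1)
    refine normal_of_top_le_normalizer fun k _ => (hK.mem_normalizer_or (le_normalizer
      (mem_top k))).resolve_right fun e => QS.not_le_St (hK.qs.conjS k) w fun l hl => ?_
    have c := commutator_eq_bot_iff_le_centralizer.1 e
    exact h.cen_fix it (it.conj g) g2.symm g1 (hw (mem_sup_left (mem_zpowers _)))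
      (hw (mem_sup_right (mem_zpowers _))) (cen_iff.mp (c ht) l hl).symm
      (cen_iff.mp (c (mul_mem (mul_mem hg ht) (inv_mem hg))) l hl).symm
  refine ⟨L, nL, hs, nc, ?_⟩
  obtain ⟨x, hx⟩ := exists_TT it.isPGroup
  have tx := hx (mem_zpowers t)
  have ni : ∀ a, BS.Inv a → ¬ ∀ g, a * (g * a * g⁻¹) = (g * a * g⁻¹) * a → g * a * g⁻¹ = a :=
    fun a i e => i.1 (mem_bot.mp (h2 ▸ le_pCore (GW.normal_zp (cen_of_iso hO i e)) i.isPGroup
      (mem_zpowers a)))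
  obtain ⟨a0, ha0, i0⟩ := exists_ZZ tx it.1
  have h4 : 4 ≤ Nat.card (ZZ x) := by
    have := ni a0 i0
    push Not at this
    obtain ⟨g, g1, g2⟩ := this
    exact h.hc.four_le ha0 i0.1 g1 g2
  have s := h.hc.sc x h4
  by_cases hu : ∀ x y : Sylow 2 G, ∀ a ∈ ZZ x, a ≠ 1 → a ∈ TT y → y = x
  · have z := s.zd h4 hu
    obtain ⟨y, hy⟩ : ∃ y, y ≠ x := by
      by_contra hn
      push Not at hn
      exact it.1 (faith_of hO h2 t fun y => (hn _).trans (hn y).symm)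
    have se := se_of_unique hy it fun t ht y z' h1 h3 => by
      obtain ⟨w, hw, -⟩ := z.all (faith_of hO h2) t ht
      rw [hu w y t hw ht.1 h1, hu w z' t hw ht.1 h3]
    obtain ⟨Q, D, u, k, -⟩ := seThm G _ se (rk2_top_iff.mp (rk2_of_se se hO)) hO
    exact k.odd_index.of_dvd_nat (index_dvd_of_le (k.Fg_le hK.qs.ne_bot))
  obtain ⟨a, ha, h1, x', hx', hne⟩ := exists_two_syl hu x
  obtain ⟨n, hn, hna⟩ := (s.iso_or ha).resolve_left (ni a (ZZ_inv ha h1))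
  have al : (∀ b ∈ ZZ x, b ≠ 1 → ∃ n, n • x = x ∧ n * a * n⁻¹ = b) → t ∈ ZZ x → ZZ x ≤ L :=
    fun tr tz b hb => by
      by_cases b1 : b = 1
      · rw [b1]; exact one_mem _
      obtain ⟨k, -, rfl⟩ := tr b hb b1
      obtain ⟨l, -, e⟩ := tr t tz it.1
      exact nL.conj_mem _ (by simpa [← e, mul_assoc] using nL.conj_mem t ht l⁻¹) k
  refine odd_index_of_le (x := x) ?_
  rcases h4.eq_or_lt with h4 | h4
  · have om := fun t => h.hc.omega (t := t) h4.symm ha h1 hx' hne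
    have aL := al (fun b => four_trans h4.symm ha h1 hn hna) (om t tx it.2) ha
    obtain ⟨g, hg, g1, g2⟩ := not_iso_sub hs nc aL (ZZ_inv ha h1)
    obtain ⟨m, hm, m1, m2⟩ := (s.iso_or' ha (M := L ⊔ TT x) le_sup_right).resolve_left
      fun e => g2 (e g (mem_sup_left hg) g1)
    obtain ⟨l, hl, r, hr, rfl⟩ := (mem_sup_of_normal_left).mp hm
    rw [mul_smul, TT_fix hr] at m1
    rw [show l * r * a * (l * r)⁻¹ = l * (r * a * r⁻¹) * l⁻¹ by group, ← ha.2.2 r hr,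
      mul_inv_cancel_right] at m2
    exact le_of_fpf le_normalizer_of_normal hl m1 fun u hu i e =>
      i.1 (four_fpf h4.symm ha m1 m2 (om u hu i.2) e)
  · obtain ⟨-, e2, -, e4⟩ := h.hc.e8 (eight_le (ZZ_le x) h4) ha h1 hx' hne hn hna
    exact e2.trans (al e4 (e2 tx))

end Hz
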