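import Cfsg.Agent.Hz.S5
import Cfsg.Agent.H9.Loc1
import Cfsg.Agent.GW.Cv5

/-! Cyclic Sylow intersections: the solvable radical. -/

set_option autoImplicit false

namespace Hz

open Cfsg Subgroup FT H4 BS
open scoped commutatorElement

universe u

variable {G : Type u} [Group G] [Finite G]

theorem exists_ne_syl' (hn : ¬ Group.IsSolvable G) (x : Sylow 2 G) : ∃ y, y ≠ x := by
  by_contra e
  push Not at e
  have : (TT x).Normal := normal_of_top_le_normalizer fun g _ => smul_eq_iff.mp (e _)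
  refine GW.nsolv_quot _ (QuotientGroup.mk'_surjective (TT x)) (by
    rw [QuotientGroup.ker_mk']; exact H5.isSolvable_of_isPGroup x.isPGroup') hn
    (FT.ftThm _ (odd_index_of_le le_rfl))

/-- a solvable normal subgroup lies in a cyclic `O₂` -/
theorem le_pCore_of_cyclic (hO : oddCore G = ⊥) (hc : IsCyclic (pCore 2 G)) (N : Subgroup G)
    (hN : N.Normal) (hs : Group.IsSolvable N) : N ≤ pCore 2 G := by
  have e1 : pPrimeCore 2 N = ⊥ := pPrimeCoreIn_eq_bot_iff.mp
    (eq_bot_iff.mpr (hO ▸ pPrimeCoreIn_le_pPrimeCore hN.isSubnormal))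
  have e2 := centralizer_fitting_le (G := N)
  rw [fitting_eq_pCore e1] at e2
  refine le_pCore hN (H9.isPGroup_of_isCyclic_pCore e2 ?_)
  have := H9.isCyclic_of_le (pCoreIn_le_pCore (p := 2) hN.isSubnormal) hc
  exact isCyclic_of_surjective _ ((pCore 2 N).equivMapOfInjective _ N.subtype_injective).symm.surjective

theorem odd_cen_cyclic {V : Subgroup G} (hV : IsPGroup 2 V) (hc : IsCyclic V) {g : G}
    (hg : g ∈ Nor V) (ho : Odd (orderOf g)) : g ∈ Cen V := by
  obtain ⟨a, ha, rfl⟩ := H9.exists_zpowers_eq hc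
  obtain ⟨k, hk⟩ := exists_pow_pow_of_mem hV ha
  have := H9.mem_Cen_of_odd hk hg ho
  exact cen_iff.mpr (by
    rintro _ ⟨n, rfl⟩
    exact (Commute.zpow_right (c1_iff.mp this) n).eq)

theorem cyc_central {V L : Subgroup G} [V.Normal] (hV : IsPGroup 2 V) (hc : IsCyclic V)
    [L.Normal] (ho : Odd L.index) (le : V ≤ L) (hs : IsSimpleGroup (L ⧸ V.subgroupOf L))
    (nc : ¬ IsMulCommutative (L ⧸ V.subgroupOf L)) : V ≤ center G := by
  have od : ∀ g, Odd (orderOf g) → g ∈ Cen V := fun g =>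
    odd_cen_cyclic hV hc (le_normalizer_of_normal (mem_top g))
  have sj := QuotientGroup.mk'_surjective (V.subgroupOf L)
  have VC : V ≤ Cen V := H5.le_centralizer_of_comm inferInstance le_rfl le_rfl
  have LC : L ≤ Cen V := by
    rcases hs.eq_bot_or_eq_top_of_normal (((Cen V).subgroupOf L).map (QuotientGroup.mk' _))
      inferInstance with e | e
    · rw [Subgroup.map_eq_bot_iff, QuotientGroup.ker_mk'] at e
      have : IsPGroup 2 L := H9.isPGroup_of_forall_odd fun g hg => Subtype.ext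
        (H9.eq_one_of_odd_of_mem hV (e (od g (by rwa [orderOf_coe]))) (by rwa [orderOf_coe]))
      have := (this.of_surjective _ sj).isNilpotent
      exact absurd ⟨⟨IsSimpleGroup.comm_iff_isSolvable.mpr inferInstance⟩⟩ nc
    · have := congrArg (comap (QuotientGroup.mk' (V.subgroupOf L))) e
      rw [comap_map_eq, QuotientGroup.ker_mk', comap_top, sup_eq_left.mpr (subgroupOf_mono L VC),
        subgroupOf_eq_top] at this
      exact this
  have : ⊤ ≤ Cen V := le_of_forall_p_p' 2 (fun g _ k => by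
    obtain ⟨x, hx⟩ := exists_TT (Two.isPGroup k)
    exact LC (GW.two_le_of_odd ho x.isPGroup' le_normalizer_of_normal (hx (mem_zpowers g))))
    fun g _ k => od g (Nat.coprime_two_right.mp k)
  exact fun v hv => mem_center_iff.mpr fun g => cen_iff.mp (this (mem_top g)) v hv

theorem cyc_rad (hn : ¬ Group.IsSolvable G) (h : ∀ S T : Sylow 2 G, S ≠ T →
    IsCyclic ↥((S : Subgroup G) ⊓ (T : Subgroup G))) (hO : oddCore G = ⊥) :
    IsCyclic (pCore 2 G) ∧ (∀ N : Subgroup G, N.Normal → Group.IsSolvable N → N ≤ pCore 2 G) ∧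
    ∀ L : Subgroup G, ∀ _ : L.Normal, Odd L.index → pCore 2 G ≤ L →
      IsSimpleGroup (L ⧸ (pCore 2 G).subgroupOf L) →
      ¬ IsMulCommutative (L ⧸ (pCore 2 G).subgroupOf L) → pCore 2 G ≤ center G := by
  obtain ⟨x⟩ : Nonempty (Sylow 2 G) := inferInstance
  obtain ⟨y, hy⟩ := exists_ne_syl' hn x
  have hc := H9.isCyclic_of_le (le_inf (pCore_le_sylow y) (pCore_le_sylow x)) (h y x hy)
  exact ⟨hc, le_pCore_of_cyclic hO hc, fun L _ ho le hs nc =>
    cyc_central (isPGroup_pCore 2 G) hc ho le hs nc⟩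

end Hz
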