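import Cfsg.Agent.Hz.S6
import Cfsg.Agent.P.A
import Cfsg.Agent.H5.Dich2

/-! Double covers: types of involutions. -/

set_option autoImplicit false

namespace Hz

open Cfsg Subgroup FT H4 BS
open scoped commutatorElement

universe u

section Basic

variable {X Y : Type*} [Group X] [Group Y]

/-- a central extension by an involution -/
structure DC (f : X →* Y) (z : X) : Prop where
  surj : Function.Surjective f
  inv : BS.Inv z
  cen : ∀ g, g * z = z * g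
  ker : ∀ g, f g = 1 ↔ g = 1 ∨ g = z

/-- the lifts are involutions -/
def T2 (f : X →* Y) (y : Y) : Prop := ∀ x, f x = y → x * x = 1

/-- the lifts commute -/
def Cm (f : X →* Y) (y y' : Y) : Prop := ∀ x x', f x = y → f x' = y' → x * x' = x' * x

theorem Cm.symm {f : X →* Y} {y y' : Y} (h : Cm f y y') : Cm f y' y :=
  fun x x' e e' => (h x' x e' e).symm

theorem cm_comm {f : X →* Y} {y y' : Y} : Cm f y y' ↔ Cm f y' y := ⟨Cm.symm, Cm.symm⟩

/-- an anisotropic four-group -/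
structure An (f : X →* Y) (u v : Y) : Prop where
  uu : u * u = 1
  vv : v * v = 1
  c : u * v = v * u
  nu : ¬ T2 f u
  nv : ¬ T2 f v
  nuv : ¬ T2 f (u * v)

/-- involutions with involutory lifts lie in a unique Sylow subgroup -/
def U2 (f : X →* Y) : Prop :=
  ∀ a, a ≠ 1 → T2 f a → ∀ x y : Sylow 2 Y, a ∈ TT x → a ∈ TT y → x = y

namespace DC

variable {f : X →* Y} {z : X} (h : DC f z)
include h

theorem lift {x x' : X} (e : f x = f x') : x = x' ∨ x = x' * z := by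
  rcases (h.ker (x'⁻¹ * x)).mp (by rw [map_mul, map_inv, e, inv_mul_cancel]) with k | k
  · exact Or.inl (inv_mul_eq_one.mp k).symm
  · exact Or.inr (inv_mul_eq_iff_eq_mul.mp k)

theorem zz (x y : X) : x * z * (y * z) = x * y := by
  rw [mul_assoc, ← mul_assoc z, ← h.cen y, mul_assoc, h.inv.2, mul_one]

theorem t2_iff {x : X} : T2 f (f x) ↔ x * x = 1 := ⟨fun k => k x rfl, fun k y e => by
  rcases h.lift e with rfl | rfl
  · exact k
  · rw [h.zz, k]⟩

theorem cm_iff {x y : X} : Cm f (f x) (f y) ↔ x * y = y * x := ⟨fun k => k x y rfl rfl,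
  fun k x' y' e e' => by
    have k1 : ∀ a b : X, a * z * b = a * b * z := fun a b => by rw [mul_assoc, ← h.cen, mul_assoc]
    rcases h.lift e with rfl | rfl <;> rcases h.lift e' with rfl | rfl
    · exact k
    · rw [← mul_assoc, k, k1]
    · rw [← mul_assoc, ← k, k1]
    · rw [h.zz, h.zz, k]⟩

theorem ne_z (x : X) : x ≠ x * z := fun e => h.inv.1 (mul_eq_left.mp e.symm)

theorem t2_one : T2 f 1 := by rw [← map_one f, h.t2_iff, one_mul]

theorem t2_sq {y : Y} (k : T2 f y) : y * y = 1 := by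
  obtain ⟨x, rfl⟩ := h.surj y
  rw [← map_mul, k x rfl, map_one]

theorem t2_conj {y : Y} (k : T2 f y) (g : Y) : T2 f (g * y * g⁻¹) := by
  obtain ⟨x, rfl⟩ := h.surj y
  obtain ⟨g, rfl⟩ := h.surj g
  rw [← map_inv, ← map_mul, ← map_mul, h.t2_iff, conj_mul, k x rfl]; group

theorem t2_conj' {y g : Y} (k : T2 f (g * y * g⁻¹)) : T2 f y := by
  simpa [mul_assoc] using h.t2_conj k g⁻¹

theorem cm_conj {y y' : Y} (k : Cm f y y') (g : Y) : Cm f (g * y * g⁻¹) (g * y' * g⁻¹) := by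
  obtain ⟨x, rfl⟩ := h.surj y
  obtain ⟨x', rfl⟩ := h.surj y'
  obtain ⟨g, rfl⟩ := h.surj g
  rw [← map_inv, ← map_mul, ← map_mul, ← map_mul, ← map_mul, h.cm_iff, conj_mul, conj_mul,
    k x x' rfl rfl]

theorem cm_self (y : Y) : Cm f y y := by
  obtain ⟨x, rfl⟩ := h.surj y
  exact h.cm_iff.mpr rfl

theorem cm_one (y : Y) : Cm f 1 y := by
  obtain ⟨x, rfl⟩ := h.surj y
  rw [← map_one f, h.cm_iff, one_mul, mul_one]

theorem cm_le {y y' : Y} (k : Cm f y y') : y * y' = y' * y := by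
  obtain ⟨x, rfl⟩ := h.surj y
  obtain ⟨x', rfl⟩ := h.surj y'
  rw [← map_mul, k x x' rfl rfl, map_mul]

theorem cm_mul' {a b y : Y} (k : Cm f a y) (k' : Cm f b y) : Cm f (a * b) y := by
  obtain ⟨x, rfl⟩ := h.surj y
  obtain ⟨a, rfl⟩ := h.surj a
  obtain ⟨b, rfl⟩ := h.surj b
  rw [← map_mul, h.cm_iff, mul_assoc, k' b x rfl rfl, ← mul_assoc, k a x rfl rfl, mul_assoc]

theorem cm_inv {a y : Y} (k : Cm f a y) : Cm f a⁻¹ y := by
  obtain ⟨x, rfl⟩ := h.surj y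
  obtain ⟨a, rfl⟩ := h.surj a
  rw [← map_inv, h.cm_iff, inv_mul_eq_iff_eq_mul, ← mul_assoc, k a x rfl rfl, mul_inv_cancel_right]

theorem cm_mul {a b y : Y} (k : a * y = y * a) (k' : b * y = y * b) :
    Cm f (a * b) y ↔ (Cm f a y ↔ Cm f b y) := by
  obtain ⟨x, rfl⟩ := h.surj y
  obtain ⟨a, rfl⟩ := h.surj a
  obtain ⟨b, rfl⟩ := h.surj b
  rw [← map_mul, ← map_mul] at k k'
  rw [← map_mul, h.cm_iff, h.cm_iff, h.cm_iff]
  have k1 : ∀ a b : X, a * z * b = a * b * z := fun a b => by rw [mul_assoc, ← h.cen, mul_assoc]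
  rcases h.lift k with e | e <;> rcases h.lift k' with e' | e'
  · simp only [e, e', iff_true]
    rw [mul_assoc, e', ← mul_assoc, e, mul_assoc]
  · rw [mul_assoc, e', ← mul_assoc, ← mul_assoc, e, mul_assoc x a]
    simp [(h.ne_z _).symm]
  · rw [mul_assoc, e', ← mul_assoc, e, k1, mul_assoc x a]
    simp [(h.ne_z _).symm]
  · rw [mul_assoc, e', ← mul_assoc, ← mul_assoc, e, k1, mul_assoc _ z, h.inv.2, mul_one,
      mul_assoc x a]
    simp [(h.ne_z _).symm]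

theorem t2_mul {u v : Y} (hu : u * u = 1) (hv : v * v = 1) (c : u * v = v * u) :
    T2 f (u * v) ↔ (Cm f u v ↔ (T2 f u ↔ T2 f v)) := by
  obtain ⟨u, rfl⟩ := h.surj u
  obtain ⟨v, rfl⟩ := h.surj v
  rw [← map_mul, h.ker] at hu hv
  rw [← map_mul, ← map_mul] at c
  rw [← map_mul, h.cm_iff, h.t2_iff, h.t2_iff, h.t2_iff]
  have z1 := h.inv.1
  have z2 := h.inv.2
  rcases h.lift c with e | e
  · rw [show u * v * (u * v) = u * (v * u) * v by group, ← e,
      show u * (u * v) * v = u * u * (v * v) by group]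
    rcases hu with hu | hu <;> rcases hv with hv | hv <;> simp [hu, hv, e, z1, z2]
  · have e2 : v * u = u * v * z := by rw [e, mul_assoc, z2, mul_one]
    have e3 : u * v ≠ v * u := by rw [e2]; exact h.ne_z _
    rw [show u * v * (u * v) = u * (v * u) * v by group, e2, mul_assoc, mul_assoc, ← h.cen,
      show u * (u * v * (v * z)) = u * u * (v * v) * z by group, ← e2]
    rcases hu with hu | hu <;> rcases hv with hv | hv <;> simp [hu, hv, e3, z1, z2]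

/-- the elements whose lifts commute with those of `u` -/
def CS (u : Y) : Subgroup Y where
  carrier := {g | Cm f g u}
  one_mem' := h.cm_one u
  mul_mem' := h.cm_mul'
  inv_mem' := h.cm_inv

section An

variable {u v g : Y} (a : An f u v)
include a

theorem an_u : BS.Inv u := ⟨fun e => a.nu (e ▸ h.t2_one), a.uu⟩
theorem an_v : BS.Inv v := ⟨fun e => a.nv (e ▸ h.t2_one), a.vv⟩
theorem an_ne : u ≠ v := fun e => a.nuv (by rw [e, a.vv]; exact h.t2_one)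

theorem an_nc : ¬ Cm f u v := fun e =>
  a.nuv ((h.t2_mul a.uu a.vv a.c).mpr (iff_of_true e (iff_of_false a.nu a.nv)))

theorem an_dec (h1 : g * u = u * g) (h2 : g * v = v * g) :
    ∃ r, (r = 1 ∨ r = u ∨ r = v ∨ r = u * v) ∧ Cm f (r * g) u ∧ Cm f (r * g) v := by
  have nc := h.an_nc a
  have nc' : ¬ Cm f v u := fun e => nc e.symm
  by_cases e1 : Cm f g u <;> by_cases e2 : Cm f g v
  · exact ⟨1, Or.inl rfl, by rwa [one_mul], by rwa [one_mul]⟩
  · exact ⟨u, by simp, h.cm_mul' (h.cm_self u) e1, (h.cm_mul a.c h2).mpr (iff_of_false nc e2)⟩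
  · exact ⟨v, by simp, (h.cm_mul a.c.symm h1).mpr (iff_of_false nc' e1),
      h.cm_mul' (h.cm_self v) e2⟩
  · refine ⟨u * v, by simp, (h.cm_mul (by rw [mul_assoc, ← a.c]) h1).mpr (iff_of_false ?_ e1),
      (h.cm_mul (by rw [← mul_assoc, ← a.c]) h2).mpr (iff_of_false ?_ e2)⟩
    · rw [h.cm_mul rfl a.c.symm]; simp [h.cm_self, nc']
    · rw [h.cm_mul a.c rfl]; simp [h.cm_self, nc]

theorem an_eq_one {r : Y} (hr : r = 1 ∨ r = u ∨ r = v ∨ r = u * v) (h1 : Cm f r u)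
    (h2 : Cm f r v) : r = 1 := by
  have nc := h.an_nc a
  rcases hr with rfl | rfl | rfl | rfl
  · rfl
  · exact absurd h2 nc
  · exact absurd h1.symm nc
  · rw [h.cm_mul a.c rfl] at h2
    exact absurd (h2.mpr (h.cm_self v)) nc

omit h in
theorem an_nt {r : Y} (hr : r = 1 ∨ r = u ∨ r = v ∨ r = u * v) (h1 : T2 f r) : r = 1 := by
  rcases hr with rfl | rfl | rfl | rfl
  exacts [rfl, absurd h1 a.nu, absurd h1 a.nv, absurd h1 a.nuv]

theorem an_t2 {c : Y} (i : BS.Inv c) (h1 : Cm f c u) (h2 : Cm f c v) :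
    ∃ d, (d = c ∨ d = c * u) ∧ d ≠ 1 ∧ T2 f d := by
  by_cases e : T2 f c
  · exact ⟨c, Or.inl rfl, i.1, e⟩
  · exact ⟨c * u, Or.inr rfl, fun k => h.an_nc a (by
      rwa [eq_inv_of_mul_eq_one_left k, (h.an_u a).inv] at h2),
      (h.t2_mul i.2 a.uu (h.cm_le h1)).mpr (iff_of_true h1 (iff_of_false e a.nu))⟩

theorem finder [Finite Y] {P : Subgroup Y} (hP : IsPGroup 2 P) (hu : u ∈ P) (hv : v ∈ P)
    (c : ∀ g ∈ P, g * u = u * g ∧ g * v = v * g) :
    (∀ g ∈ P, g = 1 ∨ g = u ∨ g = v ∨ g = u * v) ∨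
      ∃ c ∈ P, BS.Inv c ∧ (∀ g ∈ P, c * g = g * c) ∧ Cm f c u ∧ Cm f c v := by
  have m : ∀ r, (r = 1 ∨ r = u ∨ r = v ∨ r = u * v) → r ∈ P ∧ r * r = 1 := by
    rintro _ (rfl | rfl | rfl | rfl)
    exacts [⟨one_mem _, one_mul _⟩, ⟨hu, a.uu⟩, ⟨hv, a.vv⟩, ⟨mul_mem hu hv,
      ((h.an_u a).mul (h.an_v a) (h.an_ne a) a.c).2⟩]
  by_cases e : ∀ g ∈ P ⊓ (h.CS u ⊓ h.CS v), g = 1
  · refine Or.inl fun g hg => ?_
    obtain ⟨r, hr, k⟩ := h.an_dec a (c g hg).1 (c g hg).2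
    rwa [eq_inv_of_mul_eq_one_right (e _ ⟨mul_mem (m r hr).1 hg, k⟩), inv_eq_self_of_sq (m r hr).2]
  push Not at e
  obtain ⟨g, hg, g1⟩ := e
  obtain ⟨d, hd, i, hc⟩ := exists_cen_inv hP.to_inf_left hg g1
  refine Or.inr ⟨d, hd.1, i, fun g hg => ?_, hd.2⟩
  obtain ⟨r, hr, k⟩ := h.an_dec a (c g hg).1 (c g hg).2
  have k1 := hc _ ⟨mul_mem (m r hr).1 hg, k⟩
  have k2 : r * d = d * r := by
    obtain ⟨c1, c2⟩ := c d hd.1
    rcases hr with rfl | rfl | rfl | rfl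
    · simp
    · exact c1.symm
    · exact c2.symm
    · rw [mul_assoc, ← c2, ← mul_assoc, ← c1, mul_assoc]
  rw [← mul_assoc d, ← k2, mul_assoc, mul_assoc] at k1
  exact (mul_left_cancel k1).symm

theorem four_of_no [Finite Y] {P : Subgroup Y} (hP : IsPGroup 2 P) (hu : u ∈ P) (hv : v ∈ P)
    (c : ∀ g ∈ P, g * u = u * g ∧ g * v = v * g)
    (no : ∀ d ∈ P, (∀ g ∈ P, d * g = g * d) → T2 f d → d = 1) :
    ∀ g ∈ P, g = 1 ∨ g = u ∨ g = v ∨ g = u * v := by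
  refine (h.finder a hP hu hv c).resolve_right fun ⟨d, hd, i, k, k1, k2⟩ => ?_
  obtain ⟨e, rfl | rfl, e1, e2⟩ := h.an_t2 a i k1 k2
  · exact e1 (no _ hd k e2)
  · exact e1 (no _ (mul_mem hd hu) (fun g hg => by
      rw [mul_assoc, ← (c g hg).1, ← mul_assoc, k g hg, mul_assoc]) e2)

end An

omit h in
theorem an_of {u v : Y} {P : Subgroup Y} (hu : u ∈ P) (hv : v ∈ P) (i1 : BS.Inv u) (i2 : BS.Inv v)
    (ne : u ≠ v) (c : u * v = v * u) (no : ∀ d ∈ P, T2 f d → d = 1) : An f u v :=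
  ⟨i1.2, i2.2, c, fun e => i1.1 (no u hu e), fun e => i2.1 (no v hv e),
    fun e => (i1.mul i2 ne c).1 (no _ (mul_mem hu hv) e)⟩

/-- the radical of the form on `Ω₁ Z(T)` -/
def Rad (x : Sylow 2 Y) : Subgroup Y := ZZ x ⊓ ⨅ w ∈ ZZ x, h.CS w

theorem mem_Rad {x : Sylow 2 Y} {a : Y} : a ∈ h.Rad x ↔ a ∈ ZZ x ∧ ∀ w ∈ ZZ x, Cm f a w := by
  simp only [Rad, mem_inf, mem_iInf]; rfl

theorem Rad_conj (g : Y) (x : Sylow 2 Y) (a : Y) (ha : a ∈ h.Rad x) :
    g * a * g⁻¹ ∈ h.Rad (g • x) :=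
  h.mem_Rad.mpr ⟨ZZ_conj g (h.mem_Rad.mp ha).1, fun w hw => by
    simpa [mul_assoc] using h.cm_conj ((h.mem_Rad.mp ha).2 (g⁻¹ * w * g)
      (by simpa using ZZ_conj g⁻¹ hw)) g⟩

end DC

theorem card_four_of {P : Subgroup Y} [Finite Y] {u v : Y} (hu : u ∈ P) (hv : v ∈ P)
    (i1 : BS.Inv u) (i2 : BS.Inv v) (ne : u ≠ v) (c : u * v = v * u)
    (e : ∀ g ∈ P, g = 1 ∨ g = u ∨ g = v ∨ g = u * v) : Nat.card P = 4 := by
  refine le_antisymm ?_ (four_le_card hu hv i1 i2 ne c)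
  rw [← ncard_coe]
  exact (Set.ncard_le_ncard (s := (P : Set Y)) (t := {1, u, v, u * v}) e).trans
    ((Set.ncard_insert_le _ _).trans (Nat.succ_le_succ ((Set.ncard_insert_le _ _).trans
      (Nat.succ_le_succ ((Set.ncard_insert_le _ _).trans (by simp))))))

theorem U2.cen_fix {f : X →* Y} (h : U2 f) {a g : Y} (h1 : a ≠ 1) (t : T2 f a) {x : Sylow 2 Y}
    (ha : a ∈ TT x) (c : g * a = a * g) : g • x = x :=
  h a h1 t _ _ (by simpa [c] using conj_mem_smul g ha) ha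

theorem card_equiv {A : Sylow 2 Y → Subgroup Y} [Finite Y]
    (h : ∀ (g : Y) x, ∀ a ∈ A x, g * a * g⁻¹ ∈ A (g • x)) (x y : Sylow 2 Y) :
    Nat.card (A x) = Nat.card (A y) := by
  obtain ⟨g, rfl⟩ := MulAction.exists_smul_eq Y x y
  rw [← card_conjS g]
  refine congrArg _ (congrArg _ (le_antisymm (by rintro _ ⟨a, ha, rfl⟩; exact h g x a ha)
    fun a ha => mem_conjS.mpr ?_))
  simpa using h g⁻¹ _ a ha

end Basic

end Hz
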