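import Cfsg.Agent.Hz.S7

/-! Double covers of simple groups. -/

set_option autoImplicit false

namespace Hz

open Cfsg Subgroup FT H4 BS
open scoped commutatorElement

universe u

variable {X : Type*} {Y : Type u} [Group X] [Group Y] [Finite Y] {f : X →* Y} {z : X}

omit [Finite Y] in
theorem no_index_two [IsSimpleGroup Y] (hY : ¬ IsMulCommutative Y) (N : Subgroup Y)
    (hN : N.Normal) : N.index ≠ 2 := fun e => by
  rcases IsSimpleGroup.eq_bot_or_eq_top_of_normal N hN with rfl | rfl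
  · rw [index_bot] at e
    have := isCyclic_of_prime_card (p := 2) e
    exact hY inferInstance
  · rw [index_top] at e; omega

theorem exists_conj_TT {x : Sylow 2 Y} {w g : Y} (hw : w ∈ ZZ x) {M : Subgroup Y} (hM : TT x ≤ M)
    (hg : g ∈ M) (c : w * (g * w * g⁻¹) = (g * w * g⁻¹) * w) (ne : g * w * g⁻¹ ≠ w) :
    ∃ k ∈ M, k * w * k⁻¹ ∈ TT x ∧ k * w * k⁻¹ ≠ w := by
  have wM := hM hw.1
  obtain ⟨c', hc, hle⟩ := exists_smul_le (C := Cen1 w ⊓ M) (x := x)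
    (fun t ht => ⟨c1_iff.mpr (hw.2.2 t ht).symm, hM ht⟩) (pair_two hw.2.1 (ZZ_conj g hw).2.1 c)
    (sup_le (zpowers_le.mpr ⟨c1_iff.mpr rfl, wM⟩) (zpowers_le.mpr (mem_inf.mpr ⟨c1_iff.mpr c.symm,
      mul_mem (mul_mem hg wM) (inv_mem hg)⟩)))
  refine ⟨c'⁻¹ * g, mul_mem (inv_mem (hc.2 : c' ∈ M)) hg, H5.mem_of_eq (mem_smul.mp
    (hle (mem_sup_right (mem_zpowers _)))) (by group), fun e => ne ?_⟩
  calc g * w * g⁻¹ = c' * (c'⁻¹ * g * w * (c'⁻¹ * g)⁻¹) * c'⁻¹ := by group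
    _ = w := by rw [e, c1_iff'.mp hc.1]

namespace DC

variable (h : DC f z) (u2 : U2 f)
include h u2

omit [Finite Y] in
theorem conj_fix {x : Sylow 2 Y} {a g : Y} (ha : a ∈ TT x) (h1 : a ≠ 1) (t : T2 f a)
    (k : g * a * g⁻¹ ∈ TT x) : g • x = x :=
  u2 _ (by simpa using h1) (h.t2_conj t g) _ _ (conj_mem_smul g ha) k

variable [IsSimpleGroup Y] (hY : ¬ IsMulCommutative Y)
include hY

theorem exists_t2 {t : Y} (h1 : t ≠ 1) (t2 : T2 f t) {x : Sylow 2 Y} (tx : t ∈ TT x) :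
    ∃ a ∈ ZZ x, a ≠ 1 ∧ T2 f a := by
  by_contra no
  push Not at no
  replace no : ∀ a ∈ ZZ x, T2 f a → a = 1 := fun a ha k => by_contra fun e => no a ha e k
  obtain ⟨w, hw, i⟩ := exists_ZZ tx h1
  have k0 : ∀ v ∈ ZZ x, v ≠ 1 → v = w := fun v hv v1 => by
    by_contra e
    have a := an_of hv hw (ZZ_inv hv v1) i e (hv.2.2 w hw.1) no
    exact h1 (an_nt a (h.four_of_no a x.isPGroup' hv.1 hw.1
      (fun g hg => ⟨(hv.2.2 g hg).symm, (hw.2.2 g hg).symm⟩)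
      (fun d hd k k' => no d ⟨hd, h.t2_sq k', k⟩ k') t tx) t2)
  obtain ⟨g, g1, g2⟩ := not_iso hY i
  obtain ⟨k, -, k1, k2⟩ := exists_conj_TT hw le_top (mem_top g) g1 g2
  have i' := i.conj k
  have hv := ZZ_conj k hw
  obtain ⟨d, hd, le⟩ := exists_smul_le (C := Cen1 (k * w * k⁻¹)) (P := TT x ⊓ Cen1 (k * w * k⁻¹))
    (fun t ht => c1_iff.mpr (hv.2.2 t ht).symm) x.isPGroup'.to_inf_left inf_le_right
  have no2 : ∀ e ∈ TT x ⊓ Cen1 (k * w * k⁻¹), T2 f e → e = 1 := fun e he k' => by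
    by_contra e1
    have := ZZ_conj d hv
    rw [c1_iff'.mp hd, ← u2 e e1 k' _ _ he.1 (le he)] at this
    exact k2 (k0 _ this i'.1)
  have m1 : w ∈ TT x ⊓ Cen1 (k * w * k⁻¹) := ⟨hw.1, c1_iff.mpr (hw.2.2 _ k1)⟩
  have m2 : k * w * k⁻¹ ∈ TT x ⊓ Cen1 (k * w * k⁻¹) := ⟨k1, c1_iff.mpr rfl⟩
  have a := an_of m1 m2 i i' k2.symm (hw.2.2 _ k1) no2
  have c4 := card_four_of m1 m2 i i' k2.symm (hw.2.2 _ k1) (h.four_of_no a
    x.isPGroup'.to_inf_left m1 m2 (fun g hg => ⟨(hw.2.2 g hg.1).symm, c1_iff.mp hg.2⟩)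
    fun d hd _ => no2 d hd)
  rcases P.exists_cyc_of_four x.isPGroup' i'.orderOf k1 c4 with e | ⟨b, hb, e⟩
  · exact h1 (no2 t ((eq_of_le_of_card_ge inf_le_left (by rw [c4, e])).ge tx) t2)
  have e2 := P.index_mod_four (TT_syl x) (zpowers_le.mpr hb) e
  obtain ⟨l, hl⟩ := H5.Dich.exists_conj_mem (no_index_two hY) _ e2 (h.t2_sq t2)
  obtain ⟨m, hm⟩ := H5.Dich.exists_conj_mem (no_index_two hY) _ e2 i.2
  have j1 : BS.Inv (l⁻¹ * t * l) := by simpa using BS.Inv.conj ⟨h1, h.t2_sq t2⟩ l⁻¹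
  have j2 : BS.Inv (m⁻¹ * w * m) := by simpa using i.conj m⁻¹
  have e3 : l⁻¹ * t * l = m⁻¹ * w * m := by
    by_contra e
    exact not_rk2_of_cyclic inferInstance ⟨_, hl, _, hm, j1, j2, e,
      H5.comm_of_isMulCommutative inferInstance hl hm⟩
  have := h.t2_conj t2 l⁻¹
  rw [inv_inv, e3] at this
  exact a.nu (h.t2_conj' (g := m⁻¹) (by simpa using this))

theorem ti {t : Y} (h1 : t ≠ 1) (t2 : T2 f t) : TI Y := by
  by_contra nti
  have ex : ∀ x : Sylow 2 Y, ∃ a ∈ ZZ x, a ≠ 1 ∧ T2 f a := fun x => by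
    obtain ⟨y, hy⟩ := exists_TT (Two.of_sq (h.t2_sq t2)).isPGroup
    obtain ⟨g, rfl⟩ := MulAction.exists_smul_eq Y y x
    exact h.exists_t2 u2 hY (by simpa using h1) (h.t2_conj t2 g)
      (conj_mem_smul g (hy (mem_zpowers t)))
  obtain ⟨x⟩ : Nonempty (Sylow 2 Y) := inferInstance
  have h4 : 4 ≤ Nat.card (ZZ x) := by
    obtain ⟨a, ha, a1, a2⟩ := ex x
    obtain ⟨g, g1, g2⟩ := not_iso hY (ZZ_inv ha a1)
    obtain ⟨k, -, k1, k2⟩ := exists_conj_TT ha le_top (mem_top g) g1 g2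
    have := ZZ_conj k ha
    rw [h.conj_fix u2 ha.1 a1 a2 k1] at this
    exact four_le_card ha this (ZZ_inv ha a1) ((ZZ_inv ha a1).conj k) k2.symm (ha.2.2 _ k1)
  have s : SC (ZZ (G := Y)) (Nat.card (ZZ x)) := by
    refine ⟨fun _ => le_rfl, fun g _ _ ha => ZZ_conj g ha, fun y => card_ZZ y x,
      fun y w c hc cy => ?_⟩
    obtain ⟨a, ha, a1, a2⟩ := ex y
    have ca := (ha.2.2 c cy).symm
    obtain ⟨g, hg, hle⟩ := exists_smul_le (C := Cen1 c) (x := w)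
      (fun t ht => c1_iff.mpr (hc.2.2 t ht).symm) (pair_two hc.2.1 ha.2.1 ca)
      (sup_le (zpowers_le.mpr (c1_iff.mpr rfl)) (zpowers_le.mpr (c1_iff.mpr ca.symm)))
    rw [u2 a a1 a2 _ _ ha.1 (hle (mem_sup_right (mem_zpowers _))), ← c1_iff'.mp hg]
    exact ZZ_conj g hc
  have ni : ∀ y : Sylow 2 Y, ∀ c ∈ ZZ y, c ≠ 1 → ∃ n, n • y = y ∧ n * c * n⁻¹ ≠ c :=
    fun y c hc c1 => by
      obtain ⟨g, g1, g2⟩ := not_iso hY (ZZ_inv hc c1)
      exact (s.iso_or hc).resolve_left fun e => g2 (e g g1)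
  obtain ⟨c, hc, c1, x', hx', hne⟩ := exists_two_syl (fun hu => nti (s.ti hY h4 hu)) x
  by_cases rel : Rel (ZZ (G := Y)) (zpowers c)
  · obtain ⟨n, hn, hnc⟩ := ni x c hc c1
    obtain ⟨a, ha, a1, a2⟩ := ex x
    obtain ⟨k, -, rfl⟩ : ∃ k, k • x = x ∧ k * c * k⁻¹ = a := by
      rcases h4.eq_or_lt with e | e
      · exact four_trans e.symm hc c1 hn hnc ha a1
      · have h8 := eight_le (ZZ_le x) e
        obtain ⟨j, hj⟩ := s.q_pow x
        rcases j with _ | j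
        · omega
        · exact s.trans hc c1 (q' := 2 ^ j) (by rw [hj, pow_succ']) (by omega) rel hx' hne hn hnc
            ha a1
    exact hne (u2 c c1 (h.t2_conj' a2) _ _ hx' hc.1)
  simp only [Rel, not_forall, not_or, mem_Om1] at rel
  obtain ⟨y, cy, y', cy', b, hb, by', ne, bc⟩ := rel
  replace hc := s.sc y x c hc cy
  have i1 := ZZ_inv hc c1
  have i2 := ZZ_inv hb fun e => bc (e ▸ one_mem _)
  have cb := hc.2.2 b hb.1
  have no : ∀ y y' : Sylow 2 Y, y' ≠ y → ∀ d ∈ TT y ⊓ TT y', T2 f d → d = 1 :=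
    fun y y' ne d hd k => by_contra fun e => ne (u2 d e k _ _ hd.2 hd.1)
  have a : An f c b := an_of (P := TT y ⊓ TT y') ⟨cy, cy'⟩ ⟨hb.1, by'⟩ i1 i2
    (fun e => bc (e ▸ mem_zpowers c)) cb (no y y' ne)
  have f4 : GW.F4 c b := ⟨i1.orderOf, i2.orderOf, cb, (h.an_ne a).symm⟩
  have UZ : GW.V4 c b ≤ ZZ y := GW.V_le hc hb
  have rel : Rel (ZZ (G := Y)) (GW.V4 c b) := fun w hw w' hw' d hd dw => by
    refine or_iff_not_imp_left.mpr fun e => f4.mem_V.mpr ?_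
    have m1 := s.U_le UZ hw (GW.t_V c b)
    have m2 := s.U_le UZ hw (GW.a_V c b)
    exact h.four_of_no a (P := TT w ⊓ TT w') w.isPGroup'.to_inf_left ⟨m1.1, hw' (GW.t_V c b)⟩
      ⟨m2.1, hw' (GW.a_V c b)⟩ (fun g hg => ⟨(m1.2.2 g hg.1).symm, (m2.2.2 g hg.1).symm⟩)
      (fun d hd _ => no w w' e d hd) d ⟨hd.1, dw⟩
  set W := ZZ y ⊓ (h.CS c ⊓ h.CS b) with hW
  have dec : ∀ g ∈ TT y, ∃ r ∈ GW.V4 c b, Cm f (r * g) c ∧ Cm f (r * g) b := fun g hg => by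
    obtain ⟨r, hr, k⟩ := h.an_dec a (hc.2.2 g hg).symm (hb.2.2 g hg).symm
    exact ⟨r, f4.mem_V.mpr hr, k⟩
  have dj : ∀ r ∈ GW.V4 c b, r ∈ W → r = 1 := fun r hr k =>
    h.an_eq_one a (f4.mem_V.mp hr) k.2.1 k.2.2
  have sp : GW.V4 c b ⊔ W = ZZ y := le_antisymm (sup_le UZ inf_le_left) fun g hg => by
    obtain ⟨r, hr, k⟩ := dec g hg.1
    exact (mul_mem_cancel_left (mem_sup_left hr)).mp (mem_sup_right ⟨mul_mem (UZ hr) hg, k⟩)
  have cq : Nat.card (ZZ x) = Nat.card (GW.V4 c b) * Nat.card W := by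
    rw [card_ZZ x y, ← sp, H5.card_sup_of_disjoint (fun g (hg : g ∈ W) => cen_le_nor _ (cen_iff.mpr
      fun r hr => hg.1.2.2 r (UZ hr).1)) (eq_bot_iff.mpr fun r hr => dj r hr.1 hr.2)]
  have RW : h.Rad y ≤ W := fun r hr => ⟨(h.mem_Rad.mp hr).1, (h.mem_Rad.mp hr).2 c hc,
    (h.mem_Rad.mp hr).2 b hb⟩
  have rad : ∀ w ∈ W, (∀ w' ∈ W, Cm f w w') → w ∈ h.Rad y := fun w hw k =>
    h.mem_Rad.mpr ⟨hw.1, fun g hg => Cm.symm ((sp.ge.trans (sup_le (GW.V_le hw.2.1.symm hw.2.2.symm)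
      fun w' hw' => (k w' hw').symm) : ZZ y ≤ h.CS w) hg)⟩
  obtain ⟨a0, ha0, a1, a2⟩ := ex y
  obtain ⟨w, hw, w1⟩ : ∃ w ∈ W, w ≠ 1 := by
    obtain ⟨r, hr, k⟩ := dec a0 ha0.1
    refine ⟨r * a0, ⟨mul_mem (UZ hr) ha0, k⟩, fun e => a1 (an_nt a (f4.mem_V.mp ?_) a2)⟩
    rw [eq_inv_of_mul_eq_one_right e]; exact inv_mem hr
  by_cases W2 : ∀ w' ∈ W, w' ≠ 1 → w' = w
  · obtain ⟨n, hn, hnw⟩ := ni y w hw.1 w1
    have := h.Rad_conj n y w (rad w hw fun w' hw' => by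
      by_cases e : w' = 1
      · rw [e]; exact (h.cm_one w).symm
      · rw [W2 w' hw' e]; exact h.cm_self w)
    rw [hn] at this
    exact hnw (W2 _ (RW this) (by simpa using w1))
  push Not at W2
  obtain ⟨v, hv, v1, vw⟩ := W2
  have W4 := four_le_card hv hw (ZZ_inv hv.1 v1) (ZZ_inv hw.1 w1) vw (hv.1.2.2 w hw.1.1)
  have tr : ∀ v ∈ W, v ≠ 1 → ∃ k, k * w * k⁻¹ = v := fun v hv v1 => by
    obtain ⟨k, hk, k1, k2⟩ := s.exists_K UZ cq W4 rel (GW.V_le cy' by') ne hw.1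
      (fun e => w1 (dj w e hw)) hv.1 fun e => v1 (dj v e hv)
    refine ⟨k, inv_mul_eq_one.mp (dj _ k2 (mul_mem (inv_mem ⟨s.conj' k1 hw.1, ?_, ?_⟩) hv))⟩
    · exact show Cm f _ _ by simpa [cen_iff.mp hk c (GW.t_V c b)] using h.cm_conj hw.2.1 k
    · exact show Cm f _ _ by simpa [cen_iff.mp hk b (GW.a_V c b)] using h.cm_conj hw.2.2 k
  by_cases w2 : T2 f w
  · have all : ∀ v ∈ W, T2 f v := fun v hv => by
      by_cases e : v = 1
      · rw [e]; exact h.t2_one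
      · obtain ⟨k, rfl⟩ := tr v hv e
        exact h.t2_conj w2 k
    have e : h.Rad y = W := le_antisymm RW fun v hv => rad v hv fun v' hv' =>
      ((h.t2_mul hv.1.2.1 hv'.1.2.1 (hv.1.2.2 v' hv'.1.1)).mp (all _ (mul_mem hv hv'))).mpr
        (iff_of_true (all v hv) (all v' hv'))
    have all' : ∀ y', ∀ v ∈ h.Rad y', T2 f v := fun y' v hv => by
      obtain ⟨g, hg⟩ := MulAction.exists_smul_eq Y y' y
      exact h.t2_conj' (all _ (e.le (hg ▸ h.Rad_conj g y' v hv)))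
    have hu : ∀ x y, ∀ a ∈ h.Rad x, a ≠ 1 → a ∈ TT y → y = x := fun x y a ha a1 k =>
      u2 a a1 (all' x a ha) _ _ k (h.mem_Rad.mp ha).1.1
    refine nti (SC.ti hY (A := h.Rad) (q := Nat.card W) ⟨fun _ => inf_le_left, h.Rad_conj,
      fun y' => by rw [card_equiv h.Rad_conj y' y, e], fun x y c hc k => ?_⟩ W4 hu)
    by_cases c1 : c = 1
    · rw [c1]; exact one_mem _
    · rwa [hu y x c hc c1 k]
  have no' : ∀ v ∈ W, T2 f v → v = 1 := fun v hv k => by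
    by_contra e
    obtain ⟨k', rfl⟩ := tr v hv e
    exact w2 (h.t2_conj' k)
  have a' := an_of hv hw (ZZ_inv hv.1 v1) (ZZ_inv hw.1 w1) vw (hv.1.2.2 w hw.1.1) no'
  have WP : W ≤ TT y ⊓ (h.CS c ⊓ h.CS b) := inf_le_inf_right _ (ZZ_le y)
  have cenT : ∀ d ∈ TT y ⊓ (h.CS c ⊓ h.CS b), (∀ g ∈ TT y ⊓ (h.CS c ⊓ h.CS b), d * g = g * d) →
      ∀ g ∈ TT y, d * g = g * d := fun d hd k g hg => by
    obtain ⟨r, hr, k1⟩ := dec g hg
    have := k _ ⟨mul_mem (UZ hr).1 hg, k1⟩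
    rw [← mul_assoc, ← (UZ hr).2.2 d hd.1, mul_assoc, mul_assoc] at this
    exact mul_left_cancel this
  have key := h.four_of_no a' y.isPGroup'.to_inf_left (WP hv) (WP hw)
    (fun g hg => ⟨(hv.1.2.2 g hg.1).symm, (hw.1.2.2 g hg.1).symm⟩)
    fun d hd k k' => no' d ⟨⟨hd.1, h.t2_sq k', cenT d hd k⟩, hd.2⟩ k'
  have le : TT y ≤ ZZ y := fun g hg => by
    obtain ⟨r, hr, k⟩ := dec g hg
    refine (mul_mem_cancel_left (UZ hr)).mp ?_
    rcases key _ ⟨mul_mem (UZ hr).1 hg, k⟩ with e | e | e | e <;> rw [e]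
    exacts [one_mem _, hv.1, hw.1, mul_mem hv.1 hw.1]
  have c16 : 16 ≤ Nat.card (TT y) := by
    have := card_le_of_le (ZZ_le y)
    rw [card_ZZ y x, cq, f4.card_V] at this
    omega
  rcases _root_.W.known_top _ Y _ rfl hY ⟨TT_syl y, H5.isMulCommutative_of_forall fun a ha =>
    (le ha).2.2⟩ with e | e | ⟨t, N, j⟩
  · omega
  · exact nti (ti_of_hasSE hY e)
  · have := j.c8; omega

end DC

end Hz
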