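import Cfsg.Agent.Hz.S8

/-! Double covers of groups with one or two components. -/

set_option autoImplicit false

namespace Hz

open Cfsg Subgroup FT H4 BS
open scoped commutatorElement MatrixGroups

universe u

variable {X : Type*} {Y : Type u} [Group X] [Group Y] [Finite Y] {f : X →* Y} {z : X}

theorem exists_cen_inv' {P N : Subgroup Y} (hP : IsPGroup 2 P) (hN : P ≤ Nor N) {g : Y}
    (hg : g ∈ P) (gN : g ∈ N) (h1 : g ≠ 1) :
    ∃ a ∈ P, a ∈ N ∧ BS.Inv a ∧ ∀ y ∈ P, a * y = y * a := by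
  obtain ⟨a, ha, a1, hc⟩ := exists_mem_center_of_isNilpotent (H := P) (N := P ⊓ N) hP.isNilpotent
    inf_le_left (le_normalizer_inf le_normalizer hN) fun e => h1 (mem_bot.mp (e ▸ ⟨hg, gN⟩))
  obtain ⟨k, hk⟩ := (two_of_isPGroup hP ha.1).exists_inv a1
  exact ⟨a ^ k, pow_mem (ha.1 : a ∈ P) k, pow_mem (ha.2 : a ∈ N) k, hk,
    fun y hy => pow_comm_of (cen_iff.mp hc y hy) k⟩

theorem exists_inv_TT {K : Subgroup Y} (hs : IsSimpleGroup K) (nc : ¬ IsMulCommutative K)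
    {x : Sylow 2 Y} (h : H5.IsSylowOf 2 (TT x ⊓ K) K) : ∃ a ∈ TT x, a ∈ K ∧ BS.Inv a := by
  obtain ⟨g, hg, h1⟩ := (bot_or_exists_ne_one _).resolve_left (h.ne_bot
    (even_iff_two_dvd.mp (even_of_simple nc)))
  obtain ⟨k, hk⟩ := (TT_two hg.1).exists_inv h1
  exact ⟨g ^ k, pow_mem (hg.1 : g ∈ TT x) k, pow_mem (hg.2 : g ∈ K) k, hk⟩

theorem TI.oc {K : Subgroup Y} (hs : IsSimpleGroup K) (nc : ¬ IsMulCommutative K) (h : TI K) :
    OC K := fun a ha b hb i1 i2 => by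
  obtain ⟨x⟩ : Nonempty (Sylow 2 K) := inferInstance
  obtain ⟨g, -, e⟩ := oc_top_of_se (h.se nc x) ⟨a, ha⟩ trivial ⟨b, hb⟩ trivial (inv_coe.mp i1)
    (inv_coe.mp i2)
  exact ⟨g, g.2, congrArg Subtype.val e⟩

omit [Finite Y] in
theorem qs_of_simple {K : Subgroup Y} (hs : IsSimpleGroup K) (nc : ¬ IsMulCommutative K) :
    QS K := qs_iff.mpr (isQuasisimple_of_isSimpleGroup nc)

omit [Finite Y] in
theorem eq_bot_of_solv {L N : Subgroup Y} (hs : IsSimpleGroup L) (nc : ¬ IsMulCommutative L)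
    (hC : Cen L = ⊥) (h1 : L ≤ Nor N) (h2 : N ≤ Nor L) (hN : Group.IsSolvable N) : N = ⊥ := by
  have e := (simple_sub hs inf_le_right (le_normalizer_inf h1 le_normalizer)).resolve_right
    fun e => (qs_of_simple hs nc).not_le_of_isSolvable hN (e.ge.trans inf_le_left)
  exact eq_bot_iff.mpr (hC ▸ fun g hg => cen_iff.mpr fun l hl => comm_of_disj h2 h1 e hg hl)

namespace DC

variable (h : DC f z)
include h

omit [Finite Y] in
theorem z_mem (L : Subgroup Y) : z ∈ L.comap f := by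
  rw [mem_comap, (h.ker z).mpr (Or.inr rfl)]; exact one_mem _

omit [Finite Y] in
theorem sub (L : Subgroup Y) : DC (f.subgroupComap L) ⟨z, h.z_mem L⟩ :=
  ⟨f.subgroupComap_surjective_of_surjective L h.surj, inv_coe.mp h.inv,
    fun g => Subtype.ext (h.cen g), fun g => by
      rw [Subtype.ext_iff, Subtype.ext_iff, Subtype.ext_iff]; exact h.ker g⟩

omit [Finite Y] h in
theorem t2_sub {L : Subgroup Y} {y : L} : T2 (f.subgroupComap L) y ↔ T2 f y :=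
  ⟨fun k x e => congrArg Subtype.val (k ⟨x, by rw [mem_comap, e]; exact y.2⟩ (Subtype.ext e)),
    fun k x e => Subtype.ext (k x (congrArg Subtype.val e))⟩

omit [Finite Y] h in
theorem u2_sub (u2 : U2 f) (L : Subgroup Y) : U2 (f.subgroupComap L) := fun a a1 t x y ax ay => by
  obtain ⟨x', hx⟩ := exists_ext x
  obtain ⟨y', hy⟩ := exists_ext y
  rw [← hx] at ax
  rw [← hy] at ay
  obtain rfl := u2 a (fun e => a1 (Subtype.ext e)) (t2_sub.mp t) x' y' ax ay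
  exact Sylow.ext (hx.symm.trans hy)

theorem oc_of_no [Finite X] {L : Subgroup Y} (hs : IsSimpleGroup L) (nc : ¬ IsMulCommutative L)
    (no : ∀ d ∈ L, T2 f d → d = 1) : OC L := by
  have d := h.sub L
  have k : ∀ a : L.comap f, BS.Inv a → a = ⟨z, h.z_mem L⟩ := fun a i =>
    ((d.ker a).mp (Subtype.ext (no _ a.2 (t2_sub.mp (d.t2_iff.mpr i.2))))).resolve_left i.1
  obtain ⟨S⟩ : Nonempty (Sylow 2 (L.comap f)) := inferInstance
  obtain ⟨m, a, b, q⟩ := GW.exists_qs (by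
    by_contra e
    obtain ⟨a, -, b, -, i1, i2, ne, -⟩ := rk2_top_iff.mpr e
    exact ne ((k a i1).trans (k b i2).symm)) (fun _ => (qs_of_simple hs nc).not_isSolvable
      (Group.isSolvable_of_surjective d.surj)) S
  have hD := GW.D2_of_QS q _ d.surj ((d.ker _).mpr (Or.inr (k _ ⟨q.t_ne_one, q.t_mul_t⟩)))
  intro a ha b hb i1 i2
  obtain ⟨g, -, e⟩ := hD.oneCl nc ⟨a, ha⟩ trivial ⟨b, hb⟩ trivial (inv_coe.mp i1).orderOf
    (inv_coe.mp i2).orderOf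
  exact ⟨g, g.2, congrArg Subtype.val e⟩

variable (u2 : U2 f)
include u2

section One

variable {L : Subgroup Y} [nL : L.Normal] (hs : IsSimpleGroup L) (nc : ¬ IsMulCommutative L)
  (hC : Cen L = ⊥)
include hs nc hC

theorem alpha {t : Y} (ht : t ∈ L) (h1 : t ≠ 1) (t2 : T2 f t) {x y : Sylow 2 Y} {a : Y}
    (i : BS.Inv a) (ax : a ∈ TT x) (ay : a ∈ TT y) : x = y := by
  have oc := TI.oc hs nc ((h.sub L).ti (u2_sub u2 L) nc (t := ⟨t, ht⟩)
    (fun e => h1 (congrArg Subtype.val e)) (t2_sub.mpr t2))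
  have all : ∀ a ∈ L, BS.Inv a → T2 f a := fun a ha i => by
    obtain ⟨g, -, rfl⟩ := oc t ht a ha ⟨h1, h.t2_sq t2⟩ i
    exact h.t2_conj t2 g
  have hu : ∀ x y : Sylow 2 Y, ∀ a ∈ ZZ x ⊓ L, a ≠ 1 → a ∈ TT y → y = x := fun x y a ha a1 k =>
    u2 a a1 (all a ha.2 (ZZ_inv ha.1 a1)) _ _ k ha.1.1
  have cj : ∀ (g : Y) (x : Sylow 2 Y), ∀ a ∈ ZZ x ⊓ L, g * a * g⁻¹ ∈ ZZ (g • x) ⊓ L :=
    fun g x a ha => ⟨ZZ_conj g ha.1, nL.conj_mem a ha.2 g⟩
  have s : SC (fun x : Sylow 2 Y => ZZ x ⊓ L) (Nat.card ↥(ZZ x ⊓ L)) :=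
    ⟨fun _ => inf_le_left, cj, fun y => card_equiv cj y x, fun x y c hc k => by
      by_cases c1 : c = 1
      · rw [c1]; exact one_mem _
      · rwa [hu y x c hc c1 k]⟩
  obtain ⟨b, hb, bL, i1⟩ := exists_inv_TT hs nc ((TT_syl x).inf_of_le_normalizer le_top
    le_normalizer_of_normal)
  obtain ⟨c, hc, cL, i2, k⟩ := exists_cen_inv' x.isPGroup' le_normalizer_of_normal hb bL i1.1
  have cZ : c ∈ ZZ x := ⟨hc, i2.2, k⟩
  obtain ⟨g, -, g1, g2⟩ := not_iso_sub hs nc cL i2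
  obtain ⟨k, -, k1, k2⟩ := exists_conj_TT cZ le_top (mem_top g) g1 g2
  have := cj k x c ⟨cZ, cL⟩
  rw [h.conj_fix u2 hc i2.1 (all c cL i2) k1] at this
  obtain ⟨w, hw, -⟩ := (s.zd (four_le_card ⟨cZ, cL⟩ this i2 (i2.conj k) k2.symm (cZ.2.2 _ k1))
    hu).all (faith_of (eq_bot_of_solv hs nc hC le_normalizer_of_normal le_normalizer_of_normal
      (FT.ftThm _ (Nat.coprime_two_right.mp (coprime_card_pPrimeCore 2 _))))
      (eq_bot_of_solv hs nc hC le_normalizer_of_normal le_normalizer_of_normal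
        (H5.isSolvable_of_isPGroup (isPGroup_pCore 2 _)))) a i
  rw [hu w x a hw i.1 ax, hu w y a hw i.1 ay]

theorem beta [Finite X] (no : ∀ d ∈ L, T2 f d → d = 1) {b : Y} (b1 : b ≠ 1) (b2 : T2 f b) :
    False := by
  have oc := h.oc_of_no hs nc no
  have ib : BS.Inv b := ⟨b1, h.t2_sq b2⟩
  have bL : b ∉ L := fun e => b1 (no b e b2)
  obtain ⟨x, hx⟩ := exists_TT ib.isPGroup
  have bx := hx (mem_zpowers b)
  have sy := (TT_syl x).inf_of_le_normalizer (N := L) le_top le_normalizer_of_normal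
  obtain ⟨u0, hu0, u0L, i0⟩ := exists_inv_TT hs nc sy
  obtain ⟨u, hu, uL, iu, k⟩ := exists_cen_inv' x.isPGroup' le_normalizer_of_normal hu0 u0L i0.1
  have uZ : u ∈ ZZ x := ⟨hu, iu.2, k⟩
  have mZ : ∀ v ∈ L, BS.Inv v → v * b = b * v → v ∈ ZZ x := fun v hv i c => by
    obtain ⟨g, -, rfl⟩ := oc u uL v hv iu i
    have m := ZZ_conj g uZ
    obtain ⟨d, hd, hle⟩ := exists_smul_le (C := Cen1 (g * u * g⁻¹))
      (fun t ht => c1_iff.mpr (m.2.2 t ht).symm) (pair_two i.2 ib.2 c)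
      (sup_le (zpowers_le.mpr (c1_iff.mpr rfl)) (zpowers_le.mpr (c1_iff.mpr c.symm)))
    rw [u2 b b1 b2 _ _ bx (hle (mem_sup_right (mem_zpowers _))), ← c1_iff'.mp hd]
    exact ZZ_conj d m
  have cos : ∀ c g : Y, c * c = 1 → g ∈ L ⊔ zpowers c → g ∈ L ∨ g * c ∈ L := fun c g c2 hg => by
    obtain ⟨l, hl, r, hr, rfl⟩ := mem_sup_of_normal_left.mp hg
    rcases GW.mem_zp2 c2 hr with rfl | rfl
    · exact Or.inl (by simpa using hl)
    · exact Or.inr (by simpa [mul_assoc, c2] using hl)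
  by_cases A2 : ∀ v ∈ ZZ x, v ∈ L → v ≠ 1 → v = u
  · have ncm : ¬ Cm f u b := fun cm => by
      obtain ⟨g, -, g1, g2⟩ := not_iso_sub hs nc uL iu
      obtain ⟨k, -, k1, k2⟩ := exists_conj_TT uZ le_top (mem_top g) g1 g2
      have jL := nL.conj_mem u uL k
      have ij := iu.conj k
      generalize k * u * k⁻¹ = j at k1 k2 jL ij
      obtain ⟨j, rfl⟩ := h.surj j
      obtain ⟨b, rfl⟩ := h.surj b
      have bb := h.t2_iff.mp b2
      have e1 : b * (j⁻¹ * (b * j * b⁻¹)) * b⁻¹ = (j⁻¹ * (b * j * b⁻¹))⁻¹ := by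
        rw [show b * (j⁻¹ * (b * j * b⁻¹)) * b⁻¹ = b * j⁻¹ * b⁻¹ * ((b * b) * j * (b * b)⁻¹) by
          group, bb]; group
      have m1 : f (j⁻¹ * (b * j * b⁻¹)) ∈ TT x ⊓ L := by
        simp only [map_mul, map_inv]
        exact mem_inf.mpr ⟨mul_mem (inv_mem k1) (mul_mem (mul_mem bx k1) (inv_mem bx)),
          mul_mem (inv_mem jL) (nL.conj_mem _ jL _)⟩
      by_cases e : f (j⁻¹ * (b * j * b⁻¹)) = 1
      · simp only [map_mul, map_inv] at e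
        have c : f j * f b = f b * f j := by
          rw [← mul_inv_eq_iff_eq_mul.mp (inv_mul_eq_one.mp e).symm]
        exact k2 (A2 _ (mZ _ jL ij c) jL ij.1)
      generalize j⁻¹ * (b * j * b⁻¹) = t at e1 m1 e
      obtain ⟨n, hn⟩ := (TT_two m1.1).exists_inv e
      have e2 : b * t ^ n * b⁻¹ = (t ^ n)⁻¹ := by rw [← conj_pow, e1, inv_pow]
      have nL' := pow_mem (m1.2 : f t ∈ L) n
      have e3 := A2 _ (mZ _ nL' hn (by
        have := congrArg f e2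
        simp only [map_mul, map_inv, map_pow, hn.inv] at this
        exact (mul_inv_eq_iff_eq_mul.mp this).symm)) nL' hn.1
      rw [← e3, ← map_pow, h.cm_iff] at cm
      rw [← cm, mul_inv_cancel_right] at e2
      exact hn.1 (no _ nL' (by rw [← map_pow, h.t2_iff]; exact mul_eq_one_iff_eq_inv.mpr e2))
    have key : ∀ v ∈ L, BS.Inv v → u * v = v * u := fun v hv i => by
      obtain ⟨c, hc, oc', c1, c2⟩ := H9.exists_invol_comm ib.2 i.2 fun e => by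
        obtain ⟨g, rfl⟩ := isConj_iff.mp e
        exact bL (by simpa [mul_assoc] using nL.conj_mem _ hv g⁻¹)
      have ic : BS.Inv c := ⟨GW.ine oc', GW.ii oc'⟩
      rcases cos b c ib.2 (zpowers_le.mpr (mul_mem (mem_sup_right (mem_zpowers b))
        (mem_sup_left hv)) hc) with e | e
      · rw [← A2 c (mZ c e ic c1) e ic.1, c2]
      have fx : ∀ d, d ≠ 1 → T2 f d → d ∈ TT x → d * v = v * d → u * v = v * u :=
        fun d d1 d2 dx c => k v ((memTT _ _).2 ⟨u2.cen_fix d1 d2 dx c.symm, Two.of_sq i.2⟩)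
      by_cases e1 : c = b
      · exact fx b b1 b2 bx (e1 ▸ c2)
      have i2 := ic.mul ib e1 c1
      have e2 := A2 _ (mZ _ e i2 (by rw [← mul_assoc b, ← c1])) e i2.1
      have e3 : c = u * b := by rw [← e2, mul_assoc, ib.2, mul_one]
      refine fx c ic.1 ?_ (e3 ▸ mul_mem hu bx) c2
      rw [e3, h.t2_mul iu.2 ib.2 (k b bx)]
      exact iff_of_false ncm fun e => iu.1 (no u uL (e.mpr b2))
    have m : ∀ g, g ∈ L ⊓ ⨅ (v) (_ : v ∈ L ∧ BS.Inv v), Cen1 v ↔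
        g ∈ L ∧ ∀ v ∈ L, BS.Inv v → g * v = v * g := fun g => by
      simp only [mem_inf, mem_iInf, c1_iff, and_imp]
    rcases simple_sub hs (K := L ⊓ ⨅ (v) (_ : v ∈ L ∧ BS.Inv v), Cen1 v) inf_le_left
      (fun l hl => H5.mem_normalizer_of_forall fun g hg => (m _).2 ⟨nL.conj_mem g hg.1 l,
        fun v hv i => by
          have := ((m g).1 hg).2 _ (nL.conj_mem v hv l⁻¹) (i.conj l⁻¹)
          calc l * g * l⁻¹ * v = l * (g * (l⁻¹ * v * l⁻¹⁻¹)) * l⁻¹ := by group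
            _ = v * (l * g * l⁻¹) := by rw [this]; group⟩) with e | e
    · exact iu.1 (mem_bot.mp (e ▸ (m u).2 ⟨uL, key⟩))
    · exact iu.1 (mem_bot.mp (hC ▸ cen_iff.mpr fun l hl => (((m l).1 (e.ge hl)).2 u uL iu).symm))
  push Not at A2
  obtain ⟨j, jZ, jL, j1, ju⟩ := A2
  have a := an_of uL jL iu (ZZ_inv jZ j1) ju.symm (k j jZ.1) no
  have all := h.four_of_no a (P := TT x ⊓ L) x.isPGroup'.to_inf_left ⟨hu, uL⟩ ⟨jZ.1, jL⟩
    (fun g hg => ⟨(k g hg.1).symm, (jZ.2.2 g hg.1).symm⟩) fun d hd _ => no d hd.2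
  have mA : ∀ r, (r = 1 ∨ r = u ∨ r = j ∨ r = u * j) → r ∈ ZZ x ⊓ L := by
    rintro _ (rfl | rfl | rfl | rfl)
    exacts [(ZZ x ⊓ L).one_mem, ⟨uZ, uL⟩, ⟨jZ, jL⟩, mem_inf.mpr ⟨mul_mem uZ jZ, mul_mem uL jL⟩]
  obtain ⟨r, hr, c1, c2⟩ := h.an_dec a (k b bx).symm (jZ.2.2 b bx).symm
  have rA := mem_inf.mp (mA r hr)
  have cL : r * b ∉ L := fun e => bL ((mul_mem_cancel_left rA.2).mp e)
  have ic : BS.Inv (r * b) := ⟨fun e => cL (e ▸ one_mem _), by
    rw [mul_assoc, ← mul_assoc b, ← rA.1.2.2 b bx, mul_assoc, ib.2, mul_one, rA.1.2.1]⟩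
  have cx := mul_mem rA.1.1 bx
  generalize r * b = c at c1 c2 cL ic cx
  have cA : ∀ w ∈ TT x ⊓ L, Cm f w c := fun w hw => by
    rcases all w hw with rfl | rfl | rfl | rfl
    exacts [h.cm_one c, c1.symm, c2.symm, h.cm_mul' c1.symm c2.symm]
  have oM : Od (L ⊔ zpowers c) = ⊥ := eq_bot_of_solv hs nc hC
    (le_sup_left.trans (le_nor_piCoreOf _ _)) le_normalizer_of_normal (FT.ftThm _ (odd_Od _))
  refine cL (hC.le.trans bot_le (cen_iff.mpr fun l hl => ?_))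
  obtain ⟨o, ho, d, -, e, rfl⟩ := zstar_amb' (mem_sup_right (mem_zpowers c)) ic (fun g hg cc => by
    by_contra ne
    obtain ⟨l, hl, e⟩ : ∃ l ∈ L, g * c * g⁻¹ = l * c * l⁻¹ := by
      rcases cos c g ic.2 hg with e | e
      · exact ⟨g, e, rfl⟩
      · exact ⟨_, e, by group⟩
    rw [e] at cc ne
    have wL : l * c * l⁻¹ * c ∈ L := H5.mem_of_eq (mul_mem hl (nL.conj_mem _ (inv_mem hl) c))
      (by rw [ic.inv]; group)
    have iw := (ic.conj l).mul ic ne cc.symm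
    obtain ⟨k, hk, hle⟩ := (sy.of_le (H := L ⊓ Cen1 c) (fun w hw => ⟨hw.2,
      c1_iff.mpr (h.cm_le (cA w hw))⟩) inf_le_left).exists_conj_le iw.isPGroup
      (zpowers_le.mpr ⟨wL, c1_iff.mpr (by rw [mul_assoc _ c c, ← mul_assoc c, cc, mul_assoc _ c c])⟩)
    have m := hle ⟨_, mem_zpowers _, rfl⟩
    have iw' := iw.conj k
    have e1 := h.t2_mul iw'.2 ic.2 (h.cm_le (cA _ m))
    have e2 : k * (l * c * l⁻¹ * c) * k⁻¹ * c = k * l * c * (k * l)⁻¹ := by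
      calc _ = k * l * c * (k * l)⁻¹ * (k * c * k⁻¹) * c := by group
        _ = _ := by rw [c1_iff'.mp hk.2, mul_assoc _ c c, ic.2, mul_one]
    have e3 : T2 f (k * l * c * (k * l)⁻¹) ↔ T2 f c := ⟨h.t2_conj', fun e => h.t2_conj e _⟩
    have e4 : ¬ T2 f (k * (l * c * l⁻¹ * c) * k⁻¹) := fun e => iw'.1 (no _ m.2 e)
    have e5 := cA _ m
    rw [e2, e3] at e1
    tauto) (mem_sup_left hl)
  rw [oM, mem_bot] at ho
  rw [ho, one_mul, e]

theorem one [Finite X] {t : Y} (h1 : t ≠ 1) (t2 : T2 f t) {x y : Sylow 2 Y} {a : Y}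
    (i : BS.Inv a) (ax : a ∈ TT x) (ay : a ∈ TT y) : x = y := by
  by_cases no : ∀ d ∈ L, T2 f d → d = 1
  · exact (h.beta u2 hs nc hC no h1 t2).elim
  · push Not at no
    obtain ⟨d, hd, d2, d1⟩ := no
    exact h.alpha u2 hs nc hC hd d1 d2 i ax ay

end One

section Two

variable {K K' : Subgroup Y} (hs : IsSimpleGroup K) (nc : ¬ IsMulCommutative K)
  (hs' : IsSimpleGroup K') (nc' : ¬ IsMulCommutative K') (cm : ∀ a ∈ K, ∀ b ∈ K', Cm f a b)
include hs' nc' cm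

theorem pair_no : ∀ d ∈ K, T2 f d → d = 1 := fun d hd k => by
  by_contra e
  obtain ⟨x, hx⟩ := exists_TT (Two.of_sq (h.t2_sq k)).isPGroup
  exact QS.not_le_St (qs_of_simple hs' nc') x fun l hl =>
    u2.cen_fix e k (hx (mem_zpowers d)) (h.cm_le (cm d hd l hl)).symm

include hs nc

theorem pair_t2 {a b : Y} (ha : a ∈ K) (hb : b ∈ K') (i : BS.Inv a) (i' : BS.Inv b) :
    a * b ≠ 1 ∧ T2 f (a * b) := by
  have k := fun e => i'.1 (h.pair_no u2 hs nc (fun a ha b hb => (cm b hb a ha).symm) b hb e)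
  refine ⟨fun e => ?_, (h.t2_mul i.2 i'.2 (h.cm_le (cm a ha b hb))).mpr (iff_of_true (cm a ha b hb)
    (iff_of_false (fun e => i.1 (h.pair_no u2 hs' nc' cm a ha e)) k))⟩
  have e1 : a = b := by rw [eq_inv_of_mul_eq_one_left e, i'.inv]
  obtain ⟨g, hg, -, g2⟩ := not_iso_sub hs nc ha i
  exact g2 (by rw [e1, h.cm_le (cm g hg b hb), mul_inv_cancel_right])

theorem pair {x : Sylow 2 Y} (sy : H5.IsSylowOf 2 (TT x ⊓ K) K)
    (sy' : H5.IsSylowOf 2 (TT x ⊓ K') K') :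
    Nat.card K = 60 ∧ TT x ⊓ Nor K ≤ K ⊔ Cen K := by
  obtain ⟨v, vx, vK, iv⟩ := exists_inv_TT hs' nc' sy'
  have vm : ∀ k ∈ K, v ∈ TT (k • x) := fun k hk => by
    simpa [h.cm_le (cm k hk v vK)] using conj_mem_smul k vx
  have uq : ∀ k ∈ K, ∀ l ∈ K, ∀ a ∈ K, BS.Inv a → a ∈ TT (k • x) → a ∈ TT (l • x) →
      k • x = l • x := fun k hk l hl a ha i h1 h2 =>
    u2 _ (h.pair_t2 u2 hs nc hs' nc' cm ha vK i iv).1 (h.pair_t2 u2 hs nc hs' nc' cm ha vK i iv).2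
      _ _ (mul_mem h1 (vm k hk)) (mul_mem h2 (vm l hl))
  obtain ⟨a0, a0x, a0K, i0⟩ := exists_inv_TT hs nc sy
  obtain ⟨a, ha, aK, i, ac⟩ := exists_cen_inv' (P := TT x ⊓ Nor K) (N := K) x.isPGroup'.to_inf_left
    inf_le_right ⟨a0x, le_normalizer a0K⟩ a0K i0.1
  obtain ⟨g, hg, g1, g2⟩ := not_iso_sub hs nc aK i
  have bK := mul_mem (mul_mem hg aK) (inv_mem hg)
  have bx : g * a * g⁻¹ ∈ TT x := (memTT _ _).2 ⟨u2.cen_fix
    (h.pair_t2 u2 hs nc hs' nc' cm aK vK i iv).1 (h.pair_t2 u2 hs nc hs' nc' cm aK vK i iv).2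
    (mul_mem ha.1 vx) (by rw [← mul_assoc, ← g1, mul_assoc a, h.cm_le (cm _ bK v vK),
      mul_assoc a]), Two.of_sq (i.conj g).2⟩
  have gx : g • x = x := by
    simpa using uq g hg 1 (one_mem _) _ bK (i.conj g) (conj_mem_smul g ha.1) (by simpa using bx)
  have bc : ∀ s ∈ TT x ⊓ Nor K, g * a * g⁻¹ * s = s * (g * a * g⁻¹) := fun s hs => by
    have := ac (g⁻¹ * s * g⁻¹⁻¹) (mem_inf.mpr ⟨TT_conj (smul_inv_of gx) hs.1, mul_mem (mul_mem
      (inv_mem (le_normalizer hg)) hs.2) (inv_mem (inv_mem (le_normalizer hg)))⟩)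
    calc _ = g * (a * (g⁻¹ * s * g⁻¹⁻¹)) * g⁻¹ := by group
      _ = _ := by rw [this]; group
  have no := h.pair_no u2 hs' nc' cm
  have TS : TT x ⊓ K ≤ TT x ⊓ Nor K := inf_le_inf_left _ le_normalizer
  have all := h.four_of_no (an_of aK bK i (i.conj g) g2.symm g1 no) (P := TT x ⊓ K)
    x.isPGroup'.to_inf_left ⟨ha.1, aK⟩ ⟨bx, bK⟩
    (fun s hs => ⟨(ac s (TS hs)).symm, (bc s (TS hs)).symm⟩) fun d hd _ => no d hd.2
  have c4 := card_four_of (P := TT x ⊓ K) ⟨ha.1, aK⟩ ⟨bx, bK⟩ i (i.conj g) g2.symm g1 all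
  have cen : ∀ t ∈ TT x ⊓ K, t * t = 1 ∧ ∀ s ∈ TT x ⊓ Nor K, t * s = s * t := fun t ht => by
    rcases all t ht with rfl | rfl | rfl | rfl
    · simp
    · exact ⟨i.2, ac⟩
    · exact ⟨(i.conj g).2, bc⟩
    · exact ⟨(i.mul (i.conj g) g2.symm g1).2, fun s hs => by
        rw [mul_assoc, bc s hs, ← mul_assoc, ac s hs, mul_assoc]⟩
  have cen' : ∀ k ∈ K, ∀ t ∈ TT (k • x) ⊓ K, t * t = 1 ∧
      ∀ s ∈ TT (k • x) ⊓ Nor K, t * s = s * t := fun k hk t ht => by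
    obtain ⟨e1, e2⟩ := cen (k⁻¹ * t * k) (mem_inf.mpr ⟨mem_smul.mp ht.1,
      mul_mem (mul_mem (inv_mem hk) ht.2) hk⟩)
    refine ⟨by simpa [mul_assoc] using congrArg (fun u => k * u * k⁻¹) e1, fun s hs => ?_⟩
    have := e2 (k⁻¹ * s * k) (mem_inf.mpr ⟨mem_smul.mp hs.1, mul_mem (mul_mem
      (inv_mem (le_normalizer hk)) hs.2) (le_normalizer hk)⟩)
    simpa [mul_assoc] using congrArg (fun u => k * u * k⁻¹) this
  set Δ : Set (Sylow 2 Y) := {w | ∃ k ∈ K, k • x = w}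
  have xΔ : x ∈ Δ := ⟨1, one_mem _, one_smul _ _⟩
  obtain ⟨k0, hk0, ne0⟩ := SetLike.not_le_iff_exists.mp (QS.not_le_St (qs_of_simple hs nc) x)
  have yΔ : k0 • x ∈ Δ := ⟨k0, hk0, rfl⟩
  have MN : K ⊔ TT x ⊓ Nor K ≤ Nor K := sup_le le_normalizer inf_le_right
  have inv : ∀ g ∈ K ⊔ TT x ⊓ Nor K, ∀ w ∈ Δ, g • w ∈ Δ := by
    rintro g hg _ ⟨k, hk, rfl⟩
    obtain ⟨l, hl, s, hs, rfl⟩ := (mem_sup_of_le_normalizer_left inf_le_right).mp hg
    exact ⟨l * (s * k * s⁻¹), mul_mem hl ((mem_normalizer_iff.mp hs.2 k).mp hk), by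
      simp only [mul_smul, smul_inv_of (TT_fix hs.1)]⟩
  have un : ∀ w ∈ Δ, ∀ w' ∈ Δ, ∀ t ∈ TT w ⊓ K, t • w' = w' → w' = w ∨ t = 1 := by
    rintro _ ⟨k, hk, rfl⟩ _ ⟨l, hl, rfl⟩ t ht e
    exact or_iff_not_imp_right.mpr fun t1 => uq l hl k hk t ht.2 ⟨t1, (cen' k hk t ht).1⟩
      ((memTT _ _).2 ⟨e, TT_two ht.1⟩) ht.1
  have bK : Fixer Y Δ ⊓ K = ⊥ := (simple_sub hs inf_le_right (le_normalizer_inf
    (le_sup_left.trans (nor_Fixer inv)) le_normalizer)).resolve_right fun e =>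
      ne0 ((e.ge hk0).1 x xΔ)
  have zr : ZR (fun w : Sylow 2 Y => TT w ⊓ K) TT 4 (K ⊔ TT x ⊓ Nor K) Δ := by
    refine ⟨inv, fun w _ => inf_le_right.trans le_sup_left, ?_, le_rfl, ?_, fun g hg w _ t ht =>
      ⟨conj_mem_smul g ht.1, (mem_normalizer_iff.mp (MN hg) t).mp ht.2⟩, memTT,
      fun w _ t ht => TT_fix ht.1, ?_, fun w hw w' hw' t ht e =>
        (un w hw w' hw' t ht e).imp_right fun (e : t = 1) => e ▸ one_mem _⟩
    · rintro _ ⟨k, hk, rfl⟩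
      rw [← inf_relIndex_right, eq_bot_iff.mpr ((inf_le_inf_left _ inf_le_right).trans bK.le),
        relIndex_bot_left, ← c4, TT_smul, ← conjS_eq_of_mem hk, ← conjS_inf, card_conjS,
        conjS_eq_of_mem hk]
    · rintro _ ⟨k, hk, rfl⟩ t ht
      rw [(cen' k hk t ht).1]; exact one_mem _
    · rintro _ ⟨k, hk, rfl⟩ t ht s hs sM
      rw [(cen' k hk t ht).2 s ⟨hs, MN sM⟩, inv_mul_cancel]; exact one_mem _
  obtain ⟨l, tr, -⟩ := zr.main yΔ xΔ ne0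
  replace tr : ∀ w ∈ Δ, w ≠ x → ∃ s ∈ TT x ⊓ K, s • k0 • x = w := fun w hw e => by
    obtain ⟨s, s1, s2, s3⟩ := tr x xΔ _ yΔ w hw ne0 e
    exact ⟨s, ⟨s1, (iSup₂_le fun _ _ => inf_le_right : (⨆ w ∈ Δ, TT w ⊓ K) ≤ K) s2⟩, s3⟩
  constructor
  · have d1 := relIndex_Fixer_dvd (M := K) fun g hg => inv g (mem_sup_left hg)
    rw [← inf_relIndex_right, bK, relIndex_bot_left] at d1
    have c5 : Δ.ncard ≤ 5 := by
      have e := card_eq_orbit_mul (TT x ⊓ K) (k0 • x)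
      have e2 : Δ \ {x} ⊆ {w | ∃ s ∈ TT x ⊓ K, s • k0 • x = w} := fun w hw => tr w hw.1 hw.2
      have e3 := Set.ncard_le_ncard e2
      rw [Set.ncard_sdiff_singleton_of_mem xΔ] at e3
      have := Nat.le_of_dvd (by omega) (Dvd.intro _ e.symm)
      omega
    have d2 := (Nat.le_of_dvd (Nat.factorial_pos _) d1).trans (Nat.factorial_le c5)
    obtain ⟨F, _, _, f1, f2, ⟨φ⟩⟩ := W.l2_four nc (T := (TT x ⊓ K).subgroupOf K)
      ⟨subgroupOf_self K ▸ sy.subgroupOf le_rfl, H5.isMulCommutative_of_forall fun a ha b hb =>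
        Subtype.ext ((cen a ha).2 b (TS hb))⟩
      (by rw [Nat.card_congr (subgroupOfEquivOfLe inf_le_right).toEquiv, c4])
    have cN := GW.card_psl (F := F) (by rw [Nat.odd_iff]; omega)
    rw [← Nat.card_congr φ.toEquiv] at cN
    have : Fintype.card F < 7 := by
      by_contra hn
      have : 7 * 48 ≤ 2 * Nat.card K := by
        rw [cN]; exact Nat.mul_le_mul (by omega) (by
          have := Nat.pow_le_pow_left (not_lt.mp hn) 2; omega)
      norm_num [Nat.factorial] at d2; omega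
    have : Fintype.card F = 5 := by omega
    rw [this] at cN; omega
  · intro s hs
    have sM : s ∈ K ⊔ TT x ⊓ Nor K := mem_sup_right hs
    obtain ⟨t, ht, e⟩ := tr _ (inv s sM _ yΔ) fun e => ne0 (MulAction.injective s
      (e.trans (TT_fix hs.1).symm))
    have m : t⁻¹ * s ∈ TT x := mul_mem (inv_mem (mem_inf.mp ht).1) (mem_inf.mp hs).1
    have m' := mul_mem (inv_mem (mem_sup_left (ht.2 : t ∈ K))) sM
    have fx := l.s1 _ m' (TT_two m) x xΔ _ yΔ (Ne.symm ne0) (TT_fix m)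
      (by rw [mul_smul, ← e, inv_smul_smul])
    refine (mul_mem_cancel_left (inv_mem (mem_sup_left (ht.2 : t ∈ K)))).mp (mem_sup_right
      (cen_iff.mpr fun k hk => comm_of_disj (A := Fixer Y Δ ⊓ (K ⊔ TT x ⊓ Nor K))
        (inf_le_right.trans MN) (le_normalizer_inf (le_sup_left.trans (nor_Fixer inv))
          (le_sup_left.trans le_normalizer))
        (eq_bot_iff.mpr ((inf_le_inf_right _ inf_le_left).trans bK.le)) ⟨fx, m'⟩ hk))

end Two

end DC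

end Hz
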