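import Cfsg.Agent.BS.SE2

/-! Groups acting on a set with a family of elementary abelian 2-subgroups `A x` whose
nonidentity elements fix only the point `x`: basic facts. -/

set_option autoImplicit false

namespace Hz

open Cfsg Subgroup FT H4 BS

section Two

variable {G : Type*} [Group G]

/-- a 2-element -/
def Two (g : G) : Prop := ∃ k : ℕ, g ^ 2 ^ k = 1

theorem Two.of_sq {g : G} (h : g * g = 1) : Two g := ⟨1, by rw [pow_one, pow_two, h]⟩

theorem Two.one : Two (1 : G) := ⟨0, one_pow _⟩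

theorem Two.pow {g : G} (h : Two g) (n : ℕ) : Two (g ^ n) := by
  obtain ⟨k, hk⟩ := h
  exact ⟨k, by rw [← pow_mul, mul_comm, pow_mul, hk, one_pow]⟩

theorem Two.conj {g : G} (h : Two g) (x : G) : Two (x * g * x⁻¹) := by
  obtain ⟨k, hk⟩ := h
  exact ⟨k, by rw [conj_pow, hk]; group⟩

theorem Two.map {X : Type*} [Group X] (f : G →* X) {g : G} (h : Two g) : Two (f g) := by
  obtain ⟨k, hk⟩ := h
  exact ⟨k, by rw [← map_pow, hk, map_one]⟩

theorem Two.of_inj {X : Type*} [Group X] {f : G →* X} (hf : Function.Injective f) {g : G}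
    (h : Two (f g)) : Two g := by
  obtain ⟨k, hk⟩ := h
  exact ⟨k, hf (by rw [map_pow, hk, map_one])⟩

theorem two_coe {M : Subgroup G} {g : M} : Two (g : G) ↔ Two g :=
  ⟨fun h => Two.of_inj M.subtype_injective h, fun h => h.map M.subtype⟩

theorem Two.eq_one {g : G} (h : Two g) (ho : Odd (orderOf g)) : g = 1 := by
  obtain ⟨k, hk⟩ := h
  have h1 := orderOf_dvd_of_pow_eq_one hk
  obtain ⟨j, -, hj⟩ := (Nat.dvd_prime_pow Nat.prime_two).mp h1
  rcases j with _ | j
  · exact orderOf_eq_one_iff.mp (by simpa using hj)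
  · rw [hj, pow_succ] at ho
    exact absurd ho (by simp)

theorem Two.exists_inv {g : G} (h : Two g) (h1 : g ≠ 1) : ∃ k : ℕ, Inv (g ^ k) := by
  obtain ⟨k, hk⟩ := h
  induction k with
  | zero => exact absurd (by simpa using hk) h1
  | succ k ih =>
    by_cases h2 : g ^ 2 ^ k = 1
    · exact ih h2
    · exact ⟨2 ^ k, h2, by rw [← pow_add, ← two_mul, ← pow_succ', hk]⟩

theorem isPGroup_of_two {P : Subgroup G} (h : ∀ g ∈ P, Two g) : IsPGroup 2 P := fun g => by
  obtain ⟨k, hk⟩ := h g g.2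
  exact ⟨k, Subtype.ext (by simpa using hk)⟩

theorem two_of_isPGroup {P : Subgroup G} (h : IsPGroup 2 P) {g : G} (hg : g ∈ P) : Two g := by
  obtain ⟨k, hk⟩ := h ⟨g, hg⟩
  exact ⟨k, by simpa using congrArg Subtype.val hk⟩

/-- the 2-part of an element, acting as the element modulo any `2^k` -/
theorem exists_two_part [Finite G] (g : G) (k : ℕ) :
    ∃ e j : ℕ, Two (g ^ e) ∧ e = 1 + j * 2 ^ k := by
  obtain ⟨a, m, hm, e⟩ := Nat.exists_eq_two_pow_mul_odd (orderOf_pos g).ne'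
  have hc : Nat.Coprime m (2 ^ (k + 1)) := (Nat.coprime_two_right.mpr hm).pow_right _
  have h1 := Nat.ModEq.pow_totient hc
  have hp : 0 < Nat.totient (2 ^ (k + 1)) := Nat.totient_pos.mpr (by positivity)
  obtain ⟨s, hs⟩ : ∃ s, Nat.totient (2 ^ (k + 1)) = s + 1 := ⟨_, (Nat.succ_pred_eq_of_pos hp).symm⟩
  have h2 : 1 ≤ m ^ Nat.totient (2 ^ (k + 1)) := Nat.one_le_pow _ _ hm.pos
  obtain ⟨j, hj⟩ := (Nat.modEq_iff_dvd' h2).mp h1.symm
  refine ⟨m ^ Nat.totient (2 ^ (k + 1)), 2 * j, ⟨a, ?_⟩, ?_⟩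
  · rw [← pow_mul, ← orderOf_dvd_iff_pow_eq_one, e, hs, pow_succ]
    exact ⟨m ^ s, by ring⟩
  · rw [pow_succ] at hj
    have : m ^ Nat.totient (2 ^ k * 2) = 1 + 2 ^ k * 2 * j := by rw [pow_succ] at h2; omega
    rw [pow_succ, this]; ring

theorem exists_two_lift [Finite G] {X : Type*} [Group X] (f : G →* X) {g : G} (h : Two (f g)) :
    ∃ e : ℕ, Two (g ^ e) ∧ f (g ^ e) = f g := by
  obtain ⟨k, hk⟩ := h
  obtain ⟨e, j, h1, h2⟩ := exists_two_part g k
  refine ⟨e, h1, ?_⟩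
  rw [map_pow, h2, pow_add, pow_one, mul_comm j, pow_mul, hk, one_pow, mul_one]

theorem pow_comm_of {g x : G} (h : g * x = x * g) (n : ℕ) : g ^ n * x = x * g ^ n :=
  (Commute.pow_left h n).eq

theorem smul_pow_of {Ω : Type*} [MulAction G Ω] {g : G} {x : Ω} (h : g • x = x) (n : ℕ) :
    g ^ n • x = x := pow_mem (S := MulAction.stabilizer G x) h n

theorem smul_inv_of {Ω : Type*} [MulAction G Ω] {g : G} {x : Ω} (h : g • x = x) :
    g⁻¹ • x = x := by rw [inv_smul_eq_iff, h]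

/-- double counting -/
theorem ncard_dc {α β : Type*} [Finite α] [Finite β] (s : Set α) (t : Set β) (r : α → β → Prop)
    {m n : ℕ} (hm : ∀ a ∈ s, {b | b ∈ t ∧ r a b}.ncard = m)
    (hn : ∀ b ∈ t, {a | a ∈ s ∧ r a b}.ncard = n) : s.ncard * m = t.ncard * n := by
  classical
  have := Finset.card_mul_eq_card_mul (s := (Set.toFinite s).toFinset)
    (t := (Set.toFinite t).toFinset) r (m := m) (n := n) (fun a ha => by
      rw [← hm a (by simpa using ha), ← Set.ncard_coe_finset]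
      congr 1; ext b; simp [Finset.bipartiteAbove]) (fun b hb => by
      rw [← hn b (by simpa using hb), ← Set.ncard_coe_finset]
      congr 1; ext a; simp [Finset.bipartiteBelow])
  rwa [← Set.ncard_eq_toFinset_card, ← Set.ncard_eq_toFinset_card] at this

theorem ncard_dc_le {α β : Type*} [Finite α] [Finite β] (s : Set α) (t : Set β)
    (r : α → β → Prop) {m n : ℕ} (hm : ∀ a ∈ s, m ≤ {b | b ∈ t ∧ r a b}.ncard)
    (hn : ∀ b ∈ t, {a | a ∈ s ∧ r a b}.ncard ≤ n) : s.ncard * m ≤ t.ncard * n := by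
  classical
  have := Finset.card_mul_le_card_mul (s := (Set.toFinite s).toFinset)
    (t := (Set.toFinite t).toFinset) r (m := m) (n := n) (fun a ha => by
      refine (hm a (by simpa using ha)).trans (le_of_eq ?_)
      rw [← Set.ncard_coe_finset]
      congr 1; ext b; simp [Finset.bipartiteAbove]) (fun b hb => by
      refine le_trans (le_of_eq ?_) (hn b (by simpa using hb))
      rw [← Set.ncard_coe_finset]
      congr 1; ext a; simp [Finset.bipartiteBelow])
  rwa [← Set.ncard_eq_toFinset_card, ← Set.ncard_eq_toFinset_card] at this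

theorem ncard_sharp [Finite G] (P : Subgroup G) :
    {a : G | a ∈ P ∧ a ≠ 1}.ncard = Nat.card P - 1 := by
  have : {a : G | a ∈ P ∧ a ≠ 1} = (P : Set G) \ {1} := by ext; simp
  rw [this, Set.ncard_sdiff_singleton_of_mem (by simp), ← Nat.card_coe_set_eq]
  rfl

end Two

variable {G : Type*} [Group G] {Ω : Type*} [MulAction G Ω]

/-- the hypothesis: `T x` is the group of 2-elements fixing `x`, it centralizes the elementary
abelian group `A x`, whose nonidentity elements fix only `x` -/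
structure ZD (A T : Ω → Subgroup G) (q : ℕ) : Prop where
  card : ∀ x, Nat.card (A x) = q
  four : 4 ≤ q
  sq : ∀ x, ∀ a ∈ A x, a * a = 1
  conj : ∀ (g : G) x, ∀ a ∈ A x, g * a * g⁻¹ ∈ A (g • x)
  memT : ∀ x g, g ∈ T x ↔ g • x = x ∧ Two g
  fix : ∀ x, ∀ a ∈ A x, a • x = x
  cen : ∀ x, ∀ a ∈ A x, ∀ g ∈ T x, a * g = g * a
  uniq : ∀ x y, ∀ a ∈ A x, a ≠ 1 → a • y = y → y = x

/-- the class `D` -/
def InD (A : Ω → Subgroup G) (a : G) : Prop := ∃ x, a ∈ A x ∧ a ≠ 1

/-- involutions outside `D` -/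
def Out (A : Ω → Subgroup G) (t : G) : Prop := Inv t ∧ ¬ InD A t

/-- faithful action -/
def Faith (G : Type*) [Group G] (Ω : Type*) [MulAction G Ω] : Prop :=
  ∀ g : G, (∀ x : Ω, g • x = x) → g = 1

namespace ZD

variable {A T : Ω → Subgroup G} {q : ℕ} (h : ZD A T q)
include h

theorem A_le (x : Ω) : A x ≤ T x := fun a ha =>
  (h.memT x a).2 ⟨h.fix x a ha, Two.of_sq (h.sq x a ha)⟩

theorem T_fix {x : Ω} {g : G} (hg : g ∈ T x) : g • x = x := ((h.memT x g).1 hg).1

theorem T_two {x : Ω} {g : G} (hg : g ∈ T x) : Two g := ((h.memT x g).1 hg).2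

theorem T_of_sq {x : Ω} {g : G} (hg : g • x = x) (h2 : g * g = 1) : g ∈ T x :=
  (h.memT x g).2 ⟨hg, Two.of_sq h2⟩

theorem T_pgroup (x : Ω) : IsPGroup 2 (T x) := isPGroup_of_two fun _ hg => h.T_two hg

theorem T_conj (g : G) {x : Ω} {y : G} (hy : y ∈ T x) : g * y * g⁻¹ ∈ T (g • x) :=
  (h.memT _ _).2 ⟨conj_smul (h.T_fix hy), (h.T_two hy).conj g⟩

theorem T_conj' {g : G} {x : Ω} (hg : g • x = x) {y : G} (hy : y ∈ T x) :
    g * y * g⁻¹ ∈ T x := by
  have := h.T_conj g hy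
  rwa [hg] at this

theorem conj' {g : G} {x : Ω} (hg : g • x = x) {a : G} (ha : a ∈ A x) :
    g * a * g⁻¹ ∈ A x := by
  have := h.conj g x a ha
  rwa [hg] at this

theorem comm {x : Ω} {a b : G} (ha : a ∈ A x) (hb : b ∈ A x) : a * b = b * a :=
  h.cen x a ha b (h.A_le x hb)

theorem A_inv {x : Ω} {a : G} (ha : a ∈ A x) : a⁻¹ = a := inv_eq_self_of_sq (h.sq x a ha)

theorem inv_of {x : Ω} {a : G} (ha : a ∈ A x) (h1 : a ≠ 1) : Inv a := ⟨h1, h.sq x a ha⟩

theorem D_inv {a : G} (ha : InD A a) : Inv a := by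
  obtain ⟨x, h1, h2⟩ := ha
  exact h.inv_of h1 h2

theorem D_conj {a : G} (ha : InD A a) (g : G) : InD A (g * a * g⁻¹) := by
  obtain ⟨x, h1, h2⟩ := ha
  exact ⟨_, h.conj g x a h1, fun e => h2 (by simpa using e)⟩

theorem Out_conj {t : G} (ht : Out A t) (g : G) : Out A (g * t * g⁻¹) :=
  ⟨ht.1.conj g, fun e => ht.2 (by simpa [mul_assoc] using h.D_conj e g⁻¹)⟩

theorem mem_A {a : G} (ha : InD A a) {x : Ω} (hx : a • x = x) : a ∈ A x := by
  obtain ⟨y, h1, h2⟩ := ha
  rw [h.uniq y x a h1 h2 hx]; exact h1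

theorem cen_fix {x : Ω} {a g : G} (ha : a ∈ A x) (h1 : a ≠ 1) (hc : g * a = a * g) :
    g • x = x :=
  h.uniq x _ a ha h1 (by rw [← mul_smul, ← hc, mul_smul, h.fix x a ha])

theorem exists_ne [Finite G] (x : Ω) (a b : G) : ∃ c ∈ A x, c ≠ 1 ∧ c ≠ a ∧ c ≠ b := by
  by_contra hc
  push Not at hc
  have h1 : (A x : Set G) ⊆ {1, a, b} := fun c hx => by
    by_cases h1 : c = 1
    · simp [h1]
    by_cases h2 : c = a
    · simp [h2]
    simp [hc c hx h1 h2]
  have h2 := Set.ncard_le_ncard h1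
  have h3 : ({1, a, b} : Set G).ncard ≤ 3 :=
    (Set.ncard_insert_le _ _).trans (Nat.succ_le_succ ((Set.ncard_insert_le _ _).trans (by simp)))
  have h4 : (A x : Set G).ncard = q := by rw [← h.card x, ← Nat.card_coe_set_eq]; rfl
  have := h.four
  omega

theorem exists_A [Finite G] (x : Ω) : ∃ c ∈ A x, c ≠ 1 := by
  obtain ⟨c, h1, h2, -⟩ := h.exists_ne x 1 1
  exact ⟨c, h1, h2⟩

theorem ncard_A [Finite G] (x : Ω) : {a : G | a ∈ A x ∧ a ≠ 1}.ncard = q - 1 := by
  rw [ncard_sharp, h.card]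

theorem Out_mul {t a : G} (ht : Out A t) {x : Ω} (hx : t • x = x) (ha : a ∈ A x) :
    Out A (t * a) := by
  have hc := h.cen x a ha t (h.T_of_sq hx ht.1.2)
  have key : t * a ∉ A x := fun e => ht.2 ⟨x, by simpa using mul_mem e (inv_mem ha), ht.1.1⟩
  refine ⟨⟨fun e => key (e ▸ one_mem _), ?_⟩, fun e => key (h.mem_A e ?_)⟩
  · calc t * a * (t * a) = t * (a * t) * a := by group
      _ = (t * t) * (a * a) := by rw [hc]; group
      _ = 1 := by rw [ht.1.2, h.sq x a ha, one_mul]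
  · rw [mul_smul, h.fix x a ha, hx]

variable [Finite G]

theorem odd_mul {x y : Ω} {a b : G} (ha : a ∈ A x) (ha1 : a ≠ 1) (hb : b ∈ A y) (hb1 : b ≠ 1)
    (hne : x ≠ y) : Odd (orderOf (a * b)) := by
  by_contra he
  have ha2 := h.sq x a ha
  have hb2 := h.sq y b hb
  obtain ⟨n, h1, h2, h3, h4⟩ := exists_central_inv ha2 hb2 he
  have hx := h.cen_fix ha ha1 h3
  have hy := h.cen_fix hb hb1 h4
  have hab : a * (a * b) * a = (a * b)⁻¹ := by
    rw [← mul_assoc, ha2, one_mul, mul_inv_rev, h.A_inv ha, h.A_inv hb]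
  have e0 : ∀ m : ℕ, a * ((a * b) ^ m)⁻¹ = (a * b) ^ m * a := fun m => by
    rw [← inv_conj_pow ha2 hab m, ← mul_assoc, ← mul_assoc, ha2, one_mul]
  have hD : InD A ((a * b) ^ n * a) := by
    obtain ⟨m, hm | hm⟩ := Nat.even_or_odd' n
    · have := h.D_conj ⟨x, ha, ha1⟩ ((a * b) ^ m)
      rwa [mul_assoc, e0, ← mul_assoc, ← pow_add, ← two_mul, ← hm] at this
    · have := h.D_conj ⟨y, hb, hb1⟩ ((a * b) ^ (m + 1))
      have e1 : b * ((a * b) ^ (m + 1))⁻¹ = a * ((a * b) ^ m)⁻¹ := by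
        rw [pow_succ, mul_inv_rev, mul_inv_rev, h.A_inv ha, h.A_inv hb, ← mul_assoc, ← mul_assoc,
          hb2, one_mul]
      rwa [mul_assoc, e1, e0, ← mul_assoc, ← pow_add, show m + 1 + m = n by omega] at this
  have h5 := h.mem_A hD (x := x) (by rw [mul_smul, h.fix x a ha, hx])
  have h6 : (a * b) ^ n ∈ A x := by simpa using mul_mem h5 (inv_mem ha)
  exact hne (h.uniq x y _ h6 h1 hy).symm

theorem exists_swap {x y : Ω} {a b : G} (ha : a ∈ A x) (ha1 : a ≠ 1) (hb : b ∈ A y) (hb1 : b ≠ 1)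
    (hne : x ≠ y) : ∃ c, InD A c ∧ c • x = y ∧ c * a * c = b ∧ ∃ n : ℕ, c = (b * a) ^ n * a := by
  have ha2 := h.sq x a ha
  have hb2 := h.sq y b hb
  have ho := h.odd_mul hb hb1 ha ha1 hne.symm
  obtain ⟨n, h1, h2, -⟩ := BS.exists_swap ha2 hb2 ho
  have hab : a * (b * a) * a = (b * a)⁻¹ := by
    rw [mul_assoc, mul_assoc, ha2, mul_one, mul_inv_rev, h.A_inv ha, h.A_inv hb]
  have e0 : ∀ m : ℕ, a * ((b * a) ^ m)⁻¹ = (b * a) ^ m * a := fun m => by
    rw [← inv_conj_pow ha2 hab m, ← mul_assoc, ← mul_assoc, ha2, one_mul]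
  have hD : InD A ((b * a) ^ n * a) := by
    obtain ⟨j, hj⟩ := exists_sqrt (ho.of_dvd_nat (orderOf_pow_dvd n) : Odd (orderOf ((b * a) ^ n)))
    have := h.D_conj ⟨x, ha, ha1⟩ ((b * a) ^ (n * j))
    rwa [mul_assoc, e0, ← mul_assoc, pow_mul, hj] at this
  refine ⟨_, hD, ?_, h2, n, rfl⟩
  have h3 := h.conj ((b * a) ^ n * a) x a ha
  rw [inv_eq_self_of_sq h1, h2] at h3
  exact h.uniq _ _ b h3 hb1 (h.fix y b hb) |>.symm

omit [Finite G] in
theorem D_swap {c : G} (hc : InD A c) {x y : Ω} (e : c • x = y) : c • y = x := by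
  rw [← e, (h.D_inv hc).smul_smul]

omit [Finite G] in
theorem D_conj_mem {c a : G} (hc : InD A c) {x y : Ω} (e : c • x = y) (ha : a ∈ A x) :
    c * a * c ∈ A y := by
  have := h.conj c x a ha
  rwa [(h.D_inv hc).inv, e] at this

omit [Finite G] in
theorem D_eq_of_comm {c c' : G} (hc : InD A c) (hc' : InD A c') (e : c * c' = c' * c) {x : Ω}
    (h1 : c • x = c' • x) (h2 : c • x ≠ x) : c = c' := by
  obtain ⟨z, hz, hz1⟩ := id hc
  have h3 := h.mem_A hc' (h.cen_fix hz hz1 e.symm)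
  by_contra hne
  have h4 : c * c' ≠ 1 := fun e => hne (by
    rw [← (h.D_inv hc).inv]; exact (eq_inv_of_mul_eq_one_right e).symm)
  have h5 := h.uniq z x _ (mul_mem hz h3) h4 (by rw [mul_smul, ← h1, (h.D_inv hc).smul_smul])
  exact h2 (h5 ▸ h.fix z c hz)

theorem swap_uniq {x y : Ω} {a c c' : G} (ha : a ∈ A x) (ha1 : a ≠ 1) (hne : x ≠ y)
    (hc : InD A c) (hc' : InD A c') (e : c • x = y) (e' : c' • x = y)
    (hh : c * a * c = c' * a * c') : c = c' := by
  have hb := h.D_conj_mem hc e ha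
  have hb1 : c * a * c ≠ 1 := ((h.inv_of ha ha1).conj' (h.D_inv hc).2).1
  obtain ⟨c0, h0, e0, h1, n, hn⟩ := h.exists_swap ha ha1 hb hb1 hne
  have key : ∀ d, InD A d → d • x = y → d * a * d = c * a * c → d = c0 := by
    intro d hd ed hda
    generalize c * a * c = b at *
    have d2 := (h.D_inv hd).2
    have c2 := (h.D_inv h0).2
    have k1 : d * b * d = a := by
      rw [← hda]; calc d * (d * a * d) * d = (d * d) * a * (d * d) := by group
        _ = a := by rw [d2]; group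
    have k2 : c0 * b * c0 = a := by
      rw [← h1]; calc c0 * (c0 * a * c0) * c0 = (c0 * c0) * a * (c0 * c0) := by group
        _ = a := by rw [c2]; group
    have m1 : Commute (d * c0) a := by
      show d * c0 * a = a * (d * c0)
      calc d * c0 * a = d * (c0 * a * c0) * (d * d) * c0⁻¹ := by rw [d2]; group
        _ = a * (d * c0) := by rw [h1, (h.D_inv h0).inv, ← k1]; group
    have m2 : Commute (d * c0) b := by
      show d * c0 * b = b * (d * c0)
      calc d * c0 * b = d * (c0 * b * c0) * (d * d) * c0⁻¹ := by rw [d2]; group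
        _ = b * (d * c0) := by rw [k2, (h.D_inv h0).inv, ← hda]; group
    have m3 : Commute (d * c0) c0 := by
      have := ((m2.mul_right m1).pow_right n).mul_right m1
      rwa [← hn] at this
    refine h.D_eq_of_comm hd h0 ?_ (x := x) (ed.trans e0.symm) (by rw [ed]; exact hne.symm)
    calc d * c0 = c0 * (c0 * (d * c0)) := by rw [← mul_assoc, c2, one_mul]
      _ = c0 * d := by rw [← m3.eq, mul_assoc, c2, mul_one]
  rw [key c hc e rfl, key c' hc' e' hh.symm]

/-- an element centralizing `a` and `c a c` centralizes `c` -/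
theorem swap_cen {x y : Ω} {a c g : G} (ha : a ∈ A x) (ha1 : a ≠ 1) (hne : x ≠ y)
    (hc : InD A c) (e : c • x = y) (h1 : g * a = a * g)
    (h2 : g * (c * a * c) = (c * a * c) * g) : g * c = c * g := by
  have hx := h.cen_fix ha ha1 h1
  have hy := h.cen_fix (h.D_conj_mem hc e ha) ((h.inv_of ha ha1).conj' (h.D_inv hc).2).1 h2
  have := h.swap_uniq ha ha1 hne (h.D_conj hc g) hc
    (by rw [mul_smul, mul_smul, smul_inv_of hx, e, hy]) e (by
      calc g * c * g⁻¹ * a * (g * c * g⁻¹) = g * c * (g⁻¹ * (a * g)) * c * g⁻¹ := by group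
        _ = g * (c * a * c) * g⁻¹ := by rw [← h1]; group
        _ = c * a * c := by rw [h2]; group)
  calc g * c = g * c * g⁻¹ * g := by group
    _ = c * g := by rw [this]

theorem swap_cen' {x y : Ω} {c g : G} (hne : x ≠ y) (hc : InD A c) (e : c • x = y)
    (h1 : ∀ a ∈ A x, g * a = a * g) (h2 : ∀ a ∈ A y, g * a = a * g) : g * c = c * g := by
  obtain ⟨a, ha, ha1⟩ := h.exists_A x
  exact h.swap_cen ha ha1 hne hc e (h1 a ha) (h2 _ (h.D_conj_mem hc e ha))

theorem swap_cenT {x y : Ω} {c g : G} (hne : x ≠ y) (hc : InD A c) (e : c • x = y)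
    (h1 : g ∈ T x) (h2 : g ∈ T y) : g * c = c * g :=
  h.swap_cen' hne hc e (fun a ha => (h.cen x a ha g h1).symm) fun a ha => (h.cen y a ha g h2).symm

theorem exists_swap' {x y : Ω} (hne : x ≠ y) : ∃ c, InD A c ∧ c • x = y := by
  obtain ⟨a, ha, ha1⟩ := h.exists_A x
  obtain ⟨b, hb, hb1⟩ := h.exists_A y
  obtain ⟨c, h1, h2, -⟩ := h.exists_swap ha ha1 hb hb1 hne
  exact ⟨c, h1, h2⟩

/-- the products of two elements of `D` swapping `x` and `y` are transitive on `A x^#` -/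
theorem exists_K {x y : Ω} (hne : x ≠ y) {c : G} (hc : InD A c) (e : c • x = y) {a a' : G}
    (ha : a ∈ A x) (ha1 : a ≠ 1) (ha' : a' ∈ A x) (ha1' : a' ≠ 1) :
    ∃ c', InD A c' ∧ c' • x = y ∧ c * c' * a * (c * c')⁻¹ = a' := by
  have hb := h.D_conj_mem hc e ha'
  have hb1 : c * a' * c ≠ 1 := ((h.inv_of ha' ha1').conj' (h.D_inv hc).2).1
  obtain ⟨c', h1, h2, h3, -⟩ := h.exists_swap ha ha1 hb hb1 hne
  refine ⟨c', h1, h2, ?_⟩
  rw [mul_inv_rev, (h.D_inv hc).inv, (h.D_inv h1).inv]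
  calc c * c' * a * (c' * c) = c * (c' * a * c') * c := by group
    _ = (c * c) * a' * (c * c) := by rw [h3]; group
    _ = a' := by rw [(h.D_inv hc).2]; group

omit [Finite G] in
theorem K_fix {x y : Ω} {c c' : G} (hc : InD A c) (e : c • x = y) (e' : c' • x = y) :
    (c * c') • x = x := by rw [mul_smul, e', h.D_swap hc e]

omit [Finite G] in
theorem K_fix' {x y : Ω} {c c' : G} (hc' : InD A c') (e : c • x = y) (e' : c' • x = y) :
    (c * c') • y = y := by rw [mul_smul, h.D_swap hc' e', e]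

/-- the number of elements of `D` mapping `x` to `y` -/
theorem ncard_swap {x y : Ω} (hne : x ≠ y) : {c : G | InD A c ∧ c • x = y}.ncard = q - 1 := by
  obtain ⟨a, ha, ha1⟩ := h.exists_A x
  rw [← h.ncard_A y]
  refine Set.ncard_congr (fun c _ => c * a * c) (fun c hc => ⟨h.D_conj_mem hc.1 hc.2 ha,
    ((h.inv_of ha ha1).conj' (h.D_inv hc.1).2).1⟩)
    (fun c c' hc hc' e => h.swap_uniq ha ha1 hne hc.1 hc'.1 hc.2 hc'.2 e) fun b hb => ?_
  obtain ⟨c, h1, h2, h3, -⟩ := h.exists_swap ha ha1 hb.1 hb.2 hne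
  exact ⟨c, ⟨h1, h2⟩, h3⟩

/-- two elements of `D` fixing points of `F(t)` are conjugate under `C(t)` -/
theorem conj_cen {t : G} (ht : Two t) {x y z : Ω} (hx : t • x = x) (hy : t • y = y)
    (hne : x ≠ y) (hz : t • z = z) {a b : G} (ha : a ∈ A x) (ha1 : a ≠ 1) (hb : b ∈ A z)
    (hb1 : b ≠ 1) : ∃ g, g * t = t * g ∧ g * a * g⁻¹ = b := by
  have tx := (h.memT x t).2 ⟨hx, ht⟩
  have ty := (h.memT y t).2 ⟨hy, ht⟩
  by_cases hz' : x = z
  · subst hz'
    obtain ⟨c, hc, e⟩ := h.exists_swap' hne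
    obtain ⟨c', hc', e', h1⟩ := h.exists_K hne hc e ha ha1 hb hb1
    refine ⟨c * c', ?_, h1⟩
    rw [mul_assoc, ← h.swap_cenT hne hc' e' tx ty, ← mul_assoc, ← h.swap_cenT hne hc e tx ty,
      mul_assoc]
  · obtain ⟨c, hc, e, h1, -⟩ := h.exists_swap ha ha1 hb hb1 hz'
    exact ⟨c, (h.swap_cenT hz' hc e tx ((h.memT z t).2 ⟨hz, ht⟩)).symm,
      by rw [(h.D_inv hc).inv, h1]⟩

/-- a point moved by the involution `t` is fixed by `t c` for a unique `c ∈ D ∩ C(t)` -/
theorem exists_comp {t : G} (ht : t * t = 1) {w : Ω} (hw : t • w ≠ w) :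
    ∃ c, InD A c ∧ c * t = t * c ∧ c • w = t • w := by
  obtain ⟨a, ha, ha1⟩ := h.exists_A w
  have ti := inv_eq_self_of_sq ht
  have hb := h.conj t w a ha
  rw [ti] at hb
  obtain ⟨c, hc, e, h1, -⟩ := h.exists_swap ha ha1 hb ((h.inv_of ha ha1).conj' ht).1 hw.symm
  have c2 := (h.D_inv hc).2
  have hd := h.D_conj hc t
  rw [ti] at hd
  have := h.swap_uniq ha ha1 hw.symm hd hc (by rw [mul_smul, mul_smul, h.D_swap hc e]) e (by
    calc t * c * t * a * (t * c * t) = t * c * (t * a * t) * c * t := by group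
      _ = t * (c * c) * a * (c * c) * t := by rw [← h1]; group
      _ = c * a * c := by rw [c2, h1]; group)
  refine ⟨c, hc, ?_, e⟩
  calc c * t = t * c * t * t := by rw [this]
    _ = t * c := by rw [mul_assoc, ht, mul_one]

theorem comp_uniq {t : G} (ht : t * t = 1) {w : Ω} (hw : t • w ≠ w) {c c' : G} (hc : InD A c)
    (h1 : c * t = t * c) (h2 : c • w = t • w) (hc' : InD A c') (h1' : c' * t = t * c')
    (h2' : c' • w = t • w) : c = c' := by
  obtain ⟨a, ha, ha1⟩ := h.exists_A w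
  have key : ∀ d, InD A d → d * t = t * d → d • w = t • w → d * a * d = t * a * t := by
    intro d hd k1 k2
    have d2 := (h.D_inv hd).2
    have k3 : t * d ∈ T w := h.T_of_sq (by rw [mul_smul, k2, ← mul_smul, ht, one_smul]) (by
      calc t * d * (t * d) = t * (d * t) * d := by group
        _ = (t * t) * (d * d) := by rw [k1]; group
        _ = 1 := by rw [ht, d2, one_mul])
    have k4 := h.cen w a ha _ k3
    calc d * a * d = (t * t) * d * a * d := by rw [ht, one_mul]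
      _ = t * (t * d * a) * d := by group
      _ = t * a * t * (d * d) := by rw [← k4]; group
      _ = t * a * t := by rw [d2, mul_one]
  exact h.swap_uniq ha ha1 hw.symm hc hc' h2 h2' ((key c hc h1 h2).trans (key c' hc' h1' h2').symm)

end ZD

end Hz
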