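import Cfsg.Agent.Hz.Z1

/-! The involutions outside `D`: fusion and the count of the points. -/

set_option autoImplicit false

namespace Hz

open Cfsg Subgroup FT H4 BS

variable {G : Type*} [Group G] {Ω : Type*} [MulAction G Ω]

/-- fixed points -/
def Fx (Ω : Type*) {G : Type*} [Group G] [MulAction G Ω] (t : G) : Set Ω := {x | t • x = x}

theorem mem_Fx {t : G} {x : Ω} : x ∈ Fx Ω t ↔ t • x = x := Iff.rfl

theorem ncard_Fx_conj (g t : G) : (Fx Ω (g * t * g⁻¹)).ncard = (Fx Ω t).ncard := by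
  have : Fx Ω (g * t * g⁻¹) = (fun x => g • x) '' Fx Ω t := by
    ext x
    constructor
    · intro hx
      refine ⟨g⁻¹ • x, ?_, smul_inv_smul g x⟩
      rw [mem_Fx, mul_smul, mul_smul, ← eq_inv_smul_iff] at hx
      exact hx
    · rintro ⟨y, hy, rfl⟩
      exact conj_smul hy
  rw [this, Set.ncard_image_of_injective _ (MulAction.injective g)]

theorem cen_smul {g t : G} {x : Ω} (hc : g * t = t * g) (hx : t • x = x) : t • g • x = g • x := by
  rw [← mul_smul, ← hc, mul_smul, hx]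

theorem mono_aux {c a b : ℕ} (h : (a + 1) * (1 + c * a) = (b + 1) * (1 + c * b)) : a = b := by
  rcases lt_trichotomy a b with h1 | h1 | h1
  · exact absurd h (Nat.mul_lt_mul_of_lt_of_le (by omega)
      (Nat.add_le_add_left (Nat.mul_le_mul_left _ h1.le) _) (by positivity)).ne
  · exact h1
  · exact absurd h (Nat.mul_lt_mul_of_lt_of_le (by omega)
      (Nat.add_le_add_left (Nat.mul_le_mul_left _ h1.le) _) (by positivity)).ne'

namespace ZD

variable {A T : Ω → Subgroup G} {q : ℕ} (h : ZD A T q) [Finite G]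
include h

theorem exists_two (hf : Faith G Ω) {t : G} (ht : Inv t) :
    ∃ c z w, c ∈ A z ∧ c ≠ 1 ∧ t • z = z ∧ w ≠ z ∧ (t * c) • w = w := by
  obtain ⟨w, hw⟩ : ∃ w : Ω, t • w ≠ w := by
    by_contra hn
    push Not at hn
    exact ht.1 (hf t hn)
  obtain ⟨c, ⟨z, hz, hz1⟩, h1, h2⟩ := h.exists_comp ht.2 hw
  have h3 := h.cen_fix hz hz1 h1.symm
  exact ⟨c, z, w, hz, hz1, h3, fun e => hw (e ▸ h3), by rw [mul_smul, h2, ht.smul_smul]⟩

theorem exists_fix_ne (hf : Faith G Ω) {t : G} (ht : Out A t) (x : Ω) :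
    ∃ y, y ≠ x ∧ t • y = y := by
  obtain ⟨c, z, w, hc, hc1, hz, hwz, hw⟩ := h.exists_two hf ht.1
  have hu := h.Out_mul ht hz hc
  have uz : (t * c) • z = z := by rw [mul_smul, h.fix z c hc, hz]
  obtain ⟨c', z', w', hc', hc1', hz', hwz', hw'⟩ := h.exists_two hf hu.1
  have : ∃ g, g * (t * c) = (t * c) * g ∧ g * c' * g⁻¹ = c := by
    by_cases e : z' = z
    · exact h.conj_cen (Two.of_sq hu.1.2) hz' hw (by rw [e]; exact hwz.symm) uz hc' hc1' hc hc1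
    · exact h.conj_cen (Two.of_sq hu.1.2) hz' uz e uz hc' hc1' hc hc1
  obtain ⟨g, g1, g2⟩ := this
  have e : g * (t * c * c') * g⁻¹ = t := by
    calc g * (t * c * c') * g⁻¹ = g * (t * c) * g⁻¹ * (g * c' * g⁻¹) := by group
      _ = t * (c * c) := by rw [g1, g2]; group
      _ = t := by rw [h.sq z c hc, mul_one]
  have f1 : t • g • z' = g • z' := by
    rw [← e]; exact conj_smul (by rw [mul_smul, h.fix z' c' hc', hz'])
  have f2 : t • g • w' = g • w' := by rw [← e]; exact conj_smul hw'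
  by_cases e1 : g • z' = x
  · exact ⟨_, fun e2 => hwz' (MulAction.injective g (e2.trans e1.symm)), f2⟩
  · exact ⟨_, e1, f1⟩

theorem conj_cen' (hf : Faith G Ω) {t : G} (ht : Out A t) {x z : Ω} (hx : t • x = x)
    (hz : t • z = z) {a b : G} (ha : a ∈ A x) (ha1 : a ≠ 1) (hb : b ∈ A z)
    (hb1 : b ≠ 1) : ∃ g, g * t = t * g ∧ g * a * g⁻¹ = b ∧ g • x = z := by
  obtain ⟨y, hy, ty⟩ := h.exists_fix_ne hf ht x
  obtain ⟨g, g1, g2⟩ := h.conj_cen (Two.of_sq ht.1.2) hx ty hy.symm hz ha ha1 hb hb1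
  exact ⟨g, g1, g2, (h.uniq _ _ b (g2 ▸ h.conj g x a ha) hb1 (h.fix z b hb)).symm⟩

theorem fuse0 (hf : Faith G Ω) {t : G} (ht : Out A t) {x : Ω} (hx : t • x = x) {a a' : G}
    (ha : a ∈ A x) (ha' : a' ∈ A x) (h1 : a' ≠ 1) (h2 : a' ≠ a) :
    ∃ k, k • x = x ∧ k * (t * a') = (t * a') * k ∧ k * t * k⁻¹ = t * a := by
  have hu := h.Out_mul ht hx ha'
  obtain ⟨k, k1, k2, k3⟩ := h.conj_cen' hf hu (x := x) (z := x)
    (by rw [mul_smul, h.fix x a' ha', hx]) (by rw [mul_smul, h.fix x a' ha', hx]) ha' h1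
    (mul_mem ha' ha) (fun e => h2 (by rw [← h.A_inv ha]; exact eq_inv_of_mul_eq_one_left e))
  refine ⟨k, k3, k1, ?_⟩
  calc k * t * k⁻¹ = k * (t * (a' * a')) * k⁻¹ := by rw [h.sq x a' ha', mul_one]
    _ = k * (t * a') * k⁻¹ * (k * a' * k⁻¹) := by group
    _ = t * (a' * a') * a := by rw [k1, k2]; group
    _ = t * a := by rw [h.sq x a' ha', mul_one]

/-- the coset `t A` is fused in `T` -/
theorem fuse (hf : Faith G Ω) {t : G} (ht : Out A t) {x : Ω} (hx : t • x = x) {a : G}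
    (ha : a ∈ A x) : ∃ y ∈ T x, y * t * y⁻¹ = t * a := by
  by_cases ha1 : a = 1
  · exact ⟨1, one_mem _, by simp [ha1]⟩
  obtain ⟨a', ha', h1, h2, -⟩ := h.exists_ne x a 1
  obtain ⟨k, k1, -, k3⟩ := h.fuse0 hf ht hx ha ha' h1 h2
  have hd := h.conj' k1 ha
  have hd1 : k * a * k⁻¹ ≠ 1 := fun e => ha1 (by simpa using e)
  have a2 := h.sq x a ha
  have hu := h.Out_mul ht hx ha
  have ux : (t * a) • x = x := by rw [mul_smul, h.fix x a ha, hx]
  obtain ⟨j, j1, j2, j3⟩ := h.conj_cen' hf hu ux ux hd hd1 ha ha1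
  have e1 : j * k * t * (j * k)⁻¹ = t * a := by
    calc j * k * t * (j * k)⁻¹ = j * (k * t * k⁻¹) * j⁻¹ := by group
      _ = t * a := by rw [k3, j1]; group
  have e2 : j * k * (t * a) * (j * k)⁻¹ = t := by
    calc j * k * (t * a) * (j * k)⁻¹ = j * (k * t * k⁻¹) * j⁻¹ * (j * (k * a * k⁻¹) * j⁻¹) := by
          group
      _ = t * (a * a) := by rw [k3, j1, j2]; group
      _ = t := by rw [a2, mul_one]
  have gx : (j * k) • x = x := by rw [mul_smul, k1, j3]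
  generalize j * k = g at e1 e2 gx
  obtain ⟨e, i, h3, h4⟩ := exists_two_part g 1
  refine ⟨g ^ e, (h.memT _ _).2 ⟨smul_pow_of gx e, h3⟩, ?_⟩
  have h5 : g ^ 2 * t = t * g ^ 2 := by
    calc g ^ 2 * t = g * (g * t * g⁻¹) * g⁻¹ * g ^ 2 := by rw [pow_two]; group
      _ = t * g ^ 2 := by rw [e1, e2]
  rw [h4, pow_add, pow_one, pow_one, mul_comm i, pow_mul, mul_assoc g, pow_comm_of h5, ← e1]
  group

theorem ncard_Fx_mul (hf : Faith G Ω) {t : G} (ht : Out A t) {x : Ω} (hx : t • x = x) {a : G}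
    (ha : a ∈ A x) : (Fx Ω (t * a)).ncard = (Fx Ω t).ncard := by
  obtain ⟨y, -, e⟩ := h.fuse hf ht hx ha
  rw [← e, ncard_Fx_conj]

variable [Finite Ω]

theorem count (hf : Faith G Ω) {t : G} (ht : Out A t) :
    ∃ N, 1 ≤ N ∧ (Fx Ω t).ncard = N + 1 ∧ Nat.card Ω = (N + 1) * (1 + (q - 1) * N) := by
  obtain ⟨c, z, w, -, -, hz, -, -⟩ := h.exists_two hf ht.1
  obtain ⟨y, hy, ty⟩ := h.exists_fix_ne hf ht z
  have h2 : 1 < (Fx Ω t).ncard := (Set.one_lt_ncard (Set.toFinite _)).mpr ⟨y, ty, z, hz, hy⟩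
  obtain ⟨N, hN⟩ : ∃ N, (Fx Ω t).ncard = N + 1 := ⟨_, (Nat.succ_pred_eq_of_pos (by omega)).symm⟩
  refine ⟨N, by omega, hN, ?_⟩
  have c1 := ncard_dc (Fx Ω t) {c | InD A c ∧ c * t = t * c} (fun x c => c ∈ A x) (m := q - 1)
    (n := 1) (fun x hx => by
      rw [← h.ncard_A x]
      congr 1; ext c
      exact ⟨fun hc => ⟨hc.2, (h.D_inv hc.1.1).1⟩, fun hc => ⟨⟨⟨x, hc⟩,
        h.cen x c hc.1 t (h.T_of_sq hx ht.1.2)⟩, hc.1⟩⟩) (fun c hc => by
      obtain ⟨x, hx, hx1⟩ := hc.1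
      refine Set.ncard_eq_one.mpr ⟨x, Set.eq_singleton_iff_unique_mem.mpr
        ⟨⟨h.cen_fix hx hx1 hc.2.symm, hx⟩, fun y hy => h.uniq x y c hx hx1 (h.fix y c hy.2)⟩⟩)
  have c2 := ncard_dc (Fx Ω t)ᶜ {c | InD A c ∧ c * t = t * c} (fun x c => c • x = t • x) (m := 1)
    (n := N) (fun x hx => by
      obtain ⟨c, h1, h2, h3⟩ := h.exists_comp ht.1.2 hx
      exact Set.ncard_eq_one.mpr ⟨c, Set.eq_singleton_iff_unique_mem.mpr ⟨⟨⟨h1, h2⟩, h3⟩,
        fun d hd => h.comp_uniq ht.1.2 hx hd.1.1 hd.1.2 hd.2 h1 h2 h3⟩⟩) (fun c hc => by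
      obtain ⟨x, hx, hx1⟩ := hc.1
      have tx := h.cen_fix hx hx1 hc.2.symm
      have : {a | a ∈ (Fx Ω t)ᶜ ∧ c • a = t • a} = Fx Ω (t * c) \ {x} := by
        ext y
        constructor
        · rintro ⟨h1, h2⟩
          exact ⟨by rw [mem_Fx, mul_smul, h2, ht.1.smul_smul], fun e => h1 (e ▸ tx)⟩
        · rintro ⟨h1, h2⟩
          have h3 : c • y = t • y := by
            rw [mem_Fx, mul_smul] at h1
            rw [← ht.1.smul_smul (c • y), h1]
          exact ⟨fun e => h2 (h.uniq x y c hx hx1 (h3.trans e)), h3⟩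
      rw [this, Set.ncard_sdiff_singleton_of_mem (by rw [mem_Fx, mul_smul, h.fix x c hx, tx]),
        h.ncard_Fx_mul hf ht tx hx, hN]
      rfl)
  have c3 := Set.ncard_add_ncard_compl (Fx Ω t)
  rw [mul_one, hN] at c1
  rw [mul_one, ← c1] at c2
  rw [← c3, c2, hN]; ring

theorem ncard_Fx_eq (hf : Faith G Ω) {t u : G} (ht : Out A t) (hu : Out A u) :
    (Fx Ω t).ncard = (Fx Ω u).ncard := by
  obtain ⟨N, -, h1, h2⟩ := h.count hf ht
  obtain ⟨M, -, h3, h4⟩ := h.count hf hu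
  rw [h1, h3, mono_aux (h2.symm.trans h4)]

theorem Fx_eq (hf : Faith G Ω) {t u : G} (ht : Out A t) (hu : Out A u)
    (hle : Fx Ω t ⊆ Fx Ω u) : Fx Ω t = Fx Ω u :=
  Set.eq_of_subset_of_ncard_le hle (h.ncard_Fx_eq hf hu ht).le

theorem odd_card (x : Ω) : Odd (Nat.card Ω) := by
  obtain ⟨a, ha, ha1⟩ := h.exists_A x
  have := ((h.T_pgroup x).to_le (zpowers_le.mpr (h.A_le x ha))).card_modEq_card_fixedPoints Ω
  have e : Nat.card (MulAction.fixedPoints (zpowers a) Ω) = 1 := by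
    rw [Nat.card_eq_one_iff_exists]
    refine ⟨⟨x, fun g => ?_⟩, fun y => Subtype.ext (h.uniq x y a ha ha1
      (y.2 ⟨a, mem_zpowers a⟩))⟩
    exact h.T_fix (zpowers_le.mpr (h.A_le x ha) g.2)
  rw [e] at this
  exact Nat.odd_iff.mpr this

/-- every 2-subgroup lies in some `T y` -/
theorem exists_le_T (x : Ω) {P : Subgroup G} (hP : IsPGroup 2 P) : ∃ y, P ≤ T y := by
  obtain ⟨y, hy⟩ := hP.nonempty_fixed_point_of_prime_not_dvd_card Ω
    (fun e => Nat.not_even_iff_odd.mpr (h.odd_card x) (even_iff_two_dvd.mpr e))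
  exact ⟨y, fun g hg => (h.memT _ _).2 ⟨hy ⟨g, hg⟩, two_of_isPGroup hP hg⟩⟩

theorem sylow (x : Ω) : H5.IsSylowOf 2 (T x) ⊤ := by
  refine H5.isSylowOf_of_maximal le_top (h.T_pgroup x) fun R hR hle _ => ?_
  obtain ⟨y, hy⟩ := h.exists_le_T x hR
  obtain ⟨a, ha, ha1⟩ := h.exists_A x
  rwa [h.uniq x y a ha ha1 (h.T_fix (hy (hle (h.A_le x ha))))] at hy

omit [Finite Ω] in
/-- a subgroup of odd order normalized by `A x` fixes `x` -/
theorem odd_fix {x : Ω} {N : Subgroup G} (hN : Odd (Nat.card N)) (hn : A x ≤ Nor N) :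
    N ≤ St G x := by
  obtain ⟨a, ha, ha1⟩ := h.exists_A x
  obtain ⟨b, hb, hb1, hab, -⟩ := h.exists_ne x a 1
  have i1 := h.inv_of ha ha1
  have i2 := h.inv_of hb hb1
  exact le_of_four i1 i2 hab.symm (h.comm ha hb) hN (hn ha) (hn hb)
    (fun g hg => h.cen_fix ha ha1 (c1_iff.mp hg.2)) (fun g hg => h.cen_fix hb hb1 (c1_iff.mp hg.2))
    fun g hg => h.cen_fix (mul_mem ha hb) (i1.mul i2 hab.symm (h.comm ha hb)).1 (c1_iff.mp hg.2)

omit [Finite Ω] in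
theorem oddCore_eq_bot (hf : Faith G Ω) : oddCore G = ⊥ :=
  eq_bot_iff.mpr fun g hg => hf g fun _ => h.odd_fix
    (Nat.coprime_two_right.mp (coprime_card_pPrimeCore 2 G)) le_normalizer_of_normal hg

end ZD

end Hz
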