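import Cfsg.Agent.Hz.Z2
import Cfsg.Agent.BS.SE
import Cfsg.Agent.BS.Suzuki

/-! The conclusion of the theorem, from the strongly embedded theorem; transfer along
quotients and to invariant subsets. -/

set_option autoImplicit false

namespace Hz

open Cfsg Subgroup FT H4 BS

universe u

section Gen

variable {G : Type*} [Group G] {Ω : Type*} [MulAction G Ω]

theorem card_eq_orbit_mul (P : Subgroup G) (y : Ω) :
    Nat.card P = {z | ∃ g ∈ P, g • y = z}.ncard * Nat.card ↥(P ⊓ St G y) := by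
  have h1 : (St G y).relIndex P = {z | ∃ g ∈ P, g • y = z}.ncard := by
    have : (St G y).subgroupOf P = MulAction.stabilizer P y := rfl
    rw [relIndex, this, MulAction.index_stabilizer]
    congr 1; ext z
    exact ⟨fun ⟨g, e⟩ => ⟨g, g.2, e⟩, fun ⟨g, hg, e⟩ => ⟨⟨g, hg⟩, e⟩⟩
  rw [← h1, ← inf_relIndex_left, mul_comm, H5.card_mul_relIndex inf_le_left]

/-- the conclusion -/
structure Cn (A T : Ω → Subgroup G) (q : ℕ) : Prop where
  s1 : ∀ g : G, Two g → ∀ x y : Ω, x ≠ y → g • x = x → g • y = y → ∀ z : Ω, g • z = z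
  s2 : ∀ x y z : Ω, y ≠ x → z ≠ x → ∃ s ∈ T x, s ∈ (⨆ w, A w) ∧ s • y = z
  s3 : ∀ x, ∀ y ∈ T x, (∀ z : Ω, (y * y) • z = z) → ∃ a ∈ A x, ∀ z : Ω, y • z = a • z
  s4 : Nat.card Ω = q + 1 ∨ ((Nat.card Ω = q ^ 2 + 1 ∨ Nat.card Ω = q ^ 3 + 1) ∧
    ∀ x, ∃ y ∈ T x, ∃ y' ∈ T x, ∃ z : Ω, (y * y') • z ≠ (y' * y) • z)

/-- the conclusion for the subgroup `M` acting on `Δ` -/
structure Ln (A T : Ω → Subgroup G) (q : ℕ) (M : Subgroup G) (Δ : Set Ω) : Prop where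
  s1 : ∀ g ∈ M, Two g → ∀ x ∈ Δ, ∀ y ∈ Δ, x ≠ y → g • x = x → g • y = y → ∀ z ∈ Δ, g • z = z
  s2 : ∀ x ∈ Δ, ∀ y ∈ Δ, ∀ z ∈ Δ, y ≠ x → z ≠ x → ∃ s ∈ T x,
    (∀ g : G, (∀ w ∈ Δ, ∀ a ∈ A w, g * a = a * g) → g * s = s * g) ∧ s • y = z
  s3 : ∀ x ∈ Δ, ∀ y ∈ T x, y ∈ M → (∀ z ∈ Δ, (y * y) • z = z) →
    ∃ a ∈ A x, ∀ z ∈ Δ, y • z = a • z
  s4 : Δ.ncard = q + 1 ∨ ((Δ.ncard = q ^ 2 + 1 ∨ Δ.ncard = q ^ 3 + 1) ∧
    ∀ x ∈ Δ, ∃ y ∈ T x ⊓ M, ∃ y' ∈ T x ⊓ M, ∃ z ∈ Δ, (y * y') • z ≠ (y' * y) • z)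

variable {A T : Ω → Subgroup G} {q : ℕ}

theorem ZD.normal_X (h : ZD A T q) : (⨆ w, A w).Normal := ⟨fun n hn g => by
  have : (⨆ w, A w) ≤ (⨆ w, A w).comap (MulAut.conj g).toMonoidHom :=
    iSup_le fun w a ha => le_iSup A (g • w) (h.conj g w a ha)
  exact this hn⟩

variable [Finite G] {X : Type*} [Group X] [MulAction X Ω] {f : G →* X}

theorem ZD.map (h : ZD A T q) (hf : Function.Surjective f) (hc : ∀ g (x : Ω), f g • x = g • x)
    {x0 y0 : Ω} (hne : x0 ≠ y0) :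
    ZD (fun x => (A x).map f) (fun x => (T x).map f) q := by
  refine ⟨fun x => ?_, h.four, ?_, ?_, fun x g => ⟨?_, ?_⟩, ?_, ?_, ?_⟩
  · rw [← h.card x]
    refine (Nat.card_congr (Equiv.ofBijective (f.subgroupMap (A x))
      ⟨(injective_iff_map_eq_one _).mpr fun a ha => Subtype.ext ?_,
        f.subgroupMap_surjective _⟩)).symm
    have h1 : ∀ z : Ω, (a : G) • z = z := fun z => by
      rw [← hc, show f a = 1 from congrArg Subtype.val ha, one_smul]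
    by_contra h2
    exact hne ((h.uniq x _ a a.2 h2 (h1 x0)).trans (h.uniq x _ a a.2 h2 (h1 y0)).symm)
  · rintro x _ ⟨a, ha, rfl⟩
    rw [← map_mul, h.sq x a ha, map_one]
  · rintro g x _ ⟨a, ha, rfl⟩
    obtain ⟨g, rfl⟩ := hf g
    exact ⟨g * a * g⁻¹, by rw [hc]; exact h.conj g x a ha, by simp⟩
  · rintro ⟨y, hy, rfl⟩
    exact ⟨by rw [hc, h.T_fix hy], (h.T_two hy).map f⟩
  · obtain ⟨g, rfl⟩ := hf g
    rintro ⟨h1, h2⟩
    obtain ⟨e, h3, h4⟩ := exists_two_lift f h2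
    exact ⟨g ^ e, (h.memT _ _).2 ⟨smul_pow_of ((hc g x).symm.trans h1) e, h3⟩, h4⟩
  · rintro x _ ⟨a, ha, rfl⟩
    rw [hc, h.fix x a ha]
  · rintro x _ ⟨a, ha, rfl⟩ _ ⟨g, hg, rfl⟩
    rw [← map_mul, h.cen x a ha g hg, map_mul]
  · rintro x y _ ⟨a, ha, rfl⟩ h1 h2
    exact h.uniq x y a ha (fun e => h1 (by rw [e, map_one])) ((hc a y).symm.trans h2)

theorem Cn.of_map (h : ZD A T q) (hc : ∀ g (x : Ω), f g • x = g • x)
    (c : Cn (fun x => (A x).map f) (fun x => (T x).map f) q) : Cn A T q := by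
  refine ⟨fun g hg x y hne h1 h2 z => ?_, fun x y z h1 h2 => ?_, fun x y hy h1 => ?_, ?_⟩
  · rw [← hc] at h1 h2 ⊢
    exact c.s1 _ (hg.map f) x y hne h1 h2 z
  · obtain ⟨_, ⟨s, hs, rfl⟩, h3, h4⟩ := c.s2 x y z h1 h2
    rw [← Subgroup.map_iSup] at h3
    obtain ⟨l, hl, e⟩ := h3
    obtain ⟨k, h5, h6⟩ := exists_two_lift f (g := l) (e ▸ (h.T_two hs).map f)
    exact ⟨l ^ k, (h.memT _ _).2 ⟨by rw [← hc, h6, e, hc, h.T_fix hs], h5⟩, pow_mem hl k,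
      by rw [← hc, h6, e, h4]⟩
  · obtain ⟨_, ⟨a, ha, rfl⟩, h2⟩ := c.s3 x (f y) ⟨y, hy, rfl⟩ fun z => by
      rw [← map_mul, hc, h1]
    exact ⟨a, ha, fun z => by rw [← hc, h2, hc]⟩
  · refine c.s4.imp_right fun ⟨h1, h2⟩ => ⟨h1, fun x => ?_⟩
    obtain ⟨_, ⟨y, hy, rfl⟩, _, ⟨y', hy', rfl⟩, z, h3⟩ := h2 x
    exact ⟨y, hy, y', hy', z, by rwa [← map_mul, ← map_mul, hc, hc] at h3⟩

omit [Finite G] in
theorem ZD.restrict (h : ZD A T q) {M : Subgroup G} (Δ : SubMulAction M Ω)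
    (hA : ∀ x ∈ Δ, A x ≤ M) :
    ZD (fun x : Δ => (A x).subgroupOf M) (fun x : Δ => (T x).subgroupOf M) q := by
  refine ⟨fun x => ?_, h.four, fun x a ha => Subtype.ext (h.sq x a ha),
    fun g x a ha => h.conj g x a ha, fun x g => ?_, fun x a ha => Subtype.ext (h.fix x a ha),
    fun x a ha g hg => Subtype.ext (h.cen x a ha g hg),
    fun x y a ha h1 h2 => Subtype.ext (h.uniq x y a ha (fun e => h1 (Subtype.ext e))
      (congrArg Subtype.val h2))⟩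
  · rw [← h.card x]
    exact Nat.card_congr (subgroupOfEquivOfLe (hA x x.2)).toEquiv
  · rw [mem_subgroupOf, h.memT, two_coe, Subtype.ext_iff]
    rfl

omit [Finite G] in
theorem ZD.sub (h : ZD A T q) {M : Subgroup G} (hA : ∀ x, A x ≤ M) :
    ZD (fun x : Ω => (A x).subgroupOf M) (fun x : Ω => (T x).subgroupOf M) q := by
  refine ⟨fun x => ?_, h.four, fun x a ha => Subtype.ext (h.sq x a ha),
    fun g x a ha => h.conj g x a ha, fun x g => ?_, fun x a ha => h.fix x a ha,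
    fun x a ha g hg => Subtype.ext (h.cen x a ha g hg),
    fun x y a ha h1 h2 => h.uniq x y a ha (fun e => h1 (Subtype.ext e)) h2⟩
  · rw [← h.card x]
    exact Nat.card_congr (subgroupOfEquivOfLe (hA x)).toEquiv
  · rw [mem_subgroupOf, h.memT, two_coe]
    rfl

omit [Finite G] in
theorem Ln.of_cn {M : Subgroup G} (Δ : SubMulAction M Ω)
    (c : Cn (fun x : Δ => (A x).subgroupOf M) (fun x : Δ => (T x).subgroupOf M) q) :
    Ln A T q M Δ := by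
  refine ⟨fun g hg h2 x hx y hy hne h3 h4 z hz => ?_, fun x hx y hy z hz h1 h2 => ?_,
    fun x hx y hy hM h1 => ?_, ?_⟩
  · exact congrArg Subtype.val (c.s1 ⟨g, hg⟩ (two_coe.mp h2) ⟨x, hx⟩ ⟨y, hy⟩
      (fun e => hne (congrArg Subtype.val e)) (Subtype.ext h3) (Subtype.ext h4) ⟨z, hz⟩)
  · obtain ⟨s, hs, h3, h4⟩ := c.s2 ⟨x, hx⟩ ⟨y, hy⟩ ⟨z, hz⟩ (fun e => h1 (congrArg Subtype.val e))
      (fun e => h2 (congrArg Subtype.val e))
    refine ⟨s, hs, fun g hg => ?_, congrArg Subtype.val h4⟩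
    have : (⨆ w : Δ, (A w).subgroupOf M) ≤ (Cen1 g).subgroupOf M :=
      iSup_le fun w a ha => c1_iff.mpr (hg w w.2 a ha).symm
    exact (c1_iff.mp (this h3)).symm
  · obtain ⟨a, ha, h2⟩ := c.s3 ⟨x, hx⟩ ⟨y, hM⟩ hy fun z => Subtype.ext (h1 z z.2)
    exact ⟨a, ha, fun z hz => congrArg Subtype.val (h2 ⟨z, hz⟩)⟩
  · have e : Nat.card Δ = (Δ : Set Ω).ncard := Nat.card_coe_set_eq _
    rw [← e]
    refine c.s4.imp_right fun ⟨h1, h2⟩ => ⟨h1, fun x hx => ?_⟩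
    obtain ⟨y, hy, y', hy', z, h3⟩ := h2 ⟨x, hx⟩
    exact ⟨y, ⟨hy, y.2⟩, y', ⟨hy', y'.2⟩, z, z.2, fun e => h3 (Subtype.ext e)⟩

end Gen

/-- the induction hypothesis -/
def IHZ (n : ℕ) : Prop :=
  ∀ (G Ω : Type u) [Group G] [Finite G] [MulAction G Ω] [Finite Ω] (A T : Ω → Subgroup G)
    (q : ℕ), ZD A T q → Nat.card Ω < n → ∀ x y : Ω, x ≠ y → Cn A T q

variable {G Ω : Type u} [Group G] [Finite G] [MulAction G Ω] [Finite Ω] {A T : Ω → Subgroup G}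
  {q : ℕ}

theorem ZD.ln (h : ZD A T q) (ih : IHZ.{u} (Nat.card Ω)) {M : Subgroup G} {Δ : Set Ω}
    (hM : ∀ g ∈ M, ∀ x ∈ Δ, g • x ∈ Δ) (hA : ∀ x ∈ Δ, A x ≤ M) {z : Ω} (hz : z ∉ Δ) {x y : Ω}
    (hx : x ∈ Δ) (hy : y ∈ Δ) (hne : x ≠ y) : Ln A T q M Δ := by
  let S : SubMulAction M Ω := ⟨Δ, fun g x hx => hM g g.2 x hx⟩
  refine Ln.of_cn S (ih M S _ _ q (h.restrict S hA) ?_ ⟨x, hx⟩ ⟨y, hy⟩
    fun e => hne (congrArg Subtype.val e))
  have e : Nat.card S = Δ.ncard := Nat.card_coe_set_eq _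
  rw [e, ← Set.ncard_univ]
  exact Set.ncard_lt_ncard (Set.ssubset_univ_iff.mpr fun e => hz (e ▸ Set.mem_univ z))

omit [Finite Ω] in
theorem ZD.exists_hyp (h : ZD A T q) (hf : Faith G Ω) (hall : ∀ t : G, BS.Inv t → InD A t) {x y : Ω}
    (hne : x ≠ y) {t : G} (ht : InD A t) (e : t • x = y) :
    Hyp (St G x) (T x) (St G x ⊓ St G y) t ∧ Concl (T x) (St G x ⊓ St G y) t ∧
      Q0 (T x) = A x := by
  have o : One G Ω := fun a ha => by
    obtain ⟨z, hz, hz1⟩ := hall a ha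
    exact ⟨z, h.fix z a hz, fun w hw => h.uniq z w a hz hz1 hw⟩
  obtain ⟨a, ha, ha1⟩ := h.exists_A x
  obtain ⟨b, hb, hb1, hab, -⟩ := h.exists_ne x a 1
  have tH : t ∉ St G x := fun e' => hne ((mem_St.mp e').symm.trans e)
  have hs : IsStronglyEmbedded (St G x) := ⟨fun e' => tH (e'.ge (mem_top t)),
    even_of_inv (h.fix x a ha) ha1 (h.sq x a ha), fun g hg => by
      have := o.odd_two (x := x) (y := g • x) fun e => hg e.symm
      rwa [← conjS_St] at this⟩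
  obtain ⟨Q, D, t0, h1, -⟩ := seThm G _ hs (rk2_top_iff.mp ⟨a, mem_top _, b, mem_top _,
    h.inv_of ha ha1, h.inv_of hb hb1, hab.symm, h.comm ha hb⟩) (h.oddCore_eq_bot hf)
  have h2 := h1.change tH (h.D_inv ht).2
  rw [conjS_St, e] at h2
  have c := suzuki G ⊤ _ _ _ t h2.toA1 h2.a3
  have hQ : Q = T x := le_antisymm
    (fun g hg => (h.memT _ _).2 ⟨h2.toA1.Q_le hg, two_of_isPGroup c.two hg⟩)
    (h2.toA1.two_le_Q (fun g hg => h.T_fix hg) (h.T_pgroup x))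
  subst hQ
  refine ⟨h2, c, le_antisymm ((closure_le _).mpr fun g hg => ?_) fun g hg =>
    A1.mem_Q0_of (h.A_le x hg) (h.sq x g hg)⟩
  by_cases h3 : g = 1
  · rw [h3]; exact one_mem _
  · exact h.mem_A (hall g ⟨h3, hg.2⟩) (h.T_fix hg.1)

omit [Finite Ω] in
theorem ZD.trans_of_hyp (h : ZD A T q) {x y : Ω} {t : G} (e : t • x = y)
    (hy : Hyp (St G x) (T x) (St G x ⊓ St G y) t) {z : Ω} (hz : z ≠ x) :
    ∃ s ∈ T x, s • y = z := by
  obtain ⟨c, -, hc⟩ := h.exists_swap' hz.symm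
  obtain ⟨s, hs, g, hg, rfl⟩ := hy.toA1.canon_left (mem_top c)
    fun e' => hz (hc.symm.trans (mem_St.mp e'))
  exact ⟨s, hs, by rw [← hc, mul_smul, mul_smul, mem_St.mp hg, e]⟩

theorem ZD.card_of_hyp (h : ZD A T q) {x y : Ω} (hne : x ≠ y) {t : G} (e : t • x = y)
    (hy : Hyp (St G x) (T x) (St G x ⊓ St G y) t) : Nat.card Ω = Nat.card (T x) + 1 := by
  have h1 := card_eq_orbit_mul (T x) y
  have h2 : T x ⊓ St G y = ⊥ := eq_bot_iff.mpr fun g hg =>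
    hy.toA1.eq_one_of_mem_QD hg.1 ⟨h.T_fix hg.1, hg.2⟩
  have h3 : {z | ∃ g ∈ T x, g • y = z} = {x}ᶜ := by
    ext z
    refine ⟨fun ⟨g, hg, e⟩ e' => hne (MulAction.injective g ?_), fun hz => h.trans_of_hyp e hy hz⟩
    show g • x = g • y
    rw [e, h.T_fix hg]; exact (Set.mem_singleton_iff.mp e').symm
  rw [h2, h3, card_bot, mul_one] at h1
  rw [h1, ← Set.ncard_add_ncard_compl {x}, Set.ncard_singleton, add_comm]

theorem ZD.cn_of_all (h : ZD A T q) (hf : Faith G Ω) (hall : ∀ t : G, BS.Inv t → InD A t) {x0 y0 : Ω}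
    (hne0 : x0 ≠ y0) : Cn A T q := by
  refine ⟨fun g hg x y hne h1 h2 z => ?_, fun x y z h1 h2 => ?_, fun x y hy h1 => ?_, ?_⟩
  · by_cases h3 : g = 1
    · rw [h3, one_smul]
    obtain ⟨k, hk⟩ := hg.exists_inv h3
    exact absurd (h.uniq x y _ (h.mem_A (hall _ hk) (smul_pow_of h1 k)) hk.1 (smul_pow_of h2 k))
      hne.symm
  · obtain ⟨t, ht, e⟩ := h.exists_swap' h1.symm
    obtain ⟨hy, -, -⟩ := h.exists_hyp hf hall h1.symm ht e
    obtain ⟨s, hs, h3⟩ := h.trans_of_hyp e hy h2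
    haveI := h.normal_X
    obtain ⟨a, ha, ha1⟩ := h.exists_A x
    exact ⟨s, hs, hy.Fg_le (fun e => ha1 (mem_bot.mp (e ▸ le_iSup A x ha))) (A1.Q_le_Fg hs), h3⟩
  · by_cases h3 : y = 1
    · exact ⟨1, one_mem _, fun z => by rw [h3]⟩
    exact ⟨y, h.mem_A (hall y ⟨h3, hf _ h1⟩) (h.T_fix hy), fun _ => rfl⟩
  · have key : ∀ x : Ω, Nat.card Ω = q + 1 ∨ ((Nat.card Ω = q ^ 2 + 1 ∨ Nat.card Ω = q ^ 3 + 1) ∧
        ∃ y ∈ T x, ∃ y' ∈ T x, ∃ z : Ω, (y * y') • z ≠ (y' * y) • z) := fun x => by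
      obtain ⟨y, hne⟩ : ∃ y, x ≠ y := by
        by_cases e : x = x0
        · exact ⟨y0, e ▸ hne0⟩
        · exact ⟨x0, e⟩
      obtain ⟨t, ht, e⟩ := h.exists_swap' hne
      obtain ⟨hy, c, h0⟩ := h.exists_hyp hf hall hne ht e
      have h1 := h.card_of_hyp hne e hy
      have na : ¬ IsMulCommutative (T x) →
          ∃ y ∈ T x, ∃ y' ∈ T x, ∃ z : Ω, (y * y') • z ≠ (y' * y) • z := fun hn => by
        by_contra h2
        push Not at h2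
        refine hn ⟨⟨fun a b => Subtype.ext ?_⟩⟩
        have := hf ((b * a : G)⁻¹ * (a * b)) fun z => by
          rw [mul_smul, h2 a a.2 b b.2 z, inv_smul_smul]
        exact (inv_mul_eq_one.mp this).symm
      obtain ⟨s, hs⟩ := hy.toA1.exists_dist
      rcases c.tri s hs with c | c | c
      · left; rw [h1, ← c.1, h0, h.card]
      · exact Or.inr ⟨Or.inl (by rw [h1, c.1, h0, h.card]), na c.2.1⟩
      · exact Or.inr ⟨Or.inr (by rw [h1, c.1, h0, h.card]), na c.2.1⟩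
    by_cases h1 : Nat.card Ω = q + 1
    · exact Or.inl h1
    · exact Or.inr ⟨((key x0).resolve_left h1).1, fun x => ((key x).resolve_left h1).2⟩

theorem ZD.exists_w (h : ZD A T q) (hf : Faith G Ω) (hall : ∀ t : G, BS.Inv t → InD A t) {x y : Ω}
    (hne : x ≠ y) (hc : Nat.card Ω = q ^ 3 + 1) :
    ∃ w : G, w ≠ 1 ∧ Odd (orderOf w) ∧ w • y = y ∧ ∀ a ∈ A x, w * a = a * w := by
  obtain ⟨t, ht, e⟩ := h.exists_swap' hne
  obtain ⟨hy, c, h0⟩ := h.exists_hyp hf hall hne ht e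
  have h1 := h.card_of_hyp hne e hy
  have h4 := h.four
  have h5 : q ^ 1 < q ^ 3 := Nat.pow_lt_pow_right (by omega) (by omega)
  have h6 : q ^ 2 < q ^ 3 := Nat.pow_lt_pow_right (by omega) (by omega)
  obtain ⟨s, hs⟩ := hy.toA1.exists_dist
  rcases c.tri s hs with c | c | c
  · rw [← c.1, h0, h.card] at h1; rw [pow_one] at h5; omega
  · rw [c.1, h0, h.card] at h1; omega
  · obtain ⟨w, hw, h2, h3⟩ := c.2.2.2.1
    rw [h0] at h2
    exact ⟨w, fun e => h3 (e ▸ one_mem _), hy.toA1.odd_D hw, hw.2, cen_iff.mp h2⟩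

end Hz
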