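import Cfsg.Agent.Hz.Z3
import Cfsg.Agent.H7.PBasic

/-! The lines: fixed point sets of the involutions outside `D`. -/

set_option autoImplicit false

namespace Hz

open Cfsg Subgroup FT H4 BS

universe u

section Gen

variable {G : Type*} [Group G]

theorem card_eq_conj_mul (P : Subgroup G) (w : G) :
    Nat.card P = {z | ∃ g ∈ P, g * w * g⁻¹ = z}.ncard * Nat.card ↥(P ⊓ Cen1 w) := by
  have := @card_eq_orbit_mul G _ G (MulAction.compHom G (MulAut.conj : G →* MulAut G)) P w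
  have e : @St G _ G (MulAction.compHom G (MulAut.conj : G →* MulAut G)) w = Cen1 w := by
    ext g
    rw [c1_iff']
    rfl
  rw [e] at this
  exact this

theorem exists_cen_inv [Finite G] {P : Subgroup G} (hP : IsPGroup 2 P) {g : G} (hg : g ∈ P)
    (h1 : g ≠ 1) : ∃ z ∈ P, BS.Inv z ∧ ∀ y ∈ P, y * z = z * y := by
  obtain ⟨z, hz, hz1, hc⟩ := exists_mem_center_of_isNilpotent (H := P) (N := P) hP.isNilpotent
    le_rfl le_normalizer fun e => h1 (mem_bot.mp (e ▸ hg))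
  obtain ⟨k, hk⟩ := (two_of_isPGroup hP hz).exists_inv hz1
  exact ⟨z ^ k, pow_mem hz k, hk, fun y hy => (pow_comm_of (cen_iff.mp hc y hy) k).symm⟩

theorem comm_of_eq_one {a b : G} (h : a * b * a⁻¹ * b⁻¹ = 1) : a * b = b * a := by
  calc a * b = a * b * a⁻¹ * b⁻¹ * (b * a) := by group
    _ = b * a := by rw [h, one_mul]

end Gen

variable {G Ω : Type u} [Group G] [Finite G] [MulAction G Ω] [Finite Ω]

/-- a faithful action, with the induction hypothesis -/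
structure Cx (A T : Ω → Subgroup G) (q : ℕ) : Prop extends ZD A T q where
  faith : Faith G Ω
  ih : IHZ.{u} (Nat.card Ω)

variable {A T : Ω → Subgroup G} {q : ℕ}

omit [Finite G] [Finite Ω] in
theorem ZD.out_of_two (h : ZD A T q) {t : G} (ht : BS.Inv t) {x y : Ω} (hne : x ≠ y)
    (hx : t • x = x) (hy : t • y = y) : Out A t :=
  ⟨ht, fun e => hne (h.uniq x y t (h.mem_A e hx) ht.1 hy).symm⟩

/-- `P_w` -/
def ZD.PW (h : ZD A T q) (x : Ω) (w : G) : Subgroup G where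
  carrier := {y | y ∈ T x ∧ y * w * y⁻¹ * w⁻¹ ∈ A x}
  one_mem' := ⟨one_mem _, by simp⟩
  mul_mem' := by
    rintro y z ⟨hy, h1⟩ ⟨hz, h2⟩
    refine ⟨mul_mem hy hz, H5.mem_of_eq (mul_mem (h.conj' (h.T_fix hy) h2) h1) (by group)⟩
  inv_mem' := by
    rintro y ⟨hy, h1⟩
    exact ⟨inv_mem hy, H5.mem_of_eq (h.conj' (h.T_fix (inv_mem hy)) (inv_mem h1)) (by group)⟩

omit [Finite G] [Finite Ω] in
theorem ZD.mem_PW (h : ZD A T q) {x : Ω} {w y : G} :
    y ∈ h.PW x w ↔ y ∈ T x ∧ y * w * y⁻¹ * w⁻¹ ∈ A x := Iff.rfl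

namespace Cx

variable (h : Cx A T q)
include h

theorem ln_fx {w : G} (hw1 : w ≠ 1) (hA : ∀ x ∈ Fx Ω w, A x ≤ Cen1 w) {x y : Ω} (hx : w • x = x)
    (hy : w • y = y) (hne : x ≠ y) : Ln A T q (Cen1 w) (Fx Ω w) := by
  obtain ⟨z, hz⟩ : ∃ z : Ω, w • z ≠ z := by
    by_contra hn
    push Not at hn
    exact hw1 (h.faith w hn)
  exact h.toZD.ln h.ih (fun g hg x hx => cen_smul (c1_iff.mp hg) hx) hA hz hx hy hne

theorem ln {w : G} (hw : Out A w) : Ln A T q (Cen1 w) (Fx Ω w) := by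
  obtain ⟨-, x, -, -, -, hx, -⟩ := h.exists_two h.faith hw.1
  obtain ⟨y, hy, wy⟩ := h.exists_fix_ne h.faith hw x
  exact h.ln_fx hw.1.1 (fun x hx a ha => c1_iff.mpr (h.cen x a ha w (h.T_of_sq hx hw.1.2))) hx wy
    hy.symm

omit [Finite Ω] in
theorem exists_cenR {x y : Ω} (hne : x ≠ y) {r : G} (hx : r ∈ T x) (hy : r ∈ T y) (h1 : r ≠ 1) :
    ∃ w, Out A w ∧ w ∈ T x ∧ w ∈ T y ∧ ∀ s ∈ T x, s ∈ T y → s * w = w * s := by
  obtain ⟨w, hw, i, hc⟩ := exists_cen_inv (P := T x ⊓ T y) ((h.T_pgroup x).to_le inf_le_left)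
    ⟨hx, hy⟩ h1
  exact ⟨w, h.out_of_two i hne (h.T_fix hw.1) (h.T_fix hw.2), hw.1, hw.2,
    fun s h1 h2 => hc s ⟨h1, h2⟩⟩

/-- a 2-element fixing two points of a line fixes the line pointwise -/
theorem R_fix {w r : G} (hw : Out A w) {x y : Ω} (hne : x ≠ y) (hx : w • x = x) (hy : w • y = y)
    (h2 : Two r) (rx : r • x = x) (ry : r • y = y) {z : Ω} (hz : w • z = z) : r • z = z := by
  have wx := h.T_of_sq hx hw.1.2
  have wy := h.T_of_sq hy hw.1.2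
  obtain ⟨v, hv, vx, vy, hc⟩ := h.exists_cenR hne wx wy hw.1.1
  have l := h.ln hv
  have e : Fx Ω v = Fx Ω w := h.Fx_eq h.faith hv hw fun z hz => l.s1 w (c1_iff.mpr (hc w wx wy))
    (Two.of_sq hw.1.2) x (h.T_fix vx) y (h.T_fix vy) hne hx hy z hz
  exact l.s1 r (c1_iff.mpr (hc r ((h.memT _ _).2 ⟨rx, h2⟩) ((h.memT _ _).2 ⟨ry, h2⟩))) h2 x
    (h.T_fix vx) y (h.T_fix vy) hne rx ry z (e ▸ hz)

theorem Fx_eq' {w v : G} (hw : Out A w) (hv : Out A v) {x y : Ω} (hne : x ≠ y) (hx : w • x = x)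
    (hy : w • y = y) (vx : v • x = x) (vy : v • y = y) : Fx Ω w = Fx Ω v :=
  h.Fx_eq h.faith hw hv fun _ hz => h.R_fix hw hne hx hy (Two.of_sq hv.1.2) vx vy hz

theorem eq_one_of_fix {w r : G} (hw : Out A w) {x y z : Ω} (hne : x ≠ y) (hx : w • x = x)
    (hy : w • y = y) (h2 : Two r) (rx : r • x = x) (ry : r • y = y) (hz : w • z ≠ z)
    (rz : r • z = z) : r = 1 := by
  by_contra h1
  obtain ⟨k, hk⟩ := h2.exists_inv h1
  have := h.Fx_eq' hw (h.out_of_two hk hne (smul_pow_of rx k) (smul_pow_of ry k)) hne hx hy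
    (smul_pow_of rx k) (smul_pow_of ry k)
  exact hz (show z ∈ Fx Ω w from this ▸ smul_pow_of rz k)

omit [Finite G] [Finite Ω] in
theorem not_fix {w a : G} {x y : Ω} (ha : a ∈ A x) (ha1 : a ≠ 1) (hne : y ≠ x)
    (hy : (w * a) • y = y) (hw : w * w = 1) : w • y ≠ y := fun e => by
  refine hne (h.uniq x y a ha ha1 ?_)
  rw [mul_smul] at hy
  calc a • y = w • w • a • y := by rw [← mul_smul w w, hw, one_smul]
    _ = y := by rw [hy, e]

/-- `N_T(ℓ) = S R` -/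
theorem decomp {w y : G} (hw : Out A w) {x b : Ω} (hne : b ≠ x) (hx : w • x = x)
    (hb : w • b = b) (hy : y ∈ T x) (hyb : w • y • b = y • b) : ∃ s ∈ T x, ∃ r ∈ T x, r ∈ T b ∧
      y = s * r ∧ ∀ g : G, (∀ z : Ω, w • z = z → g ∈ T z) → g * s = s * g := by
  obtain ⟨s, hs, h1, h2⟩ := (h.ln hw).s2 x hx b hb (y • b) hyb hne
    fun e => hne (MulAction.injective y (e.trans (h.T_fix hy).symm))
  have h3 : s⁻¹ * y ∈ T x := mul_mem (inv_mem hs) hy
  exact ⟨s, hs, _, h3, (h.memT _ _).2 ⟨by rw [mul_smul, ← h2, inv_smul_smul], h.T_two h3⟩,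
    by group, fun g hg => h1 g fun z hz a ha => (h.cen z a ha g (hg z hz)).symm⟩

/-- the involutions of `R` are central in `R` -/
theorem R_cen {v r : G} {x b : Ω} (hne : b ≠ x) (vx : v • x = x) (vb : v • b = b)
    (hv : v * v = 1) (rx : r ∈ T x) (rb : r ∈ T b) : r * v = v * r := by
  by_cases hv1 : v = 1
  · simp [hv1]
  have vx' := h.T_of_sq vx hv
  have vb' := h.T_of_sq vb hv
  obtain ⟨w, hw, wx, wb, hc⟩ := h.exists_cenR hne.symm vx' vb' hv1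
  obtain ⟨a, ha, ha1⟩ := h.exists_A x
  have hu := h.Out_mul hw (h.T_fix wx) ha
  have ux : (w * a) • x = x := h.T_fix (mul_mem wx (h.A_le x ha))
  have cm : ∀ s ∈ T x, s ∈ T b → s * (w * a) = (w * a) * s := fun s h1 h2 => by
    rw [← mul_assoc, hc s h1 h2, mul_assoc, ← h.cen x a ha s h1, mul_assoc]
  obtain ⟨a', ha', h1⟩ := (h.ln hu).s3 x ux v vx' (c1_iff.mpr (cm v vx' vb'))
    fun z _ => by rw [hv, one_smul]
  obtain ⟨z, hz, uz⟩ := h.exists_fix_ne h.faith hu x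
  have f1 : ∀ z : Ω, (w * a) • z = z → (a' * v) • z = z := fun z hz => by
    rw [mul_smul, h1 z hz, ← mul_smul, h.sq x a' ha', one_smul]
  have m1 : a' * v ∈ T x := mul_mem (h.A_le x ha') vx'
  have c1 : (a' * v) * w = w * (a' * v) := by
    rw [mul_assoc, hc v vx' vb', ← mul_assoc, h.cen x a' ha' w wx, mul_assoc]
  have m2 : r * (a' * v) * r⁻¹ * (a' * v)⁻¹ ∈ T x :=
    mul_mem (mul_mem (mul_mem rx m1) (inv_mem rx)) (inv_mem m1)
  have key := h.eq_one_of_fix hw hne.symm (h.T_fix wx) (h.T_fix wb) (h.T_two m2) (h.T_fix m2)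
    (z := z) (by
      have k1 : w • (a' * v)⁻¹ • b = (a' * v)⁻¹ • b :=
        cen_smul (c1_iff.mp (inv_mem (c1_iff.mpr c1))) (h.T_fix wb)
      rw [mul_smul, mul_smul, h.R_fix hw hne.symm (h.T_fix wx) (h.T_fix wb) (h.T_two (inv_mem rx))
        (h.T_fix (inv_mem rx)) (h.T_fix (inv_mem rb)) k1, mul_smul, smul_inv_smul, h.T_fix rb])
    (h.not_fix ha ha1 hz uz hw.1.2) (by
      rw [mul_smul, smul_inv_of (f1 z uz), mul_smul, mul_smul,
        f1 _ (cen_smul (cm _ (inv_mem rx) (inv_mem rb)) uz), smul_inv_smul])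
  have k2 := comm_of_eq_one key
  have k3 := h.cen x a' ha' r rx
  calc r * v = a' * (a' * r) * v := by rw [← mul_assoc a', h.sq x a' ha', one_mul]
    _ = a' * (r * (a' * v)) := by rw [k3]; group
    _ = v * r := by rw [k2, ← mul_assoc, ← mul_assoc, h.sq x a' ha', one_mul]

theorem mem_T_of_fix {w v : G} (hw : Out A w) {x b : Ω} (hne : b ≠ x) (hx : w • x = x)
    (hb : w • b = b) (vx : v ∈ T x) (vb : v ∈ T b) (z : Ω) (hz : w • z = z) : v ∈ T z :=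
  (h.memT _ _).2 ⟨h.R_fix hw hne.symm hx hb (h.T_two vx) (h.T_fix vx) (h.T_fix vb) hz, h.T_two vx⟩

/-- `N_T(ℓ) = C_T(w)` -/
theorem cen_of_line {w y : G} (hw : Out A w) {x b : Ω} (hne : b ≠ x) (hx : w • x = x)
    (hb : w • b = b) (hy : y ∈ T x) (hyb : w • y • b = y • b) : y * w = w * y := by
  obtain ⟨s, hs, r, hr, rb, rfl, h1⟩ := h.decomp hw hne hx hb hy hyb
  rw [mul_assoc, h.R_cen hne hx hb hw.1.2 hr rb, ← mul_assoc,
    ← h1 w fun z hz => h.T_of_sq hz hw.1.2, mul_assoc]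

theorem cen_of_cen {w v y : G} (hw : Out A w) {x b : Ω} (hne : b ≠ x) (hx : w • x = x)
    (hb : w • b = b) (vx : v • x = x) (vb : v • b = b) (hv : v * v = 1) (hy : y ∈ T x)
    (hc : y * w = w * y) : y * v = v * y := by
  by_cases hv1 : v = 1
  · simp [hv1]
  have ho := h.out_of_two ⟨hv1, hv⟩ hne vb vx
  refine h.cen_of_line ho hne vx vb hy ?_
  have := h.Fx_eq' hw ho hne hb hx vb vx
  exact show y • b ∈ Fx Ω v from this ▸ cen_smul hc hb

/-- an element of `C_T(w)` whose square fixes the line lies in `A R` -/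
theorem sq_decomp {w y : G} (hw : Out A w) {x b : Ω} (hne : b ≠ x) (hx : w • x = x)
    (hb : w • b = b) (hy : y ∈ T x) (hc : y * w = w * y) (h2 : (y * y) • b = b) :
    ∃ a ∈ A x, a * y ∈ T b := by
  have y2 := mul_mem hy hy
  obtain ⟨a, ha, h1⟩ := (h.ln hw).s3 x hx y hy (c1_iff.mpr hc) fun z hz =>
    h.R_fix hw hne hb hx (h.T_two y2) h2 (h.T_fix y2) hz
  exact ⟨a, ha, (h.memT _ _).2 ⟨by rw [mul_smul, h1 b hb, ← mul_smul, h.sq x a ha, one_smul],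
    h.T_two (mul_mem (h.A_le x ha) hy)⟩⟩

theorem orbit_line {w : G} (hw : Out A w) {x b : Ω} (hne : b ≠ x) (hx : w • x = x)
    (hb : w • b = b) : {z | ∃ g ∈ T x ⊓ Cen1 w, g • b = z} = Fx Ω w \ {x} := by
  ext z
  constructor
  · rintro ⟨g, hg, rfl⟩
    exact ⟨cen_smul (c1_iff.mp hg.2) hb, fun e => hne (MulAction.injective g
      ((Set.mem_singleton_iff.mp e).trans (h.T_fix hg.1).symm))⟩
  · rintro ⟨h1, h2⟩
    obtain ⟨s, hs, -, h3⟩ := (h.ln hw).s2 x hx b hb z h1 hne h2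
    exact ⟨s, ⟨hs, c1_iff.mpr (h.cen_of_line hw hne hx hb hs (h3 ▸ h1))⟩, h3⟩

theorem card_cen {w : G} (hw : Out A w) {x b : Ω} (hne : b ≠ x) (hx : w • x = x)
    (hb : w • b = b) {N : ℕ} (hN : (Fx Ω w).ncard = N + 1) :
    Nat.card ↥(T x ⊓ Cen1 w) = N * Nat.card ↥(T x ⊓ T b) := by
  rw [card_eq_orbit_mul _ b, h.orbit_line hw hne hx hb, 
    Set.ncard_sdiff_singleton_of_mem (mem_Fx.mpr hx), hN]
  congr 2
  refine congrArg _ (le_antisymm (fun g hg => ⟨hg.1.1, (h.memT _ _).2 ⟨hg.2, h.T_two hg.1.1⟩⟩)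
    fun g hg => ⟨⟨hg.1, c1_iff.mpr (h.R_cen hne hx hb hw.1.2 hg.1 hg.2)⟩, h.T_fix hg.2⟩)

omit [Finite Ω] in
theorem card_PW {w : G} (hw : Out A w) {x : Ω} (hx : w • x = x) :
    Nat.card (h.PW x w) = q * Nat.card ↥(T x ⊓ Cen1 w) := by
  rw [card_eq_conj_mul _ w]
  congr 1
  · refine Eq.trans ?_ ((Nat.card_coe_set_eq (A x : Set G)).symm.trans (h.card x))
    rw [← Set.ncard_image_of_injective (A x : Set G) (mul_left_injective w)]
    congr 1; ext z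
    constructor
    · rintro ⟨g, hg, rfl⟩
      exact ⟨_, hg.2, by simp⟩
    · rintro ⟨a, ha, rfl⟩
      obtain ⟨y, hy, e⟩ := h.fuse h.faith hw hx ha
      have c := h.cen x a ha w (h.T_of_sq hx hw.1.2)
      exact ⟨y, ⟨hy, by rw [e, ← c]; simpa using ha⟩, e.trans c.symm⟩
  · refine congrArg _ (congrArg _ (le_antisymm (fun g hg => ⟨hg.1.1, hg.2⟩) fun g hg =>
      ⟨⟨hg.1, by rw [c1_iff'.mp hg.2]; simp⟩, hg.2⟩))

end Cx

end Hz
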