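import Cfsg.Agent.Hz.Z4

/-! Double transitivity. -/

set_option autoImplicit false

namespace Hz

open Cfsg Subgroup FT H4 BS

universe u

section Gen

variable {G : Type*} [Group G]

theorem zstar_amb [Finite G] {M : Subgroup G} {t : G} (htM : t ∈ M) (ht : BS.Inv t)
    (h : ∀ g ∈ M, t * (g * t * g⁻¹) = (g * t * g⁻¹) * t → g * t * g⁻¹ = t) {g : G} (hg : g ∈ M) :
    g * t * g⁻¹ * t ∈ Od M := by
  have h1 : InZStar 2 (⟨t, htM⟩ : M) := L.zstar' (by rw [← orderOf_coe]; exact ht.orderOf)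
    fun g hc => Subtype.ext (h g g.2 (congrArg Subtype.val hc.eq))
  rw [Od, piCoreOf_compl_singleton]
  exact ⟨_, h1 ⟨g, hg⟩, by simp [ht.inv]⟩

theorem zstar_amb' [Finite G] {M : Subgroup G} {t : G} (htM : t ∈ M) (ht : BS.Inv t)
    (h : ∀ g ∈ M, t * (g * t * g⁻¹) = (g * t * g⁻¹) * t → g * t * g⁻¹ = t) {g : G} (hg : g ∈ M) :
    ∃ o ∈ Od M, ∃ c ∈ M, c * t = t * c ∧ g = o * c := by
  have h1 := zstar_amb htM ht h hg
  obtain ⟨n, -, -, e⟩ := BS.exists_swap ht.2 (ht.conj g).2 (odd_orderOf_of_mem (odd_Od M) h1)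
  have h2 := pow_mem h1 n
  refine ⟨_, h2, ((g * t * g⁻¹ * t) ^ n)⁻¹ * g, mul_mem (inv_mem (piCoreOf_le _ _ h2)) hg, ?_,
    by group⟩
  generalize (g * t * g⁻¹ * t) ^ n = o at e
  calc o⁻¹ * g * t = o⁻¹ * (g * t * g⁻¹) * g := by group
    _ = t * (o⁻¹ * g) := by rw [← e]; group

theorem isPGroup_zpowers {p k : ℕ} {x : G} (h : x ^ p ^ k = 1) : IsPGroup p (zpowers x) := by
  rintro ⟨_, n, rfl⟩
  refine ⟨k, Subtype.ext ?_⟩
  show (x ^ n) ^ p ^ k = 1
  rw [← zpow_natCast, ← zpow_mul, mul_comm, zpow_mul, zpow_natCast, h, one_zpow]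

theorem exists_p_part [Finite G] {p : ℕ} (hp : p.Prime) (z : G) :
    ∃ m k : ℕ, ¬ p ∣ m ∧ (z ^ m) ^ p ^ k = 1 := by
  obtain ⟨k, m, hm, e⟩ := Nat.exists_eq_pow_mul_and_not_dvd (orderOf_pos z).ne' p hp.ne_one
  exact ⟨m, k, hm, by rw [← pow_mul, mul_comm, ← e, pow_orderOf_eq_one]⟩

theorem mem_of_pow_mem [Finite G] {p m k : ℕ} (hp : p.Prime) {g : G} {O : Subgroup G}
    (hm : ¬ p ∣ m) (h1 : g ^ p ^ k = 1) (h2 : g ^ m ∈ O) : g ∈ O := by
  have hc : m.Coprime (orderOf g) := Nat.Coprime.coprime_dvd_right (orderOf_dvd_of_pow_eq_one h1)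
    (((Nat.Prime.coprime_iff_not_dvd hp).mpr hm).symm.pow_right k)
  obtain ⟨j, hj⟩ := exists_pow_eq_self_of_coprime hc
  rw [← hj]; exact pow_mem h2 j

theorem pow_mul_mem {O : Subgroup G} {o z : G} (ho : o ∈ O) (hz : z ∈ Nor O) (m : ℕ) :
    (o * z) ^ m * (z ^ m)⁻¹ ∈ O := by
  induction m with
  | zero => simp
  | succ m ih =>
    have := (mem_normalizer_iff.mp (pow_mem hz m) o).mp ho
    exact H5.mem_of_eq (mul_mem ih this) (by rw [pow_succ, pow_succ]; group)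

theorem fix_of_sq {Ω : Type*} [MulAction G Ω] {g : G} (ho : Odd (orderOf g)) {x : Ω}
    (h : (g * g) • x = x) : g • x = x := by
  obtain ⟨k, hk⟩ := ho
  have : g = (g * g) ^ (k + 1) := by
    rw [← pow_two, ← pow_mul, show 2 * (k + 1) = orderOf g + 1 by omega, pow_succ,
      pow_orderOf_eq_one, one_mul]
  rw [this]; exact smul_pow_of h _

theorem Two.exists_move {Ω : Type*} [MulAction G Ω] {s : G} (h : Two s) {x : Ω}
    (hx : s • x ≠ x) : ∃ k : ℕ, s ^ k • x ≠ x ∧ (s ^ k * s ^ k) • x = x := by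
  obtain ⟨k, hk⟩ := h
  have : s ^ 2 ^ k • x = x := by rw [hk, one_smul]
  clear hk
  induction k with
  | zero => exact absurd (by simpa using this) hx
  | succ k ih =>
    by_cases h2 : s ^ 2 ^ k • x = x
    · exact ih h2
    · exact ⟨2 ^ k, h2, by rw [← pow_add, ← two_mul, ← pow_succ', this]⟩

/-- the stabilizer of `{x, y}` -/
def St2 (G : Type*) [Group G] {Ω : Type*} [MulAction G Ω] (x y : Ω) : Subgroup G where
  carrier := {g | (g • x = x ∧ g • y = y) ∨ (g • x = y ∧ g • y = x)}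
  one_mem' := Or.inl ⟨one_smul _ _, one_smul _ _⟩
  mul_mem' := by
    rintro a b (⟨h1, h2⟩ | ⟨h1, h2⟩) (⟨h3, h4⟩ | ⟨h3, h4⟩) <;> simp [mul_smul, *]
  inv_mem' := by
    rintro a (⟨h1, h2⟩ | ⟨h1, h2⟩)
    · exact Or.inl ⟨smul_inv_of h1, smul_inv_of h2⟩
    · exact Or.inr ⟨inv_smul_eq_iff.mpr h2.symm, inv_smul_eq_iff.mpr h1.symm⟩

end Gen

section ZD

variable {G : Type*} [Group G] {Ω : Type*} [MulAction G Ω] [Finite G]
  {A T : Ω → Subgroup G} {q : ℕ}

namespace ZD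

variable (h : ZD A T q)
include h

theorem even_q (x : Ω) : Even q := by
  obtain ⟨a, ha, ha1⟩ := h.exists_A x
  rw [← h.card x]
  exact even_of_inv ha ha1 (h.sq x a ha)

theorem q_pow (x : Ω) : ∃ k, q = 2 ^ k := by
  obtain ⟨k, hk⟩ := ((h.T_pgroup x).to_le (h.A_le x)).exists_card_eq
  exact ⟨k, (h.card x).symm.trans hk⟩

theorem odd_K {x y : Ω} {c c' : G} (hne : x ≠ y) (hc : InD A c) (hc' : InD A c') (e : c • x = y)
    (e' : c' • x = y) : Odd (orderOf (c * c')) := by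
  obtain ⟨z, hz, hz1⟩ := id hc
  obtain ⟨z', hz', hz1'⟩ := id hc'
  by_cases hzz : z = z'
  · subst hzz
    rw [← h.D_eq_of_comm hc hc' (h.comm hz hz') (e.trans e'.symm) (by rw [e]; exact hne.symm),
      h.sq z c hz, orderOf_one]
    exact odd_one
  · exact h.odd_mul hz hz1 hz' hz1' hzz

omit [Finite G] in
theorem inv_D {c y : G} (hc : InD A c) (hi : c * y * c = y⁻¹) (ho : Odd (orderOf y)) :
    InD A (c * y) := by
  obtain ⟨k, hk⟩ := exists_sqrt ho
  have h1 := inv_conj_pow (h.D_inv hc).2 hi k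
  have := h.D_conj hc (y ^ k)⁻¹
  rwa [inv_inv, ← h1, mul_assoc _ c c, (h.D_inv hc).2, mul_one, mul_assoc, hk] at this

theorem K_semi {x x' : Ω} {c y a : G} (hne : x ≠ x') (hc : InD A c) (e : c • x = x')
    (hi : c * y * c = y⁻¹) (ho : Odd (orderOf y)) (yx : y • x = x) (ha : a ∈ A x) (ha1 : a ≠ 1)
    (hya : y * a = a * y) : y = 1 := by
  have := h.swap_uniq ha ha1 hne (h.inv_D hc hi ho) hc (by rw [mul_smul, yx, e]) e (by
    calc c * y * a * (c * y) = c * (y * a) * (c * y) := by group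
      _ = c * a * c * ((c * c) * c⁻¹ * y * c * y) := by rw [hya, (h.D_inv hc).2]; group
      _ = c * a * c * (c * y * c * y) := by rw [(h.D_inv hc).2, (h.D_inv hc).inv, one_mul]
      _ = c * a * c := by rw [hi]; group)
  simpa using this

omit [Finite G] in
theorem K_fix2 {x x' : Ω} {c y : G} (hc : InD A c) (e : c • x = x') (hi : c * y * c = y⁻¹)
    (yx : y • x = x) : y • x' = x' := by
  rw [← e, ← mul_smul, show y * c = c * y⁻¹ by
    rw [← hi, ← mul_assoc, ← mul_assoc, (h.D_inv hc).2, one_mul], mul_smul, smul_inv_of yx]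

theorem exists_inverted {x x' : Ω} {c : G} (hne : x ≠ x') (hc : InD A c) (e : c • x = x')
    {p : ℕ} [Fact p.Prime] (hp : p ∣ q - 1) :
    ∃ y : G, y ≠ 1 ∧ (∃ k, y ^ p ^ k = 1) ∧ c * y * c = y⁻¹ ∧ y • x = x := by
  have ci := h.D_inv hc
  have cM : c ∈ St2 G x x' := Or.inr ⟨e, h.D_swap hc e⟩
  have cj : ∀ g ∈ St2 G x x', (g * c * g⁻¹) • x = x' := by
    rintro g (⟨h1, h2⟩ | ⟨h1, h2⟩)
    · rw [mul_smul, mul_smul, smul_inv_of h1, e, h2]
    · rw [mul_smul, mul_smul, inv_smul_eq_iff.mpr h2.symm, h.D_swap hc e, h1]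
  have zs := fun g (hg : g ∈ St2 G x x') => zstar_amb cM ci (fun g hg hh => h.D_eq_of_comm
    (h.D_conj hc g) hc hh.symm ((cj g hg).trans e.symm) (by rw [cj g hg]; exact hne.symm)) hg
  set O := Od (St2 G x x') with hO
  have oM : O ≤ St2 G x x' := piCoreOf_le _ _
  have h1 := card_eq_conj_mul O c
  have h2 : {z | ∃ g ∈ O, g * c * g⁻¹ = z} = {c : G | InD A c ∧ c • x = x'} := by
    ext c'
    constructor
    · rintro ⟨g, hg, rfl⟩
      exact ⟨h.D_conj hc g, cj g (oM hg)⟩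
    · rintro ⟨hc', e'⟩
      obtain ⟨n, -, -, h3⟩ := BS.exists_swap ci.2 (h.D_inv hc').2 (h.odd_K hne hc' hc e' e)
      have h4 := zs _ (pow_mem (mul_mem (show c' ∈ St2 G x x' from Or.inr ⟨e', h.D_swap hc' e'⟩)
        cM) n)
      rw [h3] at h4
      exact ⟨_, pow_mem h4 n, h3⟩
  rw [h2, h.ncard_swap hne] at h1
  obtain ⟨P, hP, hn⟩ := H5.exists_invariant_isSylowOf p (A := zpowers c) (K := O)
    (zpowers_le.mpr (le_nor_piCoreOf _ _ cM)) (ci.coprime (odd_Od _)) (Or.inl (solv_zpowers c))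
  have h3 : ¬ P ≤ Cen1 c := fun hle => by
    have k1 := H5.card_mul_relIndex (inf_le_left : O ⊓ Cen1 c ≤ O)
    have k2 : (O ⊓ Cen1 c).relIndex O = q - 1 :=
      Nat.eq_of_mul_eq_mul_left Nat.card_pos (k1.trans (h1.trans (mul_comm _ _)))
    exact hP.not_dvd (hp.trans (k2 ▸ relIndex_dvd_of_le_left O (le_inf hP.le hle)))
  obtain ⟨x0, hx0, h4⟩ := SetLike.not_le_iff_exists.mp h3
  have h5 : x0⁻¹ * (c * x0 * c) ∈ P :=
    mul_mem (inv_mem hx0) (conj_mem_of_inv ci.2 (hn (mem_zpowers c)) hx0)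
  refine ⟨x0⁻¹ * (c * x0 * c), fun e1 => h4 (c1_iff.mpr ?_), ?_, ?_, ?_⟩
  · have := inv_mul_eq_one.mp e1
    calc x0 * c = c * x0 * c * c := by rw [← this]
      _ = c * x0 := by rw [mul_assoc, ci.2, mul_one]
  · obtain ⟨k, hk⟩ := hP.isPGroup ⟨_, h5⟩
    exact ⟨k, congrArg Subtype.val hk⟩
  · rw [mul_inv_rev, mul_inv_rev, mul_inv_rev, ci.inv, inv_inv]
    calc c * (x0⁻¹ * (c * x0 * c)) * c = c * x0⁻¹ * c * x0 * (c * c) := by group
      _ = _ := by rw [ci.2]; group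
  · refine fix_of_sq (odd_orderOf_of_mem (odd_Od _) (hP.le h5)) ?_
    rcases oM (hP.le h5) with ⟨k1, -⟩ | ⟨k1, k2⟩
    · rw [mul_smul, k1, k1]
    · rw [mul_smul, k1, k2]

theorem exists_sylow {c y : G} (hc : InD A c) (hi : c * y * c = y⁻¹) (hy1 : y ≠ 1) {p k : ℕ}
    [hp : Fact p.Prime] (hp2 : Odd p) (hy : y ^ p ^ k = 1) :
    ∃ P, H5.IsSylowOf p P ⊤ ∧ c ∈ Nor P ∧ y ∈ P := by
  have ci := h.D_inv hc
  have od : ∀ {P : Subgroup G}, IsPGroup p P → Odd (Nat.card P) := fun hP => by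
    obtain ⟨n, hn⟩ := hP.exists_card_eq
    rw [hn]; exact hp2.pow
  obtain ⟨P, ⟨hP, cP, yP⟩, hmax⟩ := Set.Finite.exists_maximal
    (Set.toFinite {P : Subgroup G | IsPGroup p P ∧ c ∈ Nor P ∧ y ∈ P})
    ⟨zpowers y, isPGroup_zpowers hy, H5.mem_normalizer_of_forall (by
      rintro _ ⟨n, rfl⟩
      refine ⟨-n, ?_⟩
      show y ^ (-n) = c * y ^ n * c⁻¹
      rw [← conj_zpow, ci.inv, hi, inv_zpow']), mem_zpowers y⟩
  refine ⟨P, H5.IsSylowOf.of_normalizer ?_, cP, yP⟩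
  rw [top_inf_eq]
  obtain ⟨z, hz, hz1⟩ := id hc
  have iso : ∀ g ∈ Nor P, c * (g * c * g⁻¹) = (g * c * g⁻¹) * c → g * c * g⁻¹ = c := by
    intro g hg hh
    by_contra hne
    have hd := h.D_conj hc g
    have ha := h.mem_A hd (h.cen_fix hz hz1 hh.symm)
    have i2 := h.D_inv hd
    have hle : P ≤ St G z := le_of_four ci i2 (Ne.symm hne) hh (od hP) cP
      (mul_mem (mul_mem hg cP) (inv_mem hg)) (fun g hg => h.cen_fix hz hz1 (c1_iff.mp hg.2))
      (fun g hg => h.cen_fix ha i2.1 (c1_iff.mp hg.2))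
      fun g hg => h.cen_fix (mul_mem hz ha) (ci.mul i2 (Ne.symm hne) hh).1 (c1_iff.mp hg.2)
    have k1 : y * y ∈ A z := H5.mem_of_eq (mul_mem (h.conj' (hle yP) hz) hz) (Eq.symm <| by
      calc y * y = y * (c * c) * y * (c * c) := by rw [ci.2]; group
        _ = y * c * (c * y * c) * c := by group
        _ = y * c * y⁻¹ * c := by rw [hi])
    have k2 := odd_orderOf_of_mem (od hP) yP
    exact hy1 (eq_one_of_odd_of_sq k2 (eq_one_of_odd_of_sq
      (odd_orderOf_of_mem (od hP) (mul_mem yP yP)) (h.sq z _ k1)))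
  have PO : P ≤ Od (Nor P) := le_Od le_normalizer le_rfl (od hP)
  obtain ⟨Q, hQ, cQ, PQ⟩ := H5.exists_invariant_isSylowOf_ge (q := p) (A := zpowers c)
    (K := Od (Nor P)) (zpowers_le.mpr (le_nor_piCoreOf _ _ cP)) (ci.coprime (odd_Od _))
    (Or.inl (solv_zpowers c)) hP PO (zpowers_le.mpr cP)
  have QP : Q ≤ P := hmax ⟨hQ.isPGroup, cQ (mem_zpowers c), PQ yP⟩ PQ
  refine H5.isSylowOf_of_maximal le_normalizer hP fun R hR PR RN => ?_
  have RO : R ≤ Od (Nor P) := fun g hg => by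
    obtain ⟨o, ho, z, hzN, hzc, e⟩ := zstar_amb' cP ci iso (RN hg)
    obtain ⟨m, j, hm, h1⟩ := exists_p_part hp.out z
    have h2 : P ⊔ zpowers (z ^ m) ≤ P := hmax ⟨hP.to_sup_of_normal_left' (isPGroup_zpowers h1)
      (zpowers_le.mpr (pow_mem hzN m)), le_normalizer_sup (H := zpowers c) (zpowers_le.mpr cP)
        (zpowers_le.mpr (cen_le_nor _ (cen_iff.mpr (by
          rintro _ ⟨n, rfl⟩
          exact ((Commute.pow_left hzc m).zpow_left n).eq.symm)))) (mem_zpowers c),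
      mem_sup_left yP⟩ le_sup_left
    have h3 := mul_mem (pow_mul_mem ho (le_nor_piCoreOf _ _ hzN) m)
      (PO (h2 (mem_sup_right (mem_zpowers _))))
    obtain ⟨i, hi⟩ := hR ⟨g, hg⟩
    exact mem_of_pow_mem hp.out hm (congrArg Subtype.val hi) (by rw [e]; simpa using h3)
  rw [hQ.eq_of_le hR (QP.trans PR) RO]
  exact QP

end ZD

end ZD

variable {G Ω : Type u} [Group G] [Finite G] [MulAction G Ω] [Finite Ω] {A T : Ω → Subgroup G}
  {q : ℕ}

namespace Cx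

variable (h : Cx A T q)
include h

theorem K_fix_line {x x' z : Ω} {c y w : G} (hne : x ≠ x') (hc : InD A c) (e : c • x = x')
    (hi : c * y * c = y⁻¹) (ho : Odd (orderOf y)) (yx : y • x = x) (hy1 : y ≠ 1) (hw : Out A w)
    (wx : w • x = x) (wx' : w • x' = x') (wz : w • z = z) (yz : y • z = z) : z = x ∨ z = x' := by
  by_contra hn
  push Not at hn
  have yx' := h.K_fix2 hc e hi yx
  obtain ⟨s, hs, -, h1⟩ := (h.ln hw).s2 x wx x' wx' z wz hne.symm hn.1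
  have sw := h.cen_of_line hw hne.symm wx wx' hs (h1 ▸ wz)
  have m1 : s⁻¹ * (y * s * y⁻¹) ∈ T x := mul_mem (inv_mem hs) (h.T_conj' yx hs)
  have f1 : (s⁻¹ * (y * s * y⁻¹)) • x' = x' := by
    rw [mul_smul, mul_smul, mul_smul, smul_inv_of yx', h1, yz, ← h1, inv_smul_smul]
  have key : ∀ k : ℕ, y • s ^ k • x' = s ^ k • x' := fun k => by
    induction k with
    | zero => simpa using yx'
    | succ k ih =>
      have := h.R_fix hw hne wx wx' (h.T_two m1) (h.T_fix m1) f1 (cen_smul (pow_comm_of sw k) wx')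
      rw [mul_smul, inv_smul_eq_iff, mul_smul, mul_smul, smul_inv_of ih] at this
      rw [pow_succ', mul_smul, this]
  obtain ⟨k, h2, h3⟩ := (h.T_two hs).exists_move (x := x') (by rw [h1]; exact hn.2)
  obtain ⟨a, ha, h4⟩ := h.sq_decomp hw hne.symm wx wx' (pow_mem hs k) (pow_comm_of sw k) h3
  have h5 : a • x' = s ^ k • x' := by
    have := h.T_fix h4
    rw [mul_smul] at this
    rw [← this, ← mul_smul, h.sq x a ha, one_smul, this]
  have ha1 : a ≠ 1 := fun e => h2 (by rw [← h5, e, one_smul])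
  refine hy1 (h.K_semi hne hc e hi ho yx ha ha1 (comm_of_eq_one ?_))
  by_contra h6
  refine hne (h.uniq x x' _ (mul_mem (h.conj' yx ha) (inv_mem ha)) h6 ?_).symm
  rw [← h.comm (inv_mem ha) (h.conj' yx ha), mul_smul, mul_smul, mul_smul, smul_inv_of yx', h5,
    key, ← h5, inv_smul_smul]

theorem K_fix_only {x x' z : Ω} {c y w : G} (hne : x ≠ x') (hc : InD A c) (e : c • x = x')
    (hi : c * y * c = y⁻¹) (ho : Odd (orderOf y)) (yx : y • x = x) (hy1 : y ≠ 1) (hw : Out A w)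
    (wx : w • x = x) (wx' : w • x' = x') (yz : y • z = z) : z = x ∨ z = x' := by
  by_cases wz : w • z = z
  · exact h.K_fix_line hne hc e hi ho yx hy1 hw wx wx' wz yz
  exfalso
  have ci := h.D_inv hc
  have tx := h.T_of_sq wx hw.1.2
  have tx' := h.T_of_sq wx' hw.1.2
  have yw : y * w = w * y := by
    have k1 := h.swap_cenT hne hc e tx tx'
    have k2 := h.swap_cenT hne (h.inv_D hc hi ho) (by rw [mul_smul, yx, e]) tx tx'
    calc y * w = c * (c * y * w) := by rw [← mul_assoc, ← mul_assoc, ci.2, one_mul]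
      _ = (c * c) * w * y := by rw [← k2, ← mul_assoc w, k1]; group
      _ = w * y := by rw [ci.2, one_mul]
  obtain ⟨d, hd, h1, h2⟩ := h.exists_comp hw.1.2 wz
  have h3 := h.comp_uniq hw.1.2 wz (h.D_conj hd y) (by
      calc y * d * y⁻¹ * w = y * d * (y⁻¹ * (w * y)) * y⁻¹ := by group
        _ = y * (d * w) * y⁻¹ := by rw [← yw]; group
        _ = w * (y * d * y⁻¹) := by rw [h1, ← mul_assoc, yw]; group)
    (by rw [mul_smul, mul_smul, smul_inv_of yz, h2, ← mul_smul, yw, mul_smul, yz]) hd h1 h2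
  have h4 : y * d = d * y := mul_inv_eq_iff_eq_mul.mp h3
  obtain ⟨v, hv, hv1⟩ := hd
  rcases h.K_fix_line hne hc e hi ho yx hy1 hw wx wx' (h.cen_fix hv hv1 h1.symm)
    (h.cen_fix hv hv1 h4) with rfl | rfl
  · exact hy1 (h.K_semi hne hc e hi ho yx hv hv1 h4)
  · exact hy1 (h.K_semi hne.symm hc (h.D_swap hc e) hi ho (h.K_fix2 hc e hi yx) hv hv1 h4)

theorem N_cases {w : G} (hw : Out A w) {N : ℕ} (hN : (Fx Ω w).ncard = N + 1) :
    N = q ∨ N = q ^ 2 ∨ N = q ^ 3 := by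
  have := (h.ln hw).s4
  omega

theorem card_mod {w : G} (hw : Out A w) : Nat.card Ω ≡ 2 [MOD q - 1] := by
  obtain ⟨N, -, h1, h2⟩ := h.count h.faith hw
  have h4 := h.four
  have hq : q ≡ 1 [MOD q - 1] := ((Nat.modEq_iff_dvd' (by omega)).mpr dvd_rfl).symm
  have hN : N ≡ 1 [MOD q - 1] := by
    rcases h.N_cases hw h1 with rfl | rfl | rfl
    · exact hq
    · simpa using hq.pow 2
    · simpa using hq.pow 3
  rw [h2]
  have : 1 + (q - 1) * N ≡ 1 [MOD q - 1] := by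
    simp
  simpa using (hN.add_right 1).mul this

theorem pair {w : G} (hw : Out A w) {a b : Ω} (hab : a ≠ b) (wa : w • a = a) (wb : w • b = b)
    {x y : Ω} (hne : x ≠ y) : ∃ g : G, g • a = x ∧ g • b = y := by
  have h4 := h.four
  obtain ⟨p, hp, hpq⟩ := Nat.exists_prime_and_dvd (n := q - 1) (by omega)
  haveI : Fact p.Prime := ⟨hp⟩
  have po : Odd p := (Nat.Even.sub_odd (by omega) (h.even_q x) odd_one).of_dvd_nat hpq
  have oo : ∀ {y : G} {k : ℕ}, y ^ p ^ k = 1 → Odd (orderOf y) := fun e =>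
    po.pow.of_dvd_nat (orderOf_dvd_of_pow_eq_one e)
  obtain ⟨c0, hc0, e0⟩ := h.exists_swap' hab
  obtain ⟨y0, y01, ⟨k0, hk0⟩, i0, f0⟩ := h.exists_inverted hab hc0 e0 hpq
  obtain ⟨P0, hP0, -, m0⟩ := h.exists_sylow hc0 i0 y01 po hk0
  have sub : MulAction.fixedPoints P0 Ω ⊆ {a, b} := fun z hz =>
    h.K_fix_only hab hc0 e0 i0 (oo hk0) f0 y01 hw wa wb (hz ⟨y0, m0⟩)
  have eq : MulAction.fixedPoints P0 Ω = {a, b} := by
    refine Set.eq_of_subset_of_ncard_le sub ?_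
    have k1 := (hP0.isPGroup.card_modEq_card_fixedPoints Ω).symm.trans
      ((h.card_mod hw).of_dvd hpq)
    have k2 := Set.ncard_le_ncard sub
    rw [Set.ncard_pair hab] at k2 ⊢
    rw [Nat.card_coe_set_eq] at k1
    have k3 : 2 < p := by
      have := hp.two_le
      obtain ⟨j, hj⟩ := po
      omega
    exact (Nat.ModEq.eq_of_lt_of_lt k1 (by omega) k3).ge
  have fa : ∀ g ∈ P0, g • a = a := fun g hg =>
    (show a ∈ MulAction.fixedPoints P0 Ω from eq ▸ Or.inl rfl) ⟨g, hg⟩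
  have fb : ∀ g ∈ P0, g • b = b := fun g hg =>
    (show b ∈ MulAction.fixedPoints P0 Ω from eq ▸ Or.inr rfl) ⟨g, hg⟩
  obtain ⟨c, hc, e⟩ := h.exists_swap' hne
  obtain ⟨y1, y11, ⟨k1, hk1⟩, i1, f1⟩ := h.exists_inverted hne hc e hpq
  obtain ⟨P1, hP1, n1, m1⟩ := h.exists_sylow hc i1 y11 po hk1
  obtain ⟨g, -, hg⟩ := hP1.exists_conj hP0
  have hd := h.D_conj hc g
  have dn : g * c * g⁻¹ ∈ Nor P0 := by
    rw [← hg]; exact (conjS_normalizer g P1).le ⟨c, n1, rfl⟩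
  have yP : g * y1 * g⁻¹ ∈ P0 := hg ▸ ⟨y1, m1, rfl⟩
  have id : g * c * g⁻¹ * (g * y1 * g⁻¹) * (g * c * g⁻¹) = (g * y1 * g⁻¹)⁻¹ := by
    calc _ = g * (c * y1 * c) * g⁻¹ := by group
      _ = _ := by rw [i1]; group
  have mv : ∀ z : Ω, (∀ g ∈ P0, g • z = z) → (g * c * g⁻¹) • z = a ∨ (g * c * g⁻¹) • z = b :=
    fun z hz => sub fun s => le_St_smul (fun s hs => hz s hs) dn s.2
  have da : (g * c * g⁻¹) • a = b := by
    rcases mv a fa with k | k
    · rcases mv b fb with k' | k'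
      · exact absurd (MulAction.injective _ (k.trans k'.symm)) hab
      · exact absurd (h.uniq a b _ (h.mem_A hd k) (h.D_inv hd).1 k') hab.symm
    · exact k
  have only := fun z (hz : y1 • z = z) => h.K_fix_only hab hd da id
    (oo (k := k1) (by rw [conj_pow, hk1]; group)) (fa _ yP) (fun e => y11 (by simpa using e)) hw wa
    wb (conj_smul (g := g) hz)
  rcases only x f1 with k | k <;> rcases only y (h.K_fix2 hc e i1 f1) with k' | k'
  · exact absurd (MulAction.injective _ (k.trans k'.symm)) hne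
  · exact ⟨g⁻¹, inv_smul_eq_iff.mpr k.symm, inv_smul_eq_iff.mpr k'.symm⟩
  · exact ⟨g⁻¹ * c0, by rw [mul_smul, e0, inv_smul_eq_iff, k],
      by rw [mul_smul, h.D_swap hc0 e0, inv_smul_eq_iff, k']⟩
  · exact absurd (MulAction.injective _ (k.trans k'.symm)) hne

theorem two_trans {w : G} (hw : Out A w) {x y x' y' : Ω} (hne : x ≠ y) (hne' : x' ≠ y') :
    ∃ g : G, g • x = x' ∧ g • y = y' := by
  obtain ⟨-, a, -, -, -, wa, -⟩ := h.exists_two h.faith hw.1
  obtain ⟨b, hb, wb⟩ := h.exists_fix_ne h.faith hw a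
  obtain ⟨g, g1, g2⟩ := h.pair hw hb.symm wa wb hne
  obtain ⟨k, k1, k2⟩ := h.pair hw hb.symm wa wb hne'
  exact ⟨k * g⁻¹, by rw [mul_smul, ← g1, inv_smul_smul, k1],
    by rw [mul_smul, ← g2, inv_smul_smul, k2]⟩

theorem collinear {w : G} (hw : Out A w) {x y : Ω} (hne : x ≠ y) :
    ∃ v, Out A v ∧ v • x = x ∧ v • y = y := by
  obtain ⟨-, a, -, -, -, wa, -⟩ := h.exists_two h.faith hw.1
  obtain ⟨b, hb, wb⟩ := h.exists_fix_ne h.faith hw a
  obtain ⟨g, g1, g2⟩ := h.pair hw hb.symm wa wb hne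
  exact ⟨_, h.Out_conj hw g, g1 ▸ conj_smul wa, g2 ▸ conj_smul wb⟩

end Cx

end Hz
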