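import Cfsg.Agent.Hz.Z5

/-! Counting the involutions of `T`. -/

set_option autoImplicit false

namespace Hz

open Cfsg Subgroup FT H4 BS

universe u

section Gen

variable {G : Type*} [Group G]

theorem two_pow_eq {i j a b : ℕ} (ha : Odd a) (hb : Odd b) (h : 2 ^ i * a = 2 ^ j * b) :
    2 ^ i = 2 ^ j :=
  Nat.dvd_antisymm (((Nat.coprime_two_left.mpr hb).pow_left i).dvd_of_dvd_mul_right ⟨a, h.symm⟩)
    (((Nat.coprime_two_left.mpr ha).pow_left j).dvd_of_dvd_mul_right ⟨b, h⟩)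

theorem ncard_coe (P : Subgroup G) : (P : Set G).ncard = Nat.card P := (Nat.card_coe_set_eq _).symm

theorem ncard_coset (P : Subgroup G) (t : G) : {y | y⁻¹ * t ∈ P}.ncard = Nat.card P := by
  rw [← ncard_coe, ← Set.ncard_image_of_injective (P : Set G) (f := fun u => t * u⁻¹)
    fun a b e => by simpa using e]
  congr 1; ext y
  exact ⟨fun hy => ⟨_, hy, by simp⟩, by rintro ⟨u, hu, rfl⟩; simpa using hu⟩

theorem exists_index_two [Finite G] {T J : Subgroup G} (hJ : J ≤ T) (hsq : ∀ y ∈ T, y * y ∈ J)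
    {w : G} (hw : w ∈ T) (hwJ : w ∉ J) : ∃ M, J ≤ M ∧ M ≤ T ∧ w ∉ M ∧ M.relIndex T = 2 := by
  obtain ⟨M, ⟨h1, h2, h3⟩, hmax⟩ := Set.Finite.exists_maximal
    (Set.toFinite {M : Subgroup G | J ≤ M ∧ M ≤ T ∧ w ∉ M}) ⟨J, le_rfl, hJ, hwJ⟩
  refine ⟨M, h1, h2, h3, index_eq_two_iff.mpr ⟨⟨w, hw⟩, fun ⟨b, hb⟩ => ?_⟩⟩
  have sq : ∀ y ∈ T, y * y ∈ M := fun y hy => h1 (hsq y hy)
  have cm : ∀ y ∈ T, ∀ z ∈ T, y * z * y⁻¹ * z⁻¹ ∈ M := fun y hy z hz =>
    H5.mem_of_eq (mul_mem (mul_mem (sq y hy) (sq _ (mul_mem (inv_mem hy) hz)))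
      (inv_mem (sq z hz))) (by group)
  show Xor (b * w ∈ M) (b ∈ M)
  by_cases hbM : b ∈ M
  · exact Or.inr ⟨hbM, fun e => h3 (by simpa using mul_mem (inv_mem hbM) e)⟩
  · refine Or.inl ⟨?_, hbM⟩
    let M' : Subgroup G :=
      { carrier := {y | y ∈ T ∧ (y ∈ M ∨ b * y ∈ M)}
        one_mem' := ⟨one_mem _, Or.inl (one_mem _)⟩
        mul_mem' := by
          rintro y z ⟨hy, k1 | k1⟩ ⟨hz, k2 | k2⟩ <;> refine ⟨mul_mem hy hz, ?_⟩
          · exact Or.inl (mul_mem k1 k2)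
          · exact Or.inr (H5.mem_of_eq (mul_mem (mul_mem (cm b hb y hy) k1) k2) (by group))
          · exact Or.inr (H5.mem_of_eq (mul_mem k1 k2) (by group))
          · exact Or.inl (H5.mem_of_eq (mul_mem (mul_mem (inv_mem (sq b hb))
              (mul_mem (cm b hb _ (mul_mem hb hy)) k1)) k2) (by group))
        inv_mem' := by
          rintro y ⟨hy, k1 | k1⟩
          · exact ⟨inv_mem hy, Or.inl (inv_mem k1)⟩
          · exact ⟨inv_mem hy, Or.inr (H5.mem_of_eq (mul_mem k1 (inv_mem (sq y hy))) (by group))⟩ }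
    by_contra hn
    exact hbM (hmax (y := M') ⟨fun y hy => ⟨hJ hy, Or.inl (h1 hy)⟩, fun y hy => hy.1,
      fun e => e.2.elim h3 hn⟩ (fun y hy => ⟨h2 hy, Or.inl hy⟩) ⟨hb, Or.inr (sq b hb)⟩)

end Gen

variable {G Ω : Type u} [Group G] [Finite G] [MulAction G Ω] [Finite Ω] {A T : Ω → Subgroup G}
  {q : ℕ}

/-- `A R` -/
def ZD.UU (h : ZD A T q) (x b : Ω) : Subgroup G where
  carrier := {u | u ∈ T x ∧ ∃ a ∈ A x, a * u ∈ T b}
  one_mem' := ⟨one_mem _, 1, one_mem _, by simp⟩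
  mul_mem' := by
    rintro u v ⟨hu, a, ha, h1⟩ ⟨hv, a', ha', h2⟩
    refine ⟨mul_mem hu hv, a * a', mul_mem ha ha', H5.mem_of_eq (mul_mem h1 h2) ?_⟩
    rw [mul_assoc, ← mul_assoc u, ← h.cen x a' ha' u hu]; group
  inv_mem' := by
    rintro u ⟨hu, a, ha, h1⟩
    refine ⟨inv_mem hu, a, ha, H5.mem_of_eq (inv_mem h1) ?_⟩
    rw [h.cen x a ha u hu, mul_inv_rev, h.A_inv ha]

omit [Finite G] [Finite Ω] in
theorem ZD.mem_UU (h : ZD A T q) {x b : Ω} {u : G} :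
    u ∈ h.UU x b ↔ u ∈ T x ∧ ∃ a ∈ A x, a * u ∈ T b := Iff.rfl

omit [Finite G] [Finite Ω] in
theorem ZD.ncard_orbit_A (h : ZD A T q) {x b : Ω} (hne : b ≠ x) :
    {z | ∃ a ∈ A x, a • b = z}.ncard = q := by
  have h1 := card_eq_orbit_mul (A x) b
  have h2 : A x ⊓ St G b = ⊥ := eq_bot_iff.mpr fun a ha => by
    by_contra e
    exact hne (h.uniq x b a ha.1 e ha.2)
  rw [h2, card_bot, mul_one, h.card] at h1
  exact h1.symm

omit [Finite G] [Finite Ω] in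
theorem ZD.card_UU (h : ZD A T q) {x b : Ω} (hne : b ≠ x) :
    Nat.card (h.UU x b) = q * Nat.card ↥(T x ⊓ T b) := by
  rw [card_eq_orbit_mul _ b]
  congr 1
  · refine Eq.trans ?_ (h.ncard_orbit_A hne)
    congr 1; ext z
    constructor
    · rintro ⟨g, ⟨-, a, ha, h1⟩, rfl⟩
      refine ⟨a, ha, ?_⟩
      conv_lhs => rw [← h.T_fix h1]
      rw [← mul_smul, ← mul_assoc, h.sq x a ha, one_mul]
    · rintro ⟨a, ha, rfl⟩
      exact ⟨a, ⟨h.A_le x ha, a, ha, by rw [h.sq x a ha]; exact one_mem _⟩, rfl⟩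
  · exact congrArg _ (congrArg _ (le_antisymm
      (fun g hg => ⟨hg.1.1, (h.memT _ _).2 ⟨hg.2, h.T_two hg.1.1⟩⟩)
      fun g hg => ⟨⟨hg.1, 1, one_mem _, by simpa using hg.2⟩, h.T_fix hg.2⟩))

namespace Cx

variable (h : Cx A T q)
include h

theorem UU_cen {w u : G} {x b : Ω} (hne : b ≠ x) (hw : w * w = 1) (hx : w • x = x)
    (hb : w • b = b) (hu : u ∈ h.UU x b) : u * w = w * u := by
  obtain ⟨hu, a, ha, h1⟩ := hu
  have h2 := h.R_cen hne hx hb hw (mul_mem (h.A_le x ha) hu) h1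
  rw [← mul_assoc, ← h.cen x a ha w (h.T_of_sq hx hw), mul_assoc, mul_assoc] at h2
  exact mul_left_cancel h2

/-- `|T| = (n - 1)₂ |R|` -/
theorem card_T {w : G} (hw : Out A w) {x b : Ω} (hne : b ≠ x) {j o : ℕ} (ho : Odd o)
    (hn : Nat.card Ω = 2 ^ j * o + 1) : Nat.card (T x) = 2 ^ j * Nat.card ↥(T x ⊓ T b) := by
  have s1 := (h.sylow x).of_le (H := St G x) (fun g hg => h.T_fix hg) le_top
  have s2 : H5.IsSylowOf 2 (T x ⊓ T b) (St G x ⊓ St G b) := H5.isSylowOf_of_maximal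
    (fun g hg => ⟨h.T_fix hg.1, h.T_fix hg.2⟩) ((h.T_pgroup x).to_le inf_le_left)
    fun R hR _ hle g hg => ⟨(h.memT _ _).2 ⟨(hle hg).1, two_of_isPGroup hR hg⟩,
      (h.memT _ _).2 ⟨(hle hg).2, two_of_isPGroup hR hg⟩⟩
  have c1 := H5.card_mul_relIndex s1.le
  have c2 := H5.card_mul_relIndex s2.le
  have c3 := card_eq_orbit_mul (St G x) b
  have c4 : {z | ∃ g ∈ St G x, g • b = z} = {x}ᶜ := by
    ext z
    constructor
    · rintro ⟨g, hg, rfl⟩ e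
      exact hne (MulAction.injective g ((Set.mem_singleton_iff.mp e).trans (mem_St.mp hg).symm))
    · intro hz
      obtain ⟨g, g1, g2⟩ := h.two_trans hw hne.symm (Ne.symm hz)
      exact ⟨g, g1, g2⟩
  have c5 := Set.ncard_add_ncard_compl ({x} : Set Ω)
  rw [Set.ncard_singleton, hn] at c5
  rw [c4, show ({x}ᶜ : Set Ω).ncard = 2 ^ j * o by omega, ← c1, ← c2] at c3
  obtain ⟨k1, e1⟩ := s1.isPGroup.exists_card_eq
  obtain ⟨k2, e2⟩ := s2.isPGroup.exists_card_eq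
  rw [e1, e2] at c3 ⊢
  rw [← pow_add]
  refine two_pow_eq (Nat.odd_iff.mpr (Nat.two_dvd_ne_zero.mp s1.not_dvd))
    (ho.mul (Nat.odd_iff.mpr (Nat.two_dvd_ne_zero.mp s2.not_dvd))) ?_
  rw [c3]; ring

theorem eq_one_of_conj {w t r : G} (hw : Out A w) {x b : Ω} (hne : b ≠ x) (hx : w • x = x)
    (hb : w • b = b) (ht : t ∈ h.PW x w) (htw : t * w ≠ w * t) (rx : r ∈ T x) (rb : r ∈ T b)
    (h1 : (t * r * t⁻¹) • b = b) : r = 1 := by
  refine h.eq_one_of_fix hw hne.symm hx hb (h.T_two rx) (h.T_fix rx) (h.T_fix rb) (z := t⁻¹ • b)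
    (fun e => htw ?_) (by rwa [mul_smul, mul_smul, ← eq_inv_smul_iff] at h1)
  exact c1_iff.mp (inv_mem_iff.mp (c1_iff.mpr (h.cen_of_line hw hne hx hb (inv_mem ht.1) e)))

theorem rank_one {w : G} (hw : Out A w) {x b : Ω} (hne : b ≠ x) (hx : w • x = x)
    (hb : w • b = b) (hI : ∀ t, Out A t → t • x = x → t ∈ h.PW x w) :
    (∀ v, BS.Inv v → v • x = x → v • b = b → v = w) ∧
      ∀ y ∈ h.PW x w, y * w ≠ w * y → ∃ t, Out A t ∧ t • x = x ∧ y⁻¹ * t ∈ h.UU x b := by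
  obtain ⟨N, hN1, hN, hn⟩ := h.count h.faith hw
  have h4 := h.four
  set r := {v | Out A v ∧ v • x = x ∧ v • b = b}.ncard with hr
  have r1 : 0 < r := (Set.ncard_pos (Set.toFinite _)).mpr ⟨w, hw, hx, hb⟩
  have c1 := ncard_dc {t | Out A t ∧ t • x = x} ({x}ᶜ : Set Ω) (fun t z => t • z = z) (m := N)
    (n := r) (fun t ht => by
      have : {z | z ∈ ({x}ᶜ : Set Ω) ∧ t • z = z} = Fx Ω t \ {x} := by
        ext z; exact ⟨fun e => ⟨e.2, e.1⟩, fun e => ⟨e.2, e.1⟩⟩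
      rw [this, Set.ncard_sdiff_singleton_of_mem (mem_Fx.mpr ht.2),
        h.ncard_Fx_eq h.faith ht.1 hw, hN]
      rfl) (fun z hz => by
      obtain ⟨g, g1, g2⟩ := h.two_trans hw hne.symm (Ne.symm hz)
      rw [hr, ← Set.ncard_image_of_injective {v | Out A v ∧ v • x = x ∧ v • b = b}
        (MulAut.conj g).injective]
      congr 1; ext t
      constructor
      · rintro ⟨⟨h1, h2⟩, h3⟩
        refine ⟨g⁻¹ * t * g⁻¹⁻¹, ⟨h.Out_conj h1 _, ?_, ?_⟩, by simp [mul_assoc]⟩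
        · rw [← smul_inv_of g1]; exact conj_smul h2
        · rw [← inv_smul_eq_iff.mpr g2.symm]; exact conj_smul h3
      · rintro ⟨v, ⟨h1, h2, h3⟩, rfl⟩
        exact ⟨⟨h.Out_conj h1 g, g1 ▸ conj_smul h2⟩, g2 ▸ conj_smul h3⟩)
  have c2 := Set.ncard_add_ncard_compl ({x} : Set Ω)
  rw [Set.ncard_singleton, hn] at c2
  have c3 : ({x}ᶜ : Set Ω).ncard = (q + (q - 1) * N) * N := by
    obtain ⟨q', rfl⟩ : ∃ q', q = q' + 1 := ⟨q - 1, by omega⟩
    rw [Nat.add_sub_cancel] at c2 ⊢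
    nlinarith
  rw [c3, mul_right_comm] at c1
  have c4 := Nat.eq_of_mul_eq_mul_right hN1 c1
  have c5 := ncard_dc_le {t | (Out A t ∧ t • x = x) ∧ t * w = w * t}
    {v | Out A v ∧ v • x = x ∧ v • b = b} (fun t v => t⁻¹ * v ∈ A x) (m := 1) (n := q)
    (fun t ht => by
      have tx := h.T_of_sq ht.1.2 ht.1.1.1.2
      obtain ⟨a, ha, h1⟩ := h.sq_decomp hw hne hx hb tx ht.2 (by rw [ht.1.1.1.2, one_smul])
      rw [h.cen x a ha t tx] at h1
      exact (Set.ncard_pos (Set.toFinite _)).mpr ⟨t * a, ⟨h.Out_mul ht.1.1 ht.1.2 ha,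
        h.T_fix (mul_mem tx (h.A_le x ha)), h.T_fix h1⟩, by simpa using ha⟩)
    (fun v _ => by
      refine le_trans (Set.ncard_le_ncard fun t ht => ht.2) ?_
      exact ((ncard_coset (A x) v).trans (h.card x)).le)
  have c6 := Set.ncard_inter_add_ncard_sdiff_eq_ncard {t | Out A t ∧ t • x = x}
    {t | t * w = w * t}
  set I2 := {t | Out A t ∧ t • x = x} \ {t | t * w = w * t} with hI2
  set Gd := {y | (y ∈ h.PW x w ∧ y * w ≠ w * y) ∧ ∃ t, Out A t ∧ t • x = x ∧ y⁻¹ * t ∈ h.UU x b}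
    with hGd
  have UP : h.UU x b ≤ h.PW x w := fun u hu => ⟨hu.1, by
    rw [h.UU_cen hne hw.1.2 hx hb hu]; simp⟩
  have c7 := ncard_dc_le I2 Gd (fun t y => y⁻¹ * t ∈ h.UU x b)
    (m := q * Nat.card ↥(T x ⊓ T b)) (n := q) (fun t ht => by
      rw [← h.card_UU hne, ← ncard_coset _ t]
      refine Set.ncard_le_ncard fun y hy => ⟨⟨⟨?_, fun e => ht.2 ?_⟩, t, ht.1.1, ht.1.2, hy⟩, hy⟩
      · simpa using mul_mem (hI t ht.1.1 ht.1.2) (inv_mem (UP hy))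
      · have := mul_mem (c1_iff.mpr e) (c1_iff.mpr (h.UU_cen hne hw.1.2 hx hb hy))
        exact c1_iff.mp (by simpa using this))
    (fun y hy => by
      obtain ⟨⟨-, hyw⟩, t0, o0, f0, m0⟩ := hy
      refine le_trans (Set.ncard_le_ncard (t := {t | t⁻¹ * t0 ∈ A x}) fun t ht => ?_)
        ((ncard_coset (A x) t0).trans (h.card x)).le
      obtain ⟨u1, a, ha, h1⟩ : t⁻¹ * t0 ∈ h.UU x b := by
        simpa [mul_assoc] using mul_mem (inv_mem ht.2) m0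
      have tx := h.T_of_sq ht.1.1.2 ht.1.1.1.1.2
      have := h.eq_one_of_conj hw hne hx hb (hI t ht.1.1.1 ht.1.1.2) ht.1.2
        (mul_mem (h.A_le x ha) u1) h1 (by
          have e : t * (a * (t⁻¹ * t0)) * t⁻¹ = (a * (t⁻¹ * t0))⁻¹ := by
            rw [← mul_assoc, ← h.cen x a ha t tx, mul_inv_rev, mul_inv_rev, inv_inv, o0.1.inv,
              ht.1.1.1.1.inv, h.A_inv ha,
              ← h.cen x a ha _ (mul_mem (h.T_of_sq f0 o0.1.2) tx)]
            calc a * t * (t * t0) * t = a * (t * t) * t0 * t := by group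
              _ = a * (t0 * t) := by rw [ht.1.1.1.1.2]; group
          rw [e]; exact h.T_fix (inv_mem h1))
      show t⁻¹ * t0 ∈ A x
      rw [eq_inv_of_mul_eq_one_right this]
      exact inv_mem ha)
  have c8 : ((h.PW x w : Set G) \ (T x ⊓ Cen1 w : Subgroup G)).ncard =
      (q - 1) * N * Nat.card ↥(T x ⊓ T b) := by
    have : ((T x ⊓ Cen1 w : Subgroup G) : Set G) ⊆ h.PW x w :=
      fun g hg => ⟨hg.1, by rw [c1_iff'.mp hg.2]; simp⟩
    rw [Set.ncard_sdiff this, ncard_coe, ncard_coe,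
      h.card_PW hw hx, h.card_cen hw hne hx hb hN, mul_assoc, Nat.sub_mul, one_mul]
  have sub : Gd ⊆ (h.PW x w : Set G) \ (T x ⊓ Cen1 w : Subgroup G) := fun y hy =>
    ⟨hy.1.1, fun e => hy.1.2 (c1_iff.mp e.2)⟩
  have c9 := Set.ncard_le_ncard sub
  have c10 : ({t | Out A t ∧ t • x = x} ∩ {t | t * w = w * t}).ncard ≤ r * q := by
    rw [mul_one] at c5; exact c5
  have c11 : (q - 1) * N * r ≤ I2.ncard := by nlinarith
  have c12 : I2.ncard * Nat.card ↥(T x ⊓ T b) ≤ Gd.ncard :=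
    Nat.le_of_mul_le_mul_right (by nlinarith) (show 0 < q by omega)
  have p1 : 0 < (q - 1) * N * Nat.card ↥(T x ⊓ T b) :=
    Nat.mul_pos (Nat.mul_pos (by omega) hN1) Nat.card_pos
  have c13 : (q - 1) * N * Nat.card ↥(T x ⊓ T b) * r ≤ Gd.ncard := by
    refine le_trans ?_ c12
    rw [mul_right_comm]
    exact Nat.mul_le_mul_right _ c11
  have c14 : r = 1 := by
    have : r ≤ 1 := Nat.le_of_mul_le_mul_left (by omega) p1
    omega
  refine ⟨fun v hv vx vb => ?_, fun y hy hyw => ?_⟩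
  · exact (Set.ncard_le_one (Set.toFinite _)).mp c14.le v
      ⟨h.out_of_two hv hne.symm vx vb, vx, vb⟩ w ⟨hw, hx, hb⟩
  · have : Gd = _ := Set.eq_of_subset_of_ncard_le sub (by rw [c8]; simpa [c14] using c13)
    exact (show y ∈ Gd from this ▸ ⟨hy, fun e => hyw (c1_iff.mp e.2)⟩).2

end Cx

end Hz
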