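import Cfsg.Agent.Hz.Z6
import Cfsg.Agent.H2.TwoB

/-! The final contradictions. -/

set_option autoImplicit false

namespace Hz

open Cfsg Subgroup FT H4 BS

universe u

variable {G Ω : Type u} [Group G] [Finite G] [MulAction G Ω] [Finite Ω] {A T : Ω → Subgroup G}
  {q : ℕ}

namespace Cx

variable (h : Cx A T q)
include h

omit [Finite G] [Finite Ω] in
theorem UU_cases {w u : G} {x b : Ω} (hw : w * w = 1)
    (h1 : ∀ v, BS.Inv v → v • x = x → v • b = b → v = w)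
    (h2 : ∀ r ∈ T x, r ∈ T b → r * r = 1) (hu : u ∈ h.UU x b) : u ∈ A x ∨ u * w ∈ A x := by
  obtain ⟨hu, a, ha, h3⟩ := hu
  have h4 := mul_mem (h.A_le x ha) hu
  by_cases e : a * u = 1
  · left; rw [eq_inv_of_mul_eq_one_right e]; exact inv_mem ha
  · right
    have := h1 _ ⟨e, h2 _ h4 h3⟩ (h.T_fix h4) (h.T_fix h3)
    have e2 : a * (u * w) = 1 := by rw [← mul_assoc, this, hw]
    rw [eq_inv_of_mul_eq_one_right e2]; exact inv_mem ha

theorem big {w : G} (hw : Out A w) (hq : (Fx Ω w).ncard ≠ q + 1) : False := by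
  obtain ⟨hN0, hna⟩ := (h.ln hw).s4.resolve_left hq
  obtain ⟨-, x, -, -, -, hx, -⟩ := h.exists_two h.faith hw.1
  obtain ⟨b, hne, hb⟩ := h.exists_fix_ne h.faith hw x
  obtain ⟨N, hN1, hN, hn⟩ := h.count h.faith hw
  have h4 := h.four
  obtain ⟨k, hk⟩ := h.q_pow x
  have PT : ∀ t, Out A t → t • x = x → h.PW x t = T x := fun t ht tx => by
    obtain ⟨b', hne', tb⟩ := h.exists_fix_ne h.faith ht x
    obtain ⟨m, i, hm, e1, e2⟩ : ∃ m i, Even m ∧ N = q * m ∧ q * N = 2 ^ i := by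
      rcases hN0 with e | e
      · exact ⟨q, 3 * k, h.even_q x, by rw [← pow_two]; omega,
          by rw [show N = q ^ 2 by omega, hk]; ring⟩
      · exact ⟨q * q, 4 * k, (h.even_q x).mul_right q, by rw [← mul_assoc, ← pow_three']; omega,
          by rw [show N = q ^ 3 by omega, hk]; ring⟩
    refine eq_of_le_of_card_ge (fun y hy => hy.1) (le_of_eq ?_)
    rw [h.card_T hw hne' (j := i) (o := 1 + (q - 1) * m) (odd_one.add_even (hm.mul_left _)) (by
      rw [hn, ← e2, e1]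
      obtain ⟨q', rfl⟩ : ∃ q', q = q' + 1 := ⟨q - 1, by omega⟩
      rw [Nat.add_sub_cancel]; ring), h.card_PW ht tx,
      h.card_cen ht hne' tx tb ((h.ncard_Fx_eq h.faith ht hw).trans hN), ← e2, mul_assoc]
  obtain ⟨r1, r2⟩ := h.rank_one hw hne hx hb fun t ht tx => by
    rw [PT w hw hx]; exact h.T_of_sq tx ht.1.2
  have wx := h.T_of_sq hx hw.1.2
  have key : ∀ a ∈ A x, a ≠ 1 → ∀ s ∈ T x ⊓ Cen1 w, ∀ s' ∈ T x ⊓ Cen1 w,
      s⁻¹ * s'⁻¹ * s * s' ∈ zpowers a := fun a ha ha1 => by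
    obtain ⟨y, hy, e⟩ := h.fuse h.faith hw hx ha
    obtain ⟨t, ht, tx, hu⟩ := r2 y (by rw [PT w hw hx]; exact hy) fun e' => ha1 (by
      rw [e'] at e; simpa using e.symm)
    have tT := h.T_of_sq tx ht.1.2
    have e1 : t * w * t = w * a := by
      have := h.UU_cen hne hw.1.2 hx hb hu
      calc t * w * t = y * (y⁻¹ * t * w) * t := by group
        _ = y * w * y⁻¹ * (t * t) := by rw [this]; group
        _ = w * a := by rw [e, ht.1.2, mul_one]
    have tw : t * w ≠ w * t := fun e' => ha1 (by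
      rw [e', mul_assoc, ht.1.2] at e1; simpa using e1.symm)
    have hR : ∀ r ∈ T x, r ∈ T b → r * r = 1 := fun r rx rb => by
      have k1 : r * t * r⁻¹ * t⁻¹ ∈ A x := (show r ∈ h.PW x t by rw [PT t ht tx]; exact rx).2
      refine h.eq_one_of_conj hw hne hx hb (by rw [PT w hw hx]; exact tT) tw (mul_mem rx rx)
        (mul_mem rb rb) ?_
      have k2 := h.cen x _ k1 r rx
      have k3 := h.sq x _ k1
      have k4 : t * r * t⁻¹ = (r * t * r⁻¹ * t⁻¹)⁻¹ * r := by group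
      rw [h.A_inv k1] at k4
      generalize r * t * r⁻¹ * t⁻¹ = a1 at k2 k3 k4
      have : t * (r * r) * t⁻¹ = r * r := by
        calc t * (r * r) * t⁻¹ = (t * r * t⁻¹) * (t * r * t⁻¹) := by group
          _ = a1 * (r * a1) * r := by rw [k4]; group
          _ = r * r := by rw [← k2, ← mul_assoc, k3, one_mul]
      rw [this]; exact h.T_fix (mul_mem rb rb)
    have k0 : ∀ s ∈ T x ⊓ Cen1 w, ∃ e ∈ zpowers a, t * s * t = s⁻¹ * e := fun s hs => by
      obtain ⟨t', ht', tx', hu'⟩ := r2 (t * s) (by rw [PT w hw hx]; exact mul_mem tT hs.1)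
        fun e' => tw (c1_iff.mp (by simpa using mul_mem (c1_iff.mpr e') (inv_mem hs.2)))
      have e2 : t' = t * s * ((t * s)⁻¹ * t') := by group
      generalize (t * s)⁻¹ * t' = u at hu' e2
      have e3 : t * s * t * (t * u * t) = (s * u)⁻¹ := by
        refine eq_inv_of_mul_eq_one_left ?_
        calc t * s * t * (t * u * t) * (s * u) = t * s * (t * t) * u * t * s * u := by group
          _ = t' * t' := by rw [ht.1.2, e2]; group
          _ = 1 := ht'.1.2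
      rcases h.UU_cases hw.1.2 r1 hR hu' with k1 | k1
      · refine ⟨1, one_mem _, ?_⟩
        rw [← h.cen x u k1 t tT, mul_assoc u, ht.1.2, mul_one, ← h.cen x u k1 s hs.1, mul_inv_rev,
          h.A_inv k1] at e3
        simpa using e3
      · refine ⟨a, mem_zpowers a, ?_⟩
        have e4 : u = u * w * w := by rw [mul_assoc, hw.1.2, mul_one]
        generalize u * w = a1 at k1 e4
        subst e4
        have e5 : t * (a1 * w) * t = a1 * w * a := by
          rw [← mul_assoc, ← h.cen x a1 k1 t tT, mul_assoc, mul_assoc, ← mul_assoc t, e1, mul_assoc]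
        have e6 : (s * (a1 * w))⁻¹ = s⁻¹ * (a1 * w) := by
          rw [← mul_assoc, ← h.cen x a1 k1 s hs.1, mul_assoc, c1_iff.mp hs.2, mul_inv_rev,
            mul_inv_rev, h.A_inv k1, hw.1.inv, mul_assoc, ← h.cen x a1 k1 w wx]
        rw [e5, e6, ← h.cen x a ha _ (mul_mem (h.A_le x k1) wx), ← mul_assoc] at e3
        rw [← mul_right_cancel e3, mul_assoc _ a, h.sq x a ha, mul_one]
    intro s hs s' hs'
    obtain ⟨e1, m1, f1⟩ := k0 s hs
    obtain ⟨e2, m2, f2⟩ := k0 s' hs'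
    obtain ⟨e3, m3, f3⟩ := k0 _ (mul_mem hs hs')
    have hle : zpowers a ≤ A x := zpowers_le.mpr ha
    have f4 : s⁻¹ * s'⁻¹ * (e1 * e2) = (s * s')⁻¹ * e3 := by
      calc s⁻¹ * s'⁻¹ * (e1 * e2) = s⁻¹ * (s'⁻¹ * e1) * e2 := by group
        _ = (s⁻¹ * e1) * (s'⁻¹ * e2) := by rw [← h.cen x e1 (hle m1) _ (inv_mem hs'.1)]; group
        _ = t * s * (t * t) * s' * t := by rw [← f1, ← f2]; group
        _ = (s * s')⁻¹ * e3 := by rw [← f3, ht.1.2]; group
    have m4 := mul_mem m3 (inv_mem (mul_mem m1 m2))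
    refine H5.mem_of_eq m4 ?_
    calc e3 * (e1 * e2)⁻¹ = (s * s')⁻¹ * ((s * s') * (e3 * (e1 * e2)⁻¹)) := by group
      _ = (s * s')⁻¹ * e3 * (e1 * e2)⁻¹ * s * s' := by
        rw [← h.cen x _ (hle m4) _ (mul_mem hs.1 hs'.1)]; group
      _ = s⁻¹ * s'⁻¹ * s * s' := by rw [← f4]; group
  obtain ⟨y, hy, y', hy', z, -, hz⟩ := hna x hx
  obtain ⟨a, ha, ha1⟩ := h.exists_A x
  obtain ⟨a', ha', ha1', haa, -⟩ := h.exists_ne x a 1
  have : y⁻¹ * y'⁻¹ * y * y' = 1 := by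
    rcases (h.inv_of ha ha1).mem_zpowers (key a ha ha1 y hy y' hy') with e | e
    · exact e
    · exact ((h.inv_of ha' ha1').mem_zpowers (key a' ha' ha1' y hy y' hy')).resolve_right
        fun e' => haa (e'.symm.trans e)
  refine hz ?_
  rw [show y * y' = y' * y * (y⁻¹ * y'⁻¹ * y * y') by group, this, mul_one]

section Small

variable {w : G} (hw : Out A w) (hq : (Fx Ω w).ncard = q + 1)
include hw hq

theorem sm_line {t : G} (ht : Out A t) {x b z : Ω} (hne : b ≠ x) (tx : t • x = x)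
    (tb : t • b = b) (hz : z ≠ x) (tz : t • z = z) : ∃ a ∈ A x, a • b = z := by
  have : {z | ∃ a ∈ A x, a • b = z} = Fx Ω t \ {x} := by
    refine Set.eq_of_subset_of_ncard_le ?_ ?_
    · rintro _ ⟨a, ha, rfl⟩
      exact ⟨cen_smul (h.cen x a ha t (h.T_of_sq tx ht.1.2)) tb, fun e => hne
        (MulAction.injective a ((Set.mem_singleton_iff.mp e).trans (h.fix x a ha).symm))⟩
    · rw [h.ncard_orbit_A hne, Set.ncard_sdiff_singleton_of_mem (mem_Fx.mpr tx),
        h.ncard_Fx_eq h.faith ht hw, hq]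
      rfl
  exact (show z ∈ {z | ∃ a ∈ A x, a • b = z} from this ▸ ⟨tz, hz⟩)

theorem sm_UU {t y : G} (ht : Out A t) {x b : Ω} (hne : b ≠ x) (tx : t • x = x)
    (tb : t • b = b) (hy : y ∈ T x) (hc : y * t = t * y) : y ∈ h.UU x b := by
  obtain ⟨a, ha, e⟩ := h.sm_line hw hq ht (z := y • b) hne tx tb
    (fun e => hne (MulAction.injective y (e.trans (h.T_fix hy).symm))) (cen_smul hc tb)
  exact ⟨hy, a, ha, (h.memT _ _).2 ⟨by rw [mul_smul, ← e, ← mul_smul, h.sq x a ha, one_smul],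
    h.T_two (mul_mem (h.A_le x ha) hy)⟩⟩

theorem sm_sq {t y : G} (ht : Out A t) {x : Ω} (tx : t • x = x) (hy : y ∈ T x)
    (hc : y * t = t * y) : y * y = 1 := by
  obtain ⟨a, ha, ha1⟩ := h.exists_A x
  have hu := h.Out_mul ht tx ha
  have ux : (t * a) • x = x := by rw [mul_smul, h.fix x a ha, tx]
  have key : ∀ v, Out A v → v • x = x → y * v = v * y → ∀ b, b ≠ x → v • b = b →
      (y * y) • b = b := fun v hv vx hc b hne vb => by
    obtain ⟨-, a, ha, h1⟩ := h.sm_UU hw hq hv hne vx vb hy hc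
    have e : y * y = (a * y) * (a * y) := by
      rw [mul_assoc, ← mul_assoc y, ← h.cen x a ha y hy, ← mul_assoc, ← mul_assoc, h.sq x a ha,
        one_mul]
    rw [e]; exact h.T_fix (mul_mem h1 h1)
  obtain ⟨b, hne, tb⟩ := h.exists_fix_ne h.faith ht x
  obtain ⟨z, hz, uz⟩ := h.exists_fix_ne h.faith hu x
  exact h.eq_one_of_fix ht hne.symm tx tb (h.T_two (mul_mem hy hy)) (h.T_fix (mul_mem hy hy))
    (key t ht tx hc b hne tb) (h.not_fix ha ha1 hz uz ht.1.2) (key _ hu ux (by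
      rw [← mul_assoc, hc, mul_assoc, ← h.cen x a ha y hy, mul_assoc]) z hz uz)

theorem sm_card : Nat.card Ω = q ^ 3 + 1 := by
  obtain ⟨N, -, hN, hn⟩ := h.count h.faith hw
  have h4 := h.four
  rw [hn, show N = q by omega]
  obtain ⟨q', rfl⟩ : ∃ q', q = q' + 1 := ⟨q - 1, by omega⟩
  rw [Nat.add_sub_cancel]; ring

theorem sm_cardT {x b : Ω} (hne : b ≠ x) : Nat.card (T x) = q ^ 3 * Nat.card ↥(T x ⊓ T b) := by
  obtain ⟨k, hk⟩ := h.q_pow x
  rw [h.card_T hw hne (j := k * 3) odd_one (by rw [h.sm_card hw hq, hk, mul_one, pow_mul]), hk,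
    pow_mul]

theorem sm_trans {x b z : Ω} (hne : b ≠ x) (hz : z ≠ x) : ∃ g ∈ T x, g • b = z := by
  have c1 := card_eq_orbit_mul (T x) b
  have e : T x ⊓ St G b = T x ⊓ T b := le_antisymm
    (fun g hg => ⟨hg.1, (h.memT _ _).2 ⟨hg.2, h.T_two hg.1⟩⟩) fun g hg => ⟨hg.1, h.T_fix hg.2⟩
  rw [e, h.sm_cardT hw hq hne] at c1
  have c2 := Set.ncard_add_ncard_compl ({x} : Set Ω)
  rw [Set.ncard_singleton, h.sm_card hw hq] at c2
  have : {z | ∃ g ∈ T x, g • b = z} = {x}ᶜ := by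
    refine Set.eq_of_subset_of_ncard_le ?_ ?_
    · rintro _ ⟨g, hg, rfl⟩ e
      exact hne (MulAction.injective g ((Set.mem_singleton_iff.mp e).trans (h.T_fix hg).symm))
    · rw [← Nat.eq_of_mul_eq_mul_right Nat.card_pos c1]; omega
  exact (show z ∈ {z | ∃ g ∈ T x, g • b = z} from this ▸ hz)

omit hw hq [Finite Ω] in
theorem K_surj {x b : Ω} {c c' a : G} (hne : x ≠ b) (hc : InD A c) (hc' : InD A c')
    (e : c • x = b) (e' : c' • x = b) (hcc : c ≠ c') (ha : a ∈ A x) :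
    ∃ a' ∈ A x, c * c' * a' * (c * c')⁻¹ = a * a' := by
  have kx := h.K_fix hc e e'
  have hi : c * (c * c') * c = (c * c')⁻¹ := by
    rw [← mul_assoc, (h.D_inv hc).2, one_mul, mul_inv_rev, (h.D_inv hc).inv, (h.D_inv hc').inv]
  have ho := h.odd_K hne hc hc' e e'
  have k1 : c * c' ≠ 1 := fun e => hcc (by
    rw [← (h.D_inv hc').inv]; exact eq_inv_of_mul_eq_one_left e)
  generalize c * c' = k at kx hi ho k1
  let f : A x → A x := fun a => ⟨k * a * k⁻¹ * a⁻¹, mul_mem (h.conj' kx a.2) (inv_mem a.2)⟩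
  have hf : Function.Injective f := fun a1 a2 e12 => by
    have e3 : k * a1 * k⁻¹ * (a1 : G)⁻¹ = k * a2 * k⁻¹ * (a2 : G)⁻¹ := congrArg Subtype.val e12
    by_contra hn
    refine k1 (h.K_semi hne hc e hi ho kx (mul_mem (inv_mem a2.2) a1.2)
      (fun e4 => hn (Subtype.ext (inv_mul_eq_one.mp e4).symm)) ?_)
    calc k * ((a2 : G)⁻¹ * a1) = k * (a2 : G)⁻¹ * k⁻¹ * (k * a1 * k⁻¹ * (a1 : G)⁻¹) * a1 * k := by
          group
      _ = (a2 : G)⁻¹ * a1 * k := by rw [e3]; group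
  obtain ⟨a', e3⟩ := Finite.injective_iff_surjective.mp hf ⟨a, ha⟩
  exact ⟨a', a'.2, mul_inv_eq_iff_eq_mul.mp (congrArg Subtype.val e3)⟩

theorem sm_semi {x b : Ω} {c c' g : G} (hne : b ≠ x) (hx : w • x = x) (hb : w • b = b)
    (hc : InD A c) (hc' : InD A c') (e : c • x = b) (e' : c' • x = b) (hg : g ∈ T x)
    (hgP : g ∉ h.PW x w) (h1 : g⁻¹ * (c * c' * g * (c * c')⁻¹) ∈ h.PW x w) : c = c' := by
  by_contra hcc
  have kx := h.K_fix hc e e'
  have hi : c * (c * c') * c = (c * c')⁻¹ := by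
    rw [← mul_assoc, (h.D_inv hc).2, one_mul, mul_inv_rev, (h.D_inv hc).inv, (h.D_inv hc').inv]
  have ho := h.odd_K hne.symm hc hc' e e'
  have k1 : c * c' ≠ 1 := fun e => hcc (by
    rw [← (h.D_inv hc').inv]; exact eq_inv_of_mul_eq_one_left e)
  have wx := h.T_of_sq hx hw.1.2
  have wb := h.T_of_sq hb hw.1.2
  have kw : c * c' * w = w * (c * c') := by
    rw [mul_assoc, ← h.swap_cenT hne.symm hc' e' wx wb, ← mul_assoc,
      ← h.swap_cenT hne.symm hc e wx wb, mul_assoc]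
  have surj := fun a (ha : a ∈ A x) => h.K_surj hne.symm hc hc' e e' hcc ha
  have only := fun z (hz : (c * c') • z = z) => h.K_fix_only hne.symm hc e hi ho kx k1 hw hx hb hz
  generalize c * c' = k at kx kw surj only h1
  obtain ⟨a', ha', e1⟩ := surj _ h1.2
  obtain ⟨y, hy, e2⟩ := h.fuse h.faith hw hx ha'
  have yP : y ∈ h.PW x w := ⟨hy, by rw [e2, ← h.cen x a' ha' w wx]; simpa using ha'⟩
  have hv := h.Out_conj hw (g * y)
  have vx : (g * y * w * (g * y)⁻¹) • x = x := h.T_fix (h.T_conj' (h.T_fix (mul_mem hg hy)) wx)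
  have kv : k * (g * y * w * (g * y)⁻¹) = (g * y * w * (g * y)⁻¹) * k := by
    have e3 := h.cen x a' ha' g hg
    have e4 := h.cen x _ h1.2 g hg
    have e5 := h.cen x _ h1.2 w wx
    have e6 := h.sq x _ h1.2
    have e7 : k * g * k⁻¹ * w * (k * g * k⁻¹)⁻¹ = g * ((g⁻¹ * (k * g * k⁻¹)) * w *
        (g⁻¹ * (k * g * k⁻¹))⁻¹ * w⁻¹) * w * g⁻¹ := by group
    generalize (g⁻¹ * (k * g * k⁻¹)) * w * (g⁻¹ * (k * g * k⁻¹))⁻¹ * w⁻¹ = a at *
    have e8 : g * y * w * (g * y)⁻¹ = g * w * g⁻¹ * a' := by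
      calc g * y * w * (g * y)⁻¹ = g * (y * w * y⁻¹) * g⁻¹ := by group
        _ = g * w * g⁻¹ * (g * a') * g⁻¹ := by rw [e2]; group
        _ = g * w * g⁻¹ * a' := by rw [← e3]; group
    rw [e8, ← mul_inv_eq_iff_eq_mul]
    calc k * (g * w * g⁻¹ * a') * k⁻¹ =
          k * g * k⁻¹ * (k * w * k⁻¹) * (k * g * k⁻¹)⁻¹ * (k * a' * k⁻¹) := by group
      _ = g * a * w * g⁻¹ * (a * a') := by rw [kw, mul_inv_cancel_right, e7, e1]
      _ = g * (a * w) * g⁻¹ * (a * g) * g⁻¹ * a' := by group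
      _ = g * w * (a * a) * g⁻¹ * a' := by rw [e4, e5]; group
      _ = g * w * g⁻¹ * a' := by rw [e6, mul_one]
  obtain ⟨b', hne', vb⟩ := h.exists_fix_ne h.faith hv x
  obtain ⟨a1, ha1, e3⟩ := h.sm_line hw hq hv (z := k • b') hne' vx vb
    (fun e => hne' (MulAction.injective k (e.trans kx.symm))) (cen_smul kv vb)
  obtain ⟨a2, ha2, e4⟩ := surj _ ha1
  have e5 : k • a2 • b' = a2 • b' := by
    rw [← mul_smul, mul_inv_eq_iff_eq_mul.mp e4, mul_smul, ← e3, ← mul_smul, h.comm ha1 ha2,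
      mul_assoc, h.sq x a1 ha1, mul_one]
  have e6 : a2 • b' = b := (only _ e5).resolve_left
    fun e => hne' (MulAction.injective a2 (e.trans (h.fix x a2 ha2).symm))
  have e7 : (g * y * w * (g * y)⁻¹) • b = b := by
    rw [← e6]; exact cen_smul (h.cen x a2 ha2 _ (h.T_of_sq vx hv.1.2)) vb
  have e8 := h.cen_of_line hw hne hx hb (inv_mem (mul_mem hg hy))
    (by rwa [mul_smul, mul_smul, ← eq_inv_smul_iff] at e7)
  have e9 : (g * y)⁻¹ ∈ h.PW x w := ⟨inv_mem (mul_mem hg hy), by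
    rw [e8, mul_inv_cancel_right, mul_inv_cancel]; exact one_mem _⟩
  exact hgP (by simpa using inv_mem (mul_mem yP e9))

theorem sm_cardP {x b : Ω} (hne : b ≠ x) (hx : w • x = x) (hb : w • b = b) :
    Nat.card (T x) = q * Nat.card (h.PW x w) := by
  rw [h.sm_cardT hw hq hne, h.card_PW hw hx, h.card_cen hw hne hx hb hq]; ring

theorem sm_K {x : Ω} {g g' : G} (hx : w • x = x) (hg : g ∈ T x) (hgP : g ∉ h.PW x w)
    (hg' : g' ∈ T x) (hgP' : g' ∉ h.PW x w) :
    ∃ k, k • x = x ∧ k * w = w * k ∧ g'⁻¹ * (k * g * k⁻¹) ∈ h.PW x w := by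
  obtain ⟨b, hne, hb⟩ := h.exists_fix_ne h.faith hw x
  obtain ⟨c, hc, e⟩ := h.exists_swap' hne.symm
  have wx := h.T_of_sq hx hw.1.2
  have wb := h.T_of_sq hb hw.1.2
  have kw : ∀ c c', InD A c → InD A c' → c • x = b → c' • x = b → c * c' * w = w * (c * c') :=
    fun c c' hc hc' e e' => by
      rw [mul_assoc, ← h.swap_cenT hne.symm hc' e' wx wb, ← mul_assoc,
        ← h.swap_cenT hne.symm hc e wx wb, mul_assoc]
  have nP : ∀ k y : G, k • x = x → k * w = w * k → y ∈ h.PW x w → k * y * k⁻¹ ∈ h.PW x w :=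
    fun k y k1 k2 hy => ⟨h.T_conj' k1 hy.1, H5.mem_of_eq (h.conj' k1 hy.2) (by
      calc k * (y * w * y⁻¹ * w⁻¹) * k⁻¹ =
            k * y * k⁻¹ * (k * w * k⁻¹) * (k * y * k⁻¹)⁻¹ * (k * w * k⁻¹)⁻¹ := by group
        _ = _ := by rw [k2, mul_inv_cancel_right])⟩
  set Z := {g' | ∃ c', (InD A c' ∧ c' • x = b) ∧ g'⁻¹ * (c * c' * g * (c * c')⁻¹) ∈ h.PW x w}
    with hZ
  have c1 := ncard_dc_le {c' | InD A c' ∧ c' • x = b} Z
    (fun c' g' => g'⁻¹ * (c * c' * g * (c * c')⁻¹) ∈ h.PW x w) (m := Nat.card (h.PW x w)) (n := 1)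
    (fun c' hc' => by
      rw [← ncard_coset _ (c * c' * g * (c * c')⁻¹)]
      exact Set.ncard_le_ncard fun y hy => ⟨⟨c', hc', hy⟩, hy⟩)
    (fun g' _ => (Set.ncard_le_one (Set.toFinite _)).mpr fun c1 h1 c2 h2 => by
      refine h.sm_semi hw hq hne hx hb h1.1.1 h2.1.1 h1.1.2 h2.1.2 hg hgP ?_
      have := nP (c1 * c) _ (h.K_fix h1.1.1 h1.1.2 e) (kw c1 c h1.1.1 hc h1.1.2 e)
        (mul_mem (inv_mem h1.2) h2.2)
      refine H5.mem_of_eq this ?_
      have i1 := (h.D_inv h1.1.1).2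
      have i2 := (h.D_inv hc).2
      calc _ = (c1 * (c * c) * c1) * g⁻¹ * (c1 * (c * c) * c1)⁻¹ *
            (c1 * (c * c) * c2 * g * (c1 * (c * c) * c2)⁻¹) := by group
        _ = _ := by rw [i2, mul_one, i1]; group)
  have sub : Z ⊆ (T x : Set G) \ h.PW x w := by
    rintro y ⟨c', ⟨hc', e'⟩, hy⟩
    have k1 := h.K_fix hc e e'
    refine ⟨H5.mem_of_eq (mul_mem (h.T_conj' k1 hg) (inv_mem hy.1)) (by group),
      fun hyP => hgP ?_⟩
    have := nP (c * c')⁻¹ _ (smul_inv_of k1)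
      (c1_iff.mp (inv_mem (c1_iff.mpr (kw c c' hc hc' e e')))) (mul_mem hyP hy)
    exact H5.mem_of_eq this (by group)
  have c2 : ((T x : Set G) \ h.PW x w).ncard = (q - 1) * Nat.card (h.PW x w) := by
    have : (h.PW x w : Set G) ⊆ T x := fun y hy => hy.1
    rw [Set.ncard_sdiff this, ncard_coe, ncard_coe, h.sm_cardP hw hq hne hx hb, Nat.sub_mul,
      one_mul]
  rw [h.ncard_swap hne.symm, mul_one, ← c2] at c1
  obtain ⟨c', ⟨hc', e'⟩, h1⟩ : g' ∈ Z := (Set.eq_of_subset_of_ncard_le sub c1) ▸ ⟨hg', hgP'⟩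
  exact ⟨c * c', h.K_fix hc e e', kw c c' hc hc' e e', h1⟩

theorem sm_nor {x : Ω} (hx : w • x = x) : T x ≤ Nor (h.PW x w) ∧ ∀ g ∈ T x, g * g ∈ h.PW x w := by
  obtain ⟨b, hne, hb⟩ := h.exists_fix_ne h.faith hw x
  have h4 := h.four
  have hlt : h.PW x w < T x := lt_of_le_of_ne (fun y hy => hy.1) fun e => by
    have := h.sm_cardP hw hq hne hx hb
    rw [e] at this
    have := Nat.eq_of_mul_eq_mul_right Nat.card_pos ((one_mul _).trans this)
    omega
  have nP : ∀ k : G, k • x = x → k * w = w * k → k ∈ Nor (h.PW x w) :=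
    fun k k1 k2 => H5.mem_normalizer_of_forall fun y hy =>
      ⟨h.T_conj' k1 hy.1, H5.mem_of_eq (h.conj' k1 hy.2) (by
      calc k * (y * w * y⁻¹ * w⁻¹) * k⁻¹ =
            k * y * k⁻¹ * (k * w * k⁻¹) * (k * y * k⁻¹)⁻¹ * (k * w * k⁻¹)⁻¹ := by group
        _ = _ := by rw [k2, mul_inv_cancel_right])⟩
  obtain ⟨g, ⟨hg, gn⟩, hgP⟩ := SetLike.exists_of_lt
    (H5.lt_inf_normalizer_of_isPGroup (h.T_pgroup x) hlt)
  have hn : T x ≤ Nor (h.PW x w) := fun g' hg' => by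
    by_cases hgP' : g' ∈ h.PW x w
    · exact le_normalizer hgP'
    obtain ⟨k, k1, k2, k3⟩ := h.sm_K hw hq hx hg hgP hg' hgP'
    have := mul_mem (mul_mem (mul_mem (nP k k1 k2) gn) (inv_mem (nP k k1 k2)))
      (inv_mem (le_normalizer k3))
    exact H5.mem_of_eq this (by group)
  refine ⟨hn, fun g' hg' => ?_⟩
  by_cases hgP' : g' ∈ h.PW x w
  · exact mul_mem hgP' hgP'
  obtain ⟨i, i1, i2⟩ := (h.T_two hg).exists_move (x := ((1 : G) : G ⧸ h.PW x w))
    fun e => hgP (by simpa using smul_coe_eq_iff.mp e)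
  obtain ⟨k, k1, k2, k3⟩ := h.sm_K hw hq hx (pow_mem hg i)
    (fun e => i1 (smul_coe_eq_iff.mpr (by simpa using e))) hg' hgP'
  have i3 : g ^ i * g ^ i ∈ h.PW x w := by simpa using smul_coe_eq_iff.mp i2
  have i4 := (mem_normalizer_iff.mp (nP k k1 k2) _).mp i3
  have i5 := (mem_normalizer_iff.mp (hn hg') _).mp k3
  have i6 := (mem_normalizer_iff.mp (hn (mul_mem hg' hg')) _).mp k3
  exact H5.mem_of_eq (mul_mem (mul_mem (inv_mem i5) i4) (inv_mem k3)) (by group)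

theorem small (gen : ∀ M : Subgroup G, (∀ x, A x ≤ M) → M = ⊤) : False := by
  obtain ⟨-, x, -, -, -, hx, -⟩ := h.exists_two h.faith hw.1
  obtain ⟨b, hne, hb⟩ := h.exists_fix_ne h.faith hw x
  obtain ⟨hn, hsq⟩ := h.sm_nor hw hq hx
  have wx := h.T_of_sq hx hw.1.2
  have hI : ∀ t, Out A t → t • x = x → t ∈ h.PW x w := fun t ht tx => by
    obtain ⟨b', hne', tb⟩ := h.exists_fix_ne h.faith ht x
    obtain ⟨g, hg, e⟩ := h.sm_trans hw hq hne' hne
    have := h.R_cen hne hx hb hw.1.2 (h.T_conj' (h.T_fix hg) (h.T_of_sq tx ht.1.2))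
      (e ▸ h.T_conj g (h.T_of_sq tb ht.1.2))
    exact (mem_normalizer_iff.mp (hn hg) t).mpr
      ⟨h.T_conj' (h.T_fix hg) (h.T_of_sq tx ht.1.2), by
        rw [this, mul_inv_cancel_right, mul_inv_cancel]; exact one_mem _⟩
  obtain ⟨r1, r2⟩ := h.rank_one hw hne hx hb hI
  have cj : ∀ t, Out A t → t • x = x → ∃ g ∈ T x, t = g * w * g⁻¹ := fun t ht tx => by
    obtain ⟨b', hne', tb⟩ := h.exists_fix_ne h.faith ht x
    obtain ⟨g, hg, e⟩ := h.sm_trans hw hq hne' hne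
    refine ⟨g⁻¹, inv_mem hg, ?_⟩
    rw [← r1 _ (ht.1.conj g) (h.T_fix hg ▸ conj_smul tx) (e ▸ conj_smul tb)]; group
  have hR : ∀ r ∈ T x, r ∈ T b → r * r = 1 := fun r rx rb =>
    h.sm_sq hw hq hw hx rx (h.R_cen hne hx hb hw.1.2 rx rb)
  have cw : ∀ t, Out A t → t • x = x → t * w = w * t → t * w ∈ A x := fun t ht tx e =>
    (h.UU_cases hw.1.2 r1 hR (h.sm_UU hw hq hw hne hx hb (h.T_of_sq tx ht.1.2) e)).resolve_left
      fun e => ht.2 ⟨x, e, ht.1.1⟩
  have notout : ∀ t t' a, Out A t → t • x = x → Out A t' → t' • x = x → a ∈ A x →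
      ¬ Out A (t * t' * a) := fun t t' a ht tx ht' tx' ha ho => by
    have m1 := mul_mem (h.T_of_sq tx ht.1.2) (h.T_of_sq tx' ht'.1.2)
    have e1 : t * t' * (t * t') = 1 := by
      rw [← ho.1.2, mul_assoc _ a, ← mul_assoc a, h.cen x a ha _ m1, mul_assoc _ a,
        h.sq x a ha, mul_one]
    have e2 : t * t' = t' * t := by
      rw [← inv_eq_self_of_sq e1, mul_inv_rev, ht.1.inv, ht'.1.inv]
    obtain ⟨g, hg, rfl⟩ := cj t' ht' tx'
    have := cw _ (h.Out_conj ht g⁻¹) (h.T_fix (inv_mem hg) ▸ conj_smul tx) (by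
      calc g⁻¹ * t * g⁻¹⁻¹ * w = g⁻¹ * (t * (g * w * g⁻¹)) * g := by group
        _ = w * (g⁻¹ * t * g⁻¹⁻¹) := by rw [e2]; group)
    exact ho.2 ⟨x, mul_mem (H5.mem_of_eq (h.conj' (h.T_fix hg) this) (by group)) ha, ho.1.1⟩
  have dec : ∀ y ∈ h.PW x w, ¬ Out A y → ∃ t, Out A t ∧ t • x = x ∧ y = t * w := fun y hy ho => by
    have cA : ∀ t u, Out A t → t • x = x → u ∈ h.UU x b → y = t * u → ∃ t, Out A t ∧ t • x = x ∧
        y = t * w := fun t u ht tx hu e => by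
      rcases h.UU_cases hw.1.2 r1 hR hu with k | k
      · exact absurd (e ▸ h.Out_mul ht tx k) ho
      · exact ⟨_, h.Out_mul ht tx k, by rw [mul_smul, h.fix x _ k, tx],
          by rw [e, mul_assoc, mul_assoc, hw.1.2, mul_one]⟩
    by_cases hyw : y * w = w * y
    · exact cA w (w * y) hw hx (h.sm_UU hw hq hw hne hx hb (mul_mem wx hy.1)
        (by rw [mul_assoc, hyw])) (by rw [← mul_assoc, hw.1.2, one_mul])
    · obtain ⟨t, ht, tx, hu⟩ := r2 y hy hyw
      exact cA t _ ht tx (inv_mem hu) (by group)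
  let J : Subgroup G :=
    { carrier := {y | y ∈ h.PW x w ∧ ¬ Out A y}
      one_mem' := ⟨one_mem _, fun e => e.1.1 rfl⟩
      mul_mem' := by
        rintro y y' ⟨hy, k1⟩ ⟨hy', k2⟩
        refine ⟨mul_mem hy hy', ?_⟩
        obtain ⟨t, ht, tx, rfl⟩ := dec y hy k1
        obtain ⟨t', ht', tx', rfl⟩ := dec y' hy' k2
        have k3 := (hI t' ht' tx').2
        rw [ht'.1.inv, hw.1.inv] at k3
        have := notout t t' _ ht tx ht' tx' k3
        rwa [show t * t' * (t' * w * t' * w) = t * (t' * t') * w * t' * w by group, ht'.1.2,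
          mul_one, mul_assoc _ t'] at this
      inv_mem' := by
        rintro y ⟨hy, k1⟩
        refine ⟨inv_mem hy, fun e => k1 ?_⟩
        have := e.1.inv
        rw [inv_inv] at this
        rwa [this] }
  obtain ⟨M, JM, MT, wM, hM⟩ := exists_index_two (T := T x) (J := J) (fun y hy => hy.1.1)
    (fun y hy => ⟨hsq y hy, fun e => e.1.1 (h.sm_sq hw hq e (h.T_fix (mul_mem hy hy)) hy
      (by rw [mul_assoc]))⟩) wx fun e => e.2 hw
  refine (H2.transfer_large_order (G := G) (fun H hH => ?_) (T x) ?_ M hM 1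
    (fun y _ hy => ?_) w hw.1.orderOf).elim fun g hg => ?_
  rotate_left 3
  · have ht := h.Out_conj hw g
    have tx := h.T_fix (MT hg)
    have : g * w * g⁻¹ * w ∈ J := ⟨mul_mem (hI _ ht tx) (hI w hw hx), by
      simpa using notout _ w 1 ht tx hw hx (one_mem _)⟩
    exact wM (H5.mem_of_eq (mul_mem (inv_mem hg) (JM this)) (by group))
  · haveI := normal_of_index_eq_two hH
    have : H = ⊤ := gen H fun z a ha => by
      by_contra hna
      have ha1 : a ≠ 1 := fun e => hna (e ▸ one_mem _)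
      obtain ⟨z', hz'⟩ : ∃ z', z ≠ z' := by
        by_cases e : z = x
        · exact ⟨b, e ▸ hne.symm⟩
        · exact ⟨x, e⟩
      have k : ∀ a' ∈ A z, a' ≠ 1 → a' ∉ H := fun a' ha' h1 e => by
        obtain ⟨g, -, g2⟩ := h.conj_cen Two.one (one_smul _ _) (one_smul _ _) hz' (one_smul _ _)
          ha' h1 ha ha1
        exact hna (g2 ▸ (inferInstance : H.Normal).conj_mem _ e g)
      obtain ⟨a', ha', h1, h2, -⟩ := h.exists_ne z a 1
      exact k _ (mul_mem ha' ha) (fun e => h2 (by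
        rw [← h.A_inv ha]; exact eq_inv_of_mul_eq_one_left e))
        ((mul_mem_iff_of_index_two hH).mpr (iff_of_false (k a' ha' h1) hna))
    rw [this, index_top] at hH
    omega
  · have := (h.sylow x).not_dvd
    rw [relIndex_top_right] at this
    exact Nat.odd_iff.mpr (Nat.two_dvd_ne_zero.mp this)
  · have : orderOf y ≠ 1 := fun e => hy (orderOf_eq_one_iff.mp e ▸ one_mem _)
    have := orderOf_pos y
    simp only [Nat.sub_self, pow_zero]
    omega

end Small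

end Cx

end Hz
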