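import Cfsg.Agent.Hz.Z7

/-! The theorem: under `ZD`, a 2-element fixing two points fixes all points. -/

set_option autoImplicit false

namespace Hz

open Cfsg Subgroup FT H4 BS
open scoped commutatorElement

universe u

variable {G Ω : Type u} [Group G] [Finite G] [MulAction G Ω] [Finite Ω] {A T : Ω → Subgroup G}
  {q : ℕ}

namespace Cx

variable (h : Cx A T q)
include h

theorem all_of_gen (gen : ∀ M : Subgroup G, (∀ x, A x ≤ M) → M = ⊤) (t : G) (ht : BS.Inv t) :
    InD A t := by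
  by_contra hn
  by_cases hq : (Fx Ω t).ncard = q + 1
  · exact h.small ⟨ht, hn⟩ hq gen
  · exact h.big ⟨ht, hn⟩ hq

theorem all (p : G) (hp : BS.Inv p) : InD A p := by
  by_contra hn
  have ho : Out A p := ⟨hp, hn⟩
  set X := ⨆ w, A w with hX
  haveI : X.Normal := h.normal_X
  have hA : ∀ x, A x ≤ X := le_iSup A
  have cX : Cx (fun x => (A x).subgroupOf X) (fun x => (T x).subgroupOf X) q :=
    ⟨h.toZD.sub hA, fun g hg => Subtype.ext (h.faith g hg), h.ih⟩
  have aX := cX.all_of_gen fun M hM => eq_top_iff.mpr fun g _ => by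
    have : X ≤ M.map X.subtype := iSup_le fun x a ha => ⟨⟨a, hA x ha⟩, hM x ha, rfl⟩
    obtain ⟨m, hm, e⟩ := this g.2
    exact (Subtype.ext e : m = g) ▸ hm
  obtain ⟨-, x, -, -, -, hx, -⟩ := h.exists_two h.faith hp
  obtain ⟨b, hne, hb⟩ := h.exists_fix_ne h.faith ho x
  have c := cX.cn_of_all cX.faith aX hne
  have reg : ∀ g ∈ X, ∀ y z : Ω, y ≠ z → g ∈ T y → g • z = z → g = 1 := fun g hg y z e h1 h2 =>
    h.faith g (c.s1 ⟨g, hg⟩ (two_coe.mp (h.T_two h1)) y z e (h.T_fix h1) h2)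
  have tr : ∀ x y z : Ω, y ≠ x → z ≠ x → ∃ s ∈ T x, s ∈ X ∧ s • y = z := fun x y z h1 h2 => by
    obtain ⟨s, hs, -, e⟩ := c.s2 x y z h1 h2
    exact ⟨s, hs, s.2, e⟩
  have hq : (Fx Ω p).ncard = q + 1 := by
    obtain ⟨N, -, hN, hc⟩ := h.count h.faith ho
    have h4 := h.four
    have k1 : q ^ 1 ≤ q ^ 2 := Nat.pow_le_pow_right (by omega) (by omega)
    have k2 : q ^ 2 ≤ q ^ 3 := Nat.pow_le_pow_right (by omega) (by omega)
    rw [pow_one] at k1
    have k3 : q ≤ N := by have := h.N_cases ho hN; omega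
    have k4 : Nat.card Ω ≤ q ^ 3 + 1 := by have := c.s4; omega
    have k5 : (q + 1) * (1 + (q - 1) * q) = q ^ 3 + 1 := by
      obtain ⟨q', rfl⟩ : ∃ q', q = q' + 1 := ⟨q - 1, by omega⟩
      rw [Nat.add_sub_cancel]; ring
    by_contra hne
    have : (q + 1) * (1 + (q - 1) * q) < (N + 1) * (1 + (q - 1) * N) :=
      Nat.mul_lt_mul_of_lt_of_le (by omega) (Nat.add_le_add_left (Nat.mul_le_mul_left _ k3) _)
        (by positivity)
    omega
  obtain ⟨⟨w, wX⟩, w1, wo, wb, wc⟩ := cX.exists_w cX.faith aX hne.symm (h.sm_card ho hq)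
  replace w1 : w ≠ 1 := fun e => w1 (Subtype.ext e)
  replace wo : Odd (orderOf w) := by rwa [← orderOf_coe] at wo
  replace wb : w • b = b := wb
  replace wc : ∀ a ∈ A x, w * a = a * w := fun a ha => congrArg Subtype.val (wc ⟨a, hA x ha⟩ ha)
  obtain ⟨a, ha, ha1⟩ := h.exists_A x
  have wx := h.cen_fix ha ha1 (wc a ha)
  have px := h.T_of_sq hx hp.2
  have pw : p * w = w * p := comm_of_eq_one (reg _
    (mul_mem ((inferInstance : X.Normal).conj_mem _ wX p) (inv_mem wX)) x b hne.symm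
    (H5.mem_of_eq (mul_mem px (h.T_conj' wx (inv_mem px))) (by group))
    (by rw [mul_smul, mul_smul, mul_smul, smul_inv_of wb, smul_inv_of hb, wb, hb]))
  have l := h.ln_fx w1 (fun z hz => by
    by_cases e : z = x
    · exact fun a ha => c1_iff.mpr (wc a (e ▸ ha)).symm
    obtain ⟨s, hs, sX, e1⟩ := tr z x (a • z) (Ne.symm e) fun e' => e (h.uniq x z a ha ha1 e')
    have k1 : w * s = s * w := by
      have := reg _ (mul_mem (inv_mem sX) ((inferInstance : X.Normal).conj_mem _ sX w)) z x e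
        (mul_mem (inv_mem hs) (h.T_conj' hz hs)) (by
          rw [mul_smul, mul_smul, mul_smul, smul_inv_of wx, e1, ← mul_smul w, wc a ha, mul_smul,
            mem_Fx.mp hz, ← e1, inv_smul_smul])
      exact mul_inv_eq_iff_eq_mul.mp (inv_mul_eq_one.mp this).symm
    obtain ⟨k, hk⟩ := (h.T_two hs).exists_inv fun e' => e (by
      rw [e', one_smul] at e1
      exact MulAction.injective a (e1.symm.trans (h.fix x a ha).symm))
    obtain ⟨y, hy, hy1⟩ := aX ⟨s ^ k, pow_mem sX k⟩ ⟨fun e => hk.1 (congrArg Subtype.val e),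
      Subtype.ext hk.2⟩
    have k2 := h.mem_A ⟨y, hy, hk.1⟩ (h.T_fix (pow_mem hs k))
    intro a' ha'
    by_cases e' : a' = 1
    · rw [e']; exact one_mem _
    obtain ⟨d, hd, d1, d2, -⟩ := h.exists_swap ha ha1 ha' e' (Ne.symm e)
    have k3 := h.swap_cen k2 hk.1 e hd (h.D_swap hd d1) (pow_comm_of k1.symm k).symm
      (wc _ (h.D_conj_mem hd (h.D_swap hd d1) k2))
    rw [← d2]
    exact mul_mem (mul_mem (c1_iff.mpr k3.symm) (c1_iff.mpr (wc a ha).symm)) (c1_iff.mpr k3.symm))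
    wx wb hne.symm
  have fx := l.s1 p (c1_iff.mpr pw) (Two.of_sq hp.2) x wx b wb hne.symm hx hb
  have cp : ∀ s ∈ T x, s ∈ X → s * p = p * s → s ∈ A x := fun s hs sX e => by
    obtain ⟨a, ha, e1⟩ := h.sm_line ho hq ho (z := s • b) hne hx hb
      (fun e => hne (MulAction.injective s (e.trans (h.T_fix hs).symm))) (cen_smul e hb)
    have := reg _ (mul_mem (inv_mem (hA x ha)) sX) x b hne.symm
      (mul_mem (inv_mem (h.A_le x ha)) hs) (by rw [mul_smul, ← e1, inv_smul_smul])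
    exact inv_mul_eq_one.mp this ▸ ha
  obtain ⟨u, ⟨uT, uX⟩, uA, hu, -⟩ := H7.exists_central_mod (p := 2) (P := T x) (K := T x ⊓ X)
    (N := A x) (h.T_pgroup x) inf_le_left (le_normalizer_inf le_normalizer le_normalizer_of_normal)
    (by
      obtain ⟨-, -, z, -, -, -, -, -⟩ := h.exists_two h.faith hp
      obtain ⟨z, hz⟩ : ∃ z : Ω, p • z ≠ z := by
        by_contra hn
        push Not at hn
        exact hp.1 (h.faith p hn)
      obtain ⟨s, hs, sX, e⟩ := tr x b z hne fun e => hz (e ▸ hx)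
      exact fun hle => hz (e ▸ cen_smul (h.cen x s (hle ⟨hs, sX⟩) p px) hb))
  have a0 := hu p px
  rw [commutatorElement_def] at a0
  have k1 : u⁻¹ * (w * u * w⁻¹) ∈ A x := cp _ (mul_mem (inv_mem uT) (h.T_conj' wx uT))
    (mul_mem (inv_mem uX) ((inferInstance : X.Normal).conj_mem _ uX w)) (by
      have := wc _ a0
      calc u⁻¹ * (w * u * w⁻¹) * p = u⁻¹ * w * u * (w⁻¹ * (p * w)) * w⁻¹ := by group
        _ = u⁻¹ * (w * (u * p * u⁻¹ * p⁻¹)) * (p * u * w⁻¹) := by rw [pw]; group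
        _ = p * u⁻¹ * p⁻¹ * (w * p) * u * w⁻¹ := by rw [this]; group
        _ = p * (u⁻¹ * (w * u * w⁻¹)) := by rw [← pw]; group)
  have k2 : w * w * u = u * (w * w) := by
    have e1 := wc _ k1
    have e2 := h.sq x _ k1
    have e3 : w * u = u * (u⁻¹ * (w * u * w⁻¹)) * w := by group
    generalize u⁻¹ * (w * u * w⁻¹) = v at e1 e2 e3
    calc w * w * u = w * u * v * w := by rw [mul_assoc w w u, e3, ← mul_assoc, ← mul_assoc, e3]
      _ = u * v * (w * v) * w := by rw [e3]; group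
      _ = u * (v * v) * (w * w) := by rw [e1]; group
      _ = u * (w * w) := by rw [e2, mul_one]
  have k3 : u * w = w * u := by
    obtain ⟨k, hk⟩ := wo
    have : w = (w * w) ^ (k + 1) := by
      rw [← pow_two, ← pow_mul, show 2 * (k + 1) = orderOf w + 1 by omega, pow_succ,
        pow_orderOf_eq_one, one_mul]
    rw [this, pow_comm_of k2]
  have k4 := reg _ (mul_mem (inv_mem uX) ((inferInstance : X.Normal).conj_mem _ uX p)) x b hne.symm
    (mul_mem (inv_mem uT) (h.T_conj' hx uT)) (by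
      rw [mul_smul, mul_smul, mul_smul, smul_inv_of hb, fx _ (cen_smul k3 wb), inv_smul_smul])
  exact uA (cp u uT uX (mul_inv_eq_iff_eq_mul.mp (inv_mul_eq_one.mp k4).symm).symm)

end Cx

theorem ihz (n : ℕ) : IHZ.{u} n := by
  induction n using Nat.strong_induction_on with
  | _ n ih =>
  intro G Ω _ _ _ _ A T q h hn x y hne
  let f := (MulAction.toPermHom G Ω).rangeRestrict
  have hc : ∀ g (x : Ω), f g • x = g • x := fun _ _ => rfl
  have c : Cx (fun x => (A x).map f) (fun x => (T x).map f) q :=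
    ⟨h.map (MonoidHom.rangeRestrict_surjective _) hc hne,
      fun g hg => Subtype.ext (Equiv.ext hg), ih _ hn⟩
  exact Cn.of_map h hc (c.cn_of_all c.faith c.all hne)

/-- the theorem -/
theorem ZD.cn (h : ZD A T q) {x y : Ω} (hne : x ≠ y) : Cn A T q :=
  ihz _ G Ω A T q h (Nat.lt_succ_self _) x y hne

/-- the theorem, faithful case: all involutions lie in `D` -/
theorem ZD.all (h : ZD A T q) (hf : Faith G Ω) (t : G) (ht : BS.Inv t) : InD A t :=
  Cx.all ⟨h, hf, ihz _⟩ t ht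

theorem ZD.ln' (h : ZD A T q) {M : Subgroup G} {Δ : Set Ω}
    (hM : ∀ g ∈ M, ∀ x ∈ Δ, g • x ∈ Δ) (hA : ∀ x ∈ Δ, A x ≤ M) {x y : Ω}
    (hx : x ∈ Δ) (hy : y ∈ Δ) (hne : x ≠ y) : Ln A T q M Δ := by
  let S : SubMulAction M Ω := ⟨Δ, fun g x hx => hM g g.2 x hx⟩
  exact Ln.of_cn S ((h.restrict S hA).cn (x := ⟨x, hx⟩) (y := ⟨y, hy⟩)
    fun e => hne (congrArg Subtype.val e))

end Hz
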